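import Mathlib
import Cfsg.Agent.TwoFusion.SectionalRank

/-!
# GH-L2, `m_2(Q) = 2`: the abstract system behind `blueprints/GH-L2-T1.md`

`X` is a set of involutions, `K y`, `F y` are normal subgroups of `C(y)` (`y ∈ X`):
`K y` the 2-component, `F y` the elements of `C(y)` fixing `K y / O(K y)`.
The fields of `Sys` are the facts (a)-(i) of the blueprint.
-/

set_option autoImplicit false

namespace Cfsg.Agent.GH.TOne

open Subgroup
open Cfsg.Agent.TwoFusion.SectionalRank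

variable {G : Type*} [Group G]

/-- `x` is an involution. -/
structure Inv (x : G) : Prop where
  sq : x * x = 1
  ne : x ≠ 1

/-- `T` is a Sylow 2-subgroup of `C(y)`. -/
structure SylC (y : G) (T : Subgroup G) : Prop where
  two : IsPGroup 2 T
  cent : ∀ x ∈ T, x * y = y * x
  max : ∀ P : Subgroup G, IsPGroup 2 P → (∀ x ∈ P, x * y = y * x) → Nat.card P ≤ Nat.card T

/-- `D = ⟨r, s⟩` is dihedral of order `2 ^ n` (a four-group for `n = 2`). -/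
structure Dih (n : ℕ) (D : Subgroup G) (r s : G) : Prop where
  rmem : r ∈ D
  smem : s ∈ D
  ord : orderOf r = 2 ^ (n - 1)
  sq : s * s = 1
  rel : s * r * s = r⁻¹
  notMem : s ∉ zpowers r
  exh : ∀ x ∈ D, ∃ i : ℕ, x = r ^ i ∨ x = r ^ i * s

/-- `e` centralizes a four-group of `D`. -/
def FType (D : Subgroup G) (e : G) : Prop :=
  ∃ a ∈ D, ∃ b ∈ D, Inv a ∧ Inv b ∧ a ≠ b ∧ a * b = b * a ∧ e * a = a * e ∧ e * b = b * e

/-- The involution `e` acts on `D = ⟨r, s⟩` as an outer involution of a dihedral group of order `2 |D|`. -/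
structure DType (n : ℕ) (D : Subgroup G) (e r s : G) : Prop where
  dih : Dih n D r s
  er : e * r * e = r⁻¹
  es : e * s * e = s * r

/-- `x` acts on `K y` as an inner automorphism (mod core). -/
def Inner (K F : G → Subgroup G) (y x : G) : Prop := ∃ f ∈ F y, ∃ k ∈ K y, x = f * k

/-- The abstract system (blueprint GH-L2-T1, facts (a)-(i)). -/
structure Sys (X : Set G) (K F : G → Subgroup G) (n : ℕ) : Prop where
  two_le : 2 ≤ n
  inv : ∀ y ∈ X, Inv y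
  conj : ∀ y ∈ X, ∀ g : G, g * y * g⁻¹ ∈ X
  conjK : ∀ y ∈ X, ∀ g : G, ∀ k ∈ K y, g * k * g⁻¹ ∈ K (g * y * g⁻¹)
  conjF : ∀ y ∈ X, ∀ g : G, ∀ f ∈ F y, g * f * g⁻¹ ∈ F (g * y * g⁻¹)
  centK : ∀ y ∈ X, ∀ k ∈ K y, k * y = y * k
  centF : ∀ y ∈ X, ∀ f ∈ F y, f * y = y * f
  self : ∀ y ∈ X, y ∈ F y
  /-- `K y ∩ F y` has odd order -/
  disj : ∀ y ∈ X, ∀ x ∈ K y, x ∈ F y → x * x = 1 → x = 1
  closed : ∀ y ∈ X, ∀ t ∈ F y, Inv t → t ∈ X
  rich : ∀ y ∈ X, ∃ t ∈ F y, Inv t ∧ t ≠ y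
  /-- sharing of `K y` and `K t` for `y ~~ t` -/
  share : ∀ y ∈ X, ∀ t ∈ X, t ∈ F y → ∀ x : G, x * y = y * x → x * t = t * x → x ∈ F y → x ∈ F t
  shareK : ∀ y ∈ X, ∀ t ∈ X, t ∈ F y → ∀ x : G, x * y = y * x → x * t = t * x → IsPGroup 2 (zpowers x) →
    x ∈ K y → x ∈ K t
  shareI : ∀ y ∈ X, ∀ t ∈ X, t ∈ F y → ∀ x : G, x * y = y * x → x * t = t * x → Inner K F y x →
    Inner K F t x
  /-- one class of involutions in `K y` -/
  one : ∀ y ∈ X, ∀ a ∈ K y, ∀ b ∈ K y, Inv a → Inv b → ∃ k ∈ K y, k * a * k⁻¹ = b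
  /-- an element of order 3 on a four-group of `K y`, centralizing a 2-subgroup `P` of `F y` -/
  rho : ∀ y ∈ X, ∀ a ∈ K y, ∀ b ∈ K y, Inv a → Inv b → a ≠ b → a * b = b * a →
    ∀ P : Subgroup G, IsPGroup 2 P → P ≤ F y → (∀ p ∈ P, p * a = a * p ∧ p * b = b * p) →
    ∃ c : G, c * a * c⁻¹ = b ∧ c * b * c⁻¹ = a * b ∧ ∀ p ∈ P, c * p = p * c
  /-- `Z*` in `K y ⟨t⟩` -/
  zstar : ∀ y ∈ X, ∀ t : G, Inv t → t * y = y * t → t ∉ F y →
    ∃ v ∈ K y, Inv v ∧ v * t = t * v ∧ ∃ k ∈ K y, k * t * k⁻¹ = t * v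
  /-- inner elements of `T` lie in `Q D` -/
  split : ∀ y ∈ X, ∀ T : Subgroup G, SylC y T → ∀ x ∈ T, Inner K F y x → ∃ q ∈ T ⊓ F y, ∃ d ∈ T ⊓ K y, x = q * d
  dih : ∀ y ∈ X, ∀ T : Subgroup G, SylC y T → ∃ r s : G, Dih n (T ⊓ K y) r s
  /-- no involution of `T` acts as diagonal times field -/
  outer_mul : ∀ y ∈ X, ∀ T : Subgroup G, SylC y T → ∀ e ∈ T, ∀ e' ∈ T, Inv e → Inv e' → e * e' = e' * e →
    e ≠ e' → ¬ Inner K F y e → ¬ Inner K F y e' → Inner K F y (e * e')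
  outer_type : ∀ y ∈ X, ∀ T : Subgroup G, SylC y T → ∀ e ∈ T, Inv e → ¬ Inner K F y e →
    (FType (T ⊓ K y) e ∧ 3 ≤ n) ∨ ∃ r s : G, DType n (T ⊓ K y) e r s
  /-- a non-inner element whose square is inner and which fixes a class of noncentral involutions of `D`
  acts as an inner automorphism times a field automorphism centralizing `D` -/
  outer_field : 3 ≤ n → ∀ y ∈ X, ∀ T : Subgroup G, SylC y T → ∀ t ∈ T, ¬ Inner K F y t → Inner K F y (t * t) →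
    (∃ a ∈ T ⊓ K y, Inv a ∧ (∃ x ∈ T ⊓ K y, x * a ≠ a * x) ∧ ∃ d ∈ T ⊓ K y, t * a * t⁻¹ = d * a * d⁻¹) →
    ∃ b ∈ T ⊓ K y, (∀ x ∈ T ⊓ K y, t * b * x = x * (t * b)) ∧ t * b * (t * b) ∈ F y

/-- Sectional 2-rank at most 4. -/
def RankFour (G : Type*) [Group G] : Prop :=
  ∀ A B : Subgroup G, ElemSection 2 A B → Nat.card A ≤ 2 ^ 4 * Nat.card B

/-- The conclusion of Lemma S (S1173) for all closed subsets of `X`. -/
def LemS (X : Set G) (F : G → Subgroup G) : Prop :=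
  ∀ Y : Set G, Y ⊆ X → Y.Nonempty → (∀ y ∈ Y, ∀ g : G, g * y * g⁻¹ ∈ Y) →
    (∀ y ∈ Y, ∀ t ∈ F y, Inv t → t ∈ Y) → ∃ y ∈ Y, ∃ t ∈ Y, y * t = t * y ∧ t ∉ F y

/-- A pair `(V, U)`: `V ≤ F y` and `U ≤ K y` are commuting four-groups, `y ∈ V`. -/
structure Pair (X : Set G) (K F : G → Subgroup G) (V U : Subgroup G) (y : G) : Prop where
  yX : y ∈ X
  yV : y ∈ V
  VF : V ≤ F y
  UK : U ≤ K y
  cV : Nat.card V = 4
  cU : Nat.card U = 4
  eV : ∀ v ∈ V, v * v = 1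
  eU : ∀ u ∈ U, u * u = 1
  comm : ∀ v ∈ V, ∀ u ∈ U, v * u = u * v

/-- All pairs are of type (T1). -/
def AllTOne (X : Set G) (K F : G → Subgroup G) : Prop :=
  ∀ (V U : Subgroup G) (y : G), Pair X K F V U y → ∀ g : G, (∀ x ∈ V ⊔ U, g * x * g⁻¹ ∈ V ⊔ U) →
    (∀ v ∈ V, g * v * g⁻¹ ∈ V) ∧ (∀ u ∈ U, g * u * g⁻¹ ∈ U)

end Cfsg.Agent.GH.TOne
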