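import Cfsg.Agent.GH.L2Good
import Cfsg.Agent.GH.L2CaseD
import Cfsg.Agent.GH.L2Conj
import Cfsg.Agent.GH.L2Quad
import Cfsg.Agent.GH.TOne.Sys

/-!
# GH-L2, `m_2(Q) = 2`: the instance of `Sys`

`Data X N`: an `XSet X N` such that for `y ∈ X` the centre of `KK y / O` is odd, `Good (STop (KK y))` (`L₂(q)` or
`A₇`), and some involution `t ≠ y` of `C(y)` fixes `KK y`.
`Data.sys : Sys X KK FF (N.factorization 2)`, `FF y = fix (KK y) ⊓ C(y)`.
-/

set_option autoImplicit false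
set_option linter.unusedSectionVars false

open Cfsg Subgroup
open Cfsg.Agent.SignalizersComponents Cfsg.Agent.Lib
open Cfsg.Agent.SignalizersComponents.IntrinsicBasic
open Cfsg.Agent.Intrinsic.Basic Cfsg.Agent.Intrinsic.Cen
open Cfsg.Agent.GH.Defs Cfsg.Agent.GH.Comp Cfsg.Agent.GH.XSet Cfsg.Agent.GH.L2Frame
open Cfsg.Agent.Walter.SylowIn Cfsg.Agent.GH.L2One Cfsg.Agent.GH.L2AutPlus
open Cfsg.Agent.GH.L2Aut (Four)
open scoped commutatorElement Pointwise

namespace Cfsg.Agent.GH.TOne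

variable {G : Type*} [Group G]

/-- The elements of `C(y)` fixing `KK y`. -/
def FF (y : G) : Subgroup G := fix (KK y) ⊓ centralizer ({y} : Set G)

theorem mem_FF {y f : G} : f ∈ FF y ↔ Fixes f (KK y) ∧ f * y = y * f := by
  rw [FF, mem_inf, mem_fix, mem_centralizer_singleton_iff]

/-- The data for `Sys`. -/
structure Data (X : Set G) (N : ℕ) : Prop extends XSet X N where
  odd : ∀ y ∈ X, ¬ EvenCenter (KK y)
  good : ∀ y ∈ X, Good (STop (KK y))
  rich : ∀ y ∈ X, ∃ t, orderOf t = 2 ∧ t ≠ y ∧ Commute t y ∧ Fixes t (KK y)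

theorem Inv.orderOf {x : G} (h : Inv x) : orderOf x = 2 :=
  orderOf_eq_prime (by rw [pow_two]; exact h.sq) h.ne

theorem inv_of_orderOf {x : G} (h : orderOf x = 2) : Inv x := by
  refine ⟨by rw [← pow_two, ← h, pow_orderOf_eq_one], ?_⟩
  rintro rfl
  rw [_root_.orderOf_one] at h
  exact absurd h (by norm_num)

variable [Finite G]

/-- `SylC` in terms of `SylIn`. -/
theorem SylC.sylIn {y : G} {T : Subgroup G} (h : SylC y T) :
    SylIn 2 T (centralizer ({y} : Set G)) := by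
  have : Fact (Nat.Prime 2) := ⟨Nat.prime_two⟩
  obtain ⟨P, hP, hTP⟩ := exists_sylIn_ge (p := 2) (R := T) (H := centralizer ({y} : Set G))
    (fun x hx => mem_centralizer_singleton_iff.mpr (h.cent x hx)) h.two
  have h1 := h.max P hP.isPGroup (fun x hx => mem_centralizer_singleton_iff.mp (hP.le hx))
  have h2 : T = P := Subgroup.eq_of_le_of_card_ge hTP h1
  rw [h2]; exact hP

theorem sylC_of_sylIn {y : G} {T : Subgroup G} (h : SylIn 2 T (centralizer ({y} : Set G))) :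
    SylC y T := by
  have : Fact (Nat.Prime 2) := ⟨Nat.prime_two⟩
  exact ⟨h.isPGroup, fun x hx => mem_centralizer_singleton_iff.mp (h.le hx), fun P hP hPy =>
    h.card_le (fun x hx => mem_centralizer_singleton_iff.mpr (hPy x hx)) hP⟩

/-! ### the dihedral group -/

theorem card_of_dih {L : Type*} [Group L] [Finite L] {S : Subgroup L} {d : ℕ} {r c : L}
    (h : AutSwap.Dih S d r c) : Nat.card S = 2 ^ d := by
  have h1 : L2Aut.Dih S r c := by
    refine ⟨h.r_mem, h.c_mem, ?_, ?_, h.cc, h.crc, ?_⟩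
    · rintro rfl
      have := h.or_eq
      rw [orderOf_one] at this
      have h2 : 1 < 2 ^ (d - 1) := Nat.one_lt_two_pow (by have := h.d_ge; omega)
      omega
    · intro h2
      obtain ⟨k, hk⟩ := mem_zpowers_iff.1 h2
      exact h.c_not k hk.symm
    · intro x hx
      obtain ⟨k, hk | hk⟩ := h.form x hx
      · exact Or.inl (hk ▸ mem_zpowers_iff.2 ⟨k, rfl⟩)
      · exact Or.inr ⟨k, hk⟩
  rw [h1.card, h.or_eq, ← pow_succ']
  congr 1
  have := h.d_ge
  omega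

section frame

variable {H K T : Subgroup G}

/-- The dihedral group of `STop K` in `K`. -/
theorem dih_lift (F : Frame H K T) {d : ℕ} {r c : STop K} (h : AutSwap.Dih F.dTop.range d r c) :
    ∃ r' c' : ↥(T ⊓ K), F.dTop r' = r ∧ F.dTop c' = c ∧ Dih d (T ⊓ K) (r' : G) (c' : G) := by
  obtain ⟨r', hr'⟩ := h.r_mem
  obtain ⟨c', hc'⟩ := h.c_mem
  have hinj := F.dTop_injective
  have hcc : c' * c' = 1 := hinj (by rw [map_mul, hc', h.cc, map_one])
  have hcrc : c' * r' * c' = r'⁻¹ := hinj (by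
    have h1 := h.crc
    rw [h.c_inv] at h1
    rw [map_mul, map_mul, map_inv, hc', hr', h1])
  refine ⟨r', c', hr', hc', r'.2, c'.2, ?_, congrArg Subtype.val hcc, congrArg Subtype.val hcrc,
    ?_, ?_⟩
  · rw [Subgroup.orderOf_coe, ← orderOf_injective F.dTop hinj, hr', h.or_eq]
  · intro h1
    obtain ⟨k, hk⟩ := mem_zpowers_iff.1 h1
    apply h.c_not k
    have h2 : c' = r' ^ k := Subtype.ext hk.symm
    rw [← hc', h2, map_zpow, hr']
  · intro g hg
    have key : ∀ k : ℤ, ∃ i : ℕ, (r' : G) ^ k = (r' : G) ^ i := by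
      intro k
      have h1 : (r' : G) ^ k ∈ Submonoid.powers (r' : G) := by
        rw [mem_powers_iff_mem_zpowers]
        exact zpow_mem (mem_zpowers _) k
      obtain ⟨i, hi⟩ := Submonoid.mem_powers_iff _ _ |>.1 h1
      exact ⟨i, hi.symm⟩
    obtain ⟨k, hk | hk⟩ := h.form (F.dTop ⟨g, hg⟩) ⟨_, rfl⟩
    · have h1 : (⟨g, hg⟩ : ↥(T ⊓ K)) = r' ^ k := hinj (by rw [hk, map_zpow, hr'])
      obtain ⟨i, hi⟩ := key k
      exact ⟨i, Or.inl (by rw [← hi]; exact congrArg Subtype.val h1)⟩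
    · have h1 : (⟨g, hg⟩ : ↥(T ⊓ K)) = r' ^ k * c' := hinj (by
        rw [hk, map_mul, map_zpow, hr', hc'])
      obtain ⟨i, hi⟩ := key k
      exact ⟨i, Or.inr (by rw [← hi]; exact congrArg Subtype.val h1)⟩

/-- the Sylow 2-subgroup of `STop K` -/
theorem exists_syl (F : Frame H K T) (hg : Good (STop K)) :
    ∃ (A : Type) (_ : Group A) (d : ℕ) (p1 : MulAut (STop K) →* ℤˣ) (p2 : MulAut (STop K) →* A)
      (S : Sylow 2 (STop K)) (r c : STop K), AutPlus p1 p2 ∧ (S : Subgroup (STop K)) = F.dTop.range ∧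
      AutData (S : Subgroup (STop K)) d r c p1 p2 := by
  obtain ⟨A, _, d, p1, p2, h1, h2⟩ := hg
  obtain ⟨S, hS⟩ := F.exists_sylow
  obtain ⟨r, c, h3⟩ := h2 S
  exact ⟨A, inferInstance, d, p1, p2, S, r, c, h1, hS, h3⟩

theorem card_D (F : Frame H K T) : Nat.card ↥(T ⊓ K) = 2 ^ (Nat.card (Bar K)).factorization 2 := by
  have : Fact (Nat.Prime 2) := ⟨Nat.prime_two⟩
  obtain ⟨P, hP⟩ := F.exists_sylow_K
  have h1 : Nat.card ↥(T ⊓ K) = Nat.card P := by
    have h2 : Nat.card ↥((T ⊓ K).subgroupOf K) = Nat.card ↥(T ⊓ K) :=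
      Nat.card_congr (Subgroup.subgroupOfEquivOfLe inf_le_right).toEquiv
    rw [← h2, ← hP]
  rw [h1, P.card_eq_multiplicity]
  congr 1
  have h3 : Nat.card K = Nat.card (Bar K) * Nat.card (oddCore ↥K) :=
    (Subgroup.card_eq_card_quotient_mul_card_subgroup (oddCore ↥K))
  have h4 : Odd (Nat.card (oddCore ↥K)) := odd_card_oddCore ↥K
  rw [h3, Nat.factorization_mul Nat.card_pos.ne' Nat.card_pos.ne', Finsupp.add_apply,
    Nat.factorization_eq_zero_of_not_dvd (n := Nat.card (oddCore ↥K)), add_zero]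
  intro h5
  exact (Nat.not_even_iff_odd.2 h4) (even_iff_two_dvd.2 h5)

theorem d_eq (F : Frame H K T) {d : ℕ} {r c : STop K} (h : AutSwap.Dih F.dTop.range d r c) :
    d = (Nat.card (Bar K)).factorization 2 := by
  have h1 := card_of_dih h
  have h2 : Nat.card ↥(T ⊓ K) = Nat.card F.dTop.range :=
    Nat.card_congr (Equiv.ofInjective _ F.dTop_injective)
  rw [← h2, card_D F] at h1
  exact (Nat.pow_right_injective le_rfl h1).symm

end frame

/-! ### inner elements -/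

section inner

variable {X : Set G} {N : ℕ}

/-- the coset representative -/
theorem conj_of_inner {y x : G} (hN : x ∈ normalizer (KK y : Set G))
    (hq : IsQuasisimple (Bar (KK y))) (h : Inner KK FF y x) : Inn (act (KK y) ⟨x, hN⟩) := by
  obtain ⟨f, hf, k, hk, rfl⟩ := h
  have hf1 := (mem_FF.1 hf).1
  refine ⟨topMap (KK y) ⟨k, hk⟩, ?_⟩
  have h3 : act (KK y) ⟨f, hf1.1⟩ = 1 := (act_eq_one_iff hq hf1.1).2 hf1
  have h4 : (⟨f * k, hN⟩ : normalizer (KK y : Set G)) = ⟨f, hf1.1⟩ * ⟨k, le_normalizer hk⟩ := rfl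
  rw [h4, map_mul, h3, one_mul]
  exact act_of_mem ⟨k, hk⟩

theorem inner_of_conj (h : XBase X) {y x : G} (hy : y ∈ X) (hxy : x * y = y * x)
    (hN : x ∈ normalizer (KK y : Set G)) (hi : Inn (act (KK y) ⟨x, hN⟩)) : Inner KK FF y x := by
  obtain ⟨l, hl⟩ := hi
  obtain ⟨k, rfl⟩ := topMap_surjective (KK y) l
  have hk : (k : G) ∈ normalizer (KK y : Set G) := le_normalizer k.2
  have h1 : x * (k : G)⁻¹ ∈ normalizer (KK y : Set G) := mul_mem hN (inv_mem hk)
  have h2 : Fixes (x * (k : G)⁻¹) (KK y) := by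
    rw [← act_eq_one_iff (quasisimple (h.comp y hy)) h1]
    have e1 : (⟨x * (k : G)⁻¹, h1⟩ : normalizer (KK y : Set G)) = ⟨x, hN⟩ * (⟨k, hk⟩)⁻¹ := rfl
    have e2 : act (KK y) ⟨(k : G), hk⟩ = MulAut.conj (topMap (KK y) k) := act_of_mem k
    rw [e1, map_mul, map_inv, e2, hl, mul_inv_cancel]
  have hky : Commute (k : G) y := h.comm_of_mem hy k.2
  have hxy' : Commute x y := hxy
  exact ⟨x * (k : G)⁻¹, mem_FF.2 ⟨h2, (hxy'.mul_left hky.inv_left).eq⟩, k, k.2, by group⟩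

end inner

/-! ### the closed subset of the rich elements -/

theorem xset_rich {X : Set G} {N : ℕ} (h : XSet X N) :
    XSet {y ∈ X | ∃ t, orderOf t = 2 ∧ t ≠ y ∧ Commute t y ∧ Fixes t (KK y)} N where
  inv := fun y hy => h.inv y hy.1
  comp := fun y hy => h.comp y hy.1
  card := fun y hy => h.card y hy.1
  conj := by
    rintro y ⟨hy, t, h1, h2, h3, h4⟩ g
    refine ⟨h.conj y hy g, g * t * g⁻¹, ?_, ?_, ?_, ?_⟩
    · rw [← h1]
      exact orderOf_injective (MulAut.conj g).toMonoidHom (MulAut.conj g).injective t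
    · intro h5
      exact h2 (mul_left_cancel (mul_right_cancel h5))
    · have := h3.map (MulAut.conj g)
      exact this
    · rw [← h.toXBase.cj_KK hy, ← mem_fix, fix_cj, mem_cj, mem_fix]
      have e1 : g⁻¹ * (g * t * g⁻¹) * g = t := by group
      rw [e1]; exact h4
  closed := by
    rintro y ⟨hy, t, h1, h2, h3, h4⟩ u hu huy huf
    have huX := h.closed y hy u hu huy huf
    refine ⟨huX, ?_⟩
    by_cases hyu : y = u
    · subst hyu
      exact ⟨t, h1, h2, h3, h4⟩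
    · exact ⟨y, h.inv y hy, hyu, huy.symm, h.fixes_symm hy huX huy.symm huf⟩

/-! ### the fields -/

namespace Data

variable {X : Set G} {N : ℕ}

theorem fixes_of_FF {y f : G} (h : f ∈ FF y) : Fixes f (KK y) := (mem_FF.1 h).1

theorem comm_of_FF {y f : G} (h : f ∈ FF y) : f * y = y * f := (mem_FF.1 h).2

theorem frame (h : Data X N) {y : G} (hy : y ∈ X) {T : Subgroup G} (hT : SylC y T) :
    Frame (centralizer ({y} : Set G)) (KK y) T :=
  L2CaseD.frame h.toXBase h.odd hy hT.sylIn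

theorem qs (h : Data X N) {y : G} (hy : y ∈ X) : IsQuasisimple (Bar (KK y)) :=
  quasisimple (h.comp y hy)

/-- `share` -/
theorem share (h : Data X N) {y t : G} (hy : y ∈ X) (ht : t ∈ X) (hty : t ∈ FF y) {x : G}
    (hxy : x * y = y * x) (hxt : x * t = t * x) (hx : x ∈ FF y) : x ∈ FF t := by
  have hyt : Commute y t := (comm_of_FF hty).symm
  have hf := fixes_of_FF hty
  have h1 := h.fixes_symm hy ht hyt hf
  have h2 := h.toXBase.cen_sup hy ht hyt hf
  have h3 := h.toXBase.cen_sup ht hy hyt.symm h1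
  rw [← h.toXBase.cen_eq hy ht hyt hf h1] at h3
  have h4 : x ∈ normalizer (cen (KK y) t : Set G) :=
    mem_normalizer_cen (h.toXBase.mem_normalizer hy hxy) hxt
  rw [mem_FF]
  exact ⟨(fixes_iff_of_sup h3 h4 (h.toXBase.mem_normalizer ht hxt)).mp
    ((fixes_iff_of_sup h2 h4 (h.toXBase.mem_normalizer hy hxy)).mpr (fixes_of_FF hx)), hxt⟩

theorem shareK (h : Data X N) {y t : G} (hy : y ∈ X) (ht : t ∈ X) (hty : t ∈ FF y) {x : G}
    (hxt : x * t = t * x) (h2 : IsPGroup 2 (zpowers x)) (hx : x ∈ KK y) : x ∈ KK t := by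
  have hyt : Commute y t := (comm_of_FF hty).symm
  obtain ⟨n, hn⟩ := h2 ⟨x, mem_zpowers x⟩
  have hn' : x ^ 2 ^ n = 1 := by simpa using congrArg Subtype.val hn
  exact h.toXBase.cen_le_cen hy ht hyt (fixes_of_FF hty) (mem_cen hx hxt hn')

theorem shareI (h : Data X N) {y t : G} (hy : y ∈ X) (ht : t ∈ X) (hty : t ∈ FF y) {x : G}
    (hxy : x * y = y * x) (hxt : x * t = t * x) (hx : Inner KK FF y x) : Inner KK FF t x := by
  have hyt : Commute y t := (comm_of_FF hty).symm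
  have hf := fixes_of_FF hty
  obtain ⟨f, hf', k, hk, rfl⟩ := hx
  have h2 := h.toXBase.cen_sup hy ht hyt hf
  obtain ⟨j, hj, hc⟩ := exists_mul_of_sup h2 hk
  have hjt : Commute j t := comm_of_mem_cen hj
  have hjK : j ∈ KK y := cen_le _ _ hj
  have hjy : Commute j y := h.toXBase.comm_of_mem hy hjK
  have e1 : f * k * j⁻¹ = f * (j * (j⁻¹ * k) * j⁻¹) := by group
  have h3 : f * k * j⁻¹ ∈ FF y := by
    rw [mem_FF]
    constructor
    · rw [e1]
      refine fixes_mul (fixes_of_FF hf') ?_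
      have h4 : j⁻¹ * k ∈ fix (KK y) := mem_fix.2 (core_le_fixer (KK y) hc)
      exact mem_fix.1 (conj_mem_fix (le_normalizer hjK) h4)
    · have hxy' : Commute (f * k) y := hxy
      exact (hxy'.mul_left hjy.inv_left).eq
  have hxt' : Commute (f * k) t := hxt
  have h5 := h.share hy ht hty (comm_of_FF h3) (hxt'.mul_left hjt.inv_left).eq h3
  exact ⟨f * k * j⁻¹, h5, j, h.toXBase.cen_le_cen hy ht hyt hf hj, by group⟩

theorem exists_T (y : G) : ∃ T : Subgroup G, SylC y T := by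
  have : Fact (Nat.Prime 2) := ⟨Nat.prime_two⟩
  obtain ⟨T, hT⟩ := exists_sylIn 2 (centralizer ({y} : Set G))
  exact ⟨T, sylC_of_sylIn hT⟩

theorem topMap_ne (h : Data X N) {y : G} (hy : y ∈ X) {a : G} (ha : a ∈ KK y) (haa : a * a = 1)
    (ha1 : a ≠ 1) : topMap (KK y) ⟨a, ha⟩ ≠ 1 := by
  intro h1
  have h2 : (⟨a, ha⟩ : KK y) ∈ (topMap (KK y)).ker := h1
  have h3 := eq_one_of_two (odd_card_ker (h.odd y hy)) h2 (n := 1)
    (Subtype.ext (by change a ^ 2 ^ 1 = 1; rw [pow_one, pow_two, haa]))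
  exact ha1 (congrArg Subtype.val h3)

theorem topMap_sq {y a : G} (ha : a ∈ KK y) (haa : a * a = 1) :
    topMap (KK y) ⟨a, ha⟩ * topMap (KK y) ⟨a, ha⟩ = 1 := by
  rw [← map_mul]
  have h1 : (⟨a, ha⟩ : KK y) * ⟨a, ha⟩ = 1 := Subtype.ext haa
  rw [h1, map_one]

theorem sq_pow {M : Type*} [Monoid M] {a : M} (h : a * a = 1) : a ^ 2 ^ 1 = 1 := by
  rw [pow_one, pow_two, h]

theorem one (h : Data X N) {y : G} (hy : y ∈ X) {a b : G} (ha : a ∈ KK y) (hb : b ∈ KK y)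
    (hia : Inv a) (hib : Inv b) : ∃ k ∈ KK y, k * a * k⁻¹ = b := by
  obtain ⟨T, hT⟩ := exists_T y
  obtain ⟨A, _, d, p1, p2, S, r, c, P, hS, E⟩ := exists_syl (h.frame hy hT) (h.good y hy)
  obtain ⟨l, hl⟩ := E.inv_conj _ _ (topMap_sq ha hia.sq) (h.topMap_ne hy ha hia.sq hia.ne)
    (topMap_sq hb hib.sq) (h.topMap_ne hy hb hib.sq hib.ne)
  have ha' : (⟨a, ha⟩ : KK y) * ⟨a, ha⟩ = 1 := Subtype.ext hia.sq
  have hb' : (⟨b, hb⟩ : KK y) * ⟨b, hb⟩ = 1 := Subtype.ext hib.sq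
  obtain ⟨k, hk⟩ := exists_conj_of_top (h.odd y hy) (sq_pow ha') (sq_pow hb') hl
  exact ⟨k, k.2, congrArg Subtype.val hk⟩

theorem rho (h : Data X N) {y : G} (hy : y ∈ X) {a b : G} (ha : a ∈ KK y) (hb : b ∈ KK y)
    (hia : Inv a) (hib : Inv b) (hab : a ≠ b) (hc : a * b = b * a) {P : Subgroup G}
    (hP : IsPGroup 2 P) (hPF : P ≤ FF y) (hPa : ∀ p ∈ P, p * a = a * p ∧ p * b = b * p) :
    ∃ c : G, c * a * c⁻¹ = b ∧ c * b * c⁻¹ = a * b ∧ ∀ p ∈ P, c * p = p * c := by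
  obtain ⟨T, hT⟩ := exists_T y
  obtain ⟨A, _, d, p1, p2, S, r, c, Q, hS, E⟩ := exists_syl (h.frame hy hT) (h.good y hy)
  obtain ⟨a', ha'⟩ : ∃ a' : KK y, a' = ⟨a, ha⟩ := ⟨_, rfl⟩
  obtain ⟨b', hb'⟩ : ∃ b' : KK y, b' = ⟨b, hb⟩ := ⟨_, rfl⟩
  have hF : Four a' b' := by
    rw [ha', hb']
    exact ⟨Subtype.ext hia.sq, Subtype.ext hib.sq, fun h1 => hia.ne (congrArg Subtype.val h1),
      fun h1 => hib.ne (congrArg Subtype.val h1), fun h1 => hab (congrArg Subtype.val h1),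
      Subtype.ext hc⟩
  have hmem : ∀ x ∈ hF.sub, (x : G) ∈ centralizer (P : Set G) := by
    have h1 : (a' : G) ∈ centralizer (P : Set G) := by
      rw [mem_centralizer_iff, ha']
      exact fun p hp => (hPa p hp).1
    have h2 : (b' : G) ∈ centralizer (P : Set G) := by
      rw [mem_centralizer_iff, hb']
      exact fun p hp => (hPa p hp).2
    rintro x (rfl | rfl | rfl | rfl)
    · exact one_mem _
    · exact h1
    · exact h2
    · exact mul_mem h1 h2
  have hne : ∀ x : KK y, x * x = 1 → x ≠ 1 → topMap (KK y) x ≠ 1 := fun x hx hx1 =>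
    h.topMap_ne hy x.2 (congrArg Subtype.val hx) (fun h1 => hx1 (Subtype.ext h1))
  have hF' : Four (topMap (KK y) a') (topMap (KK y) b') := by
    refine ⟨by rw [← map_mul, hF.aa, map_one], by rw [← map_mul, hF.bb, map_one],
      hne _ hF.aa hF.a1, hne _ hF.bb hF.b1, fun h1 => ?_, by rw [← map_mul, hF.comm, map_mul]⟩
    apply hne _ hF.right.bb hF.right.b1
    rw [map_mul, ← h1, ← map_mul, hF.aa, map_one]
  obtain ⟨l, hl1, hl2⟩ := Q.four _ _ hF'
  have hl3 : l * topMap (KK y) (a' * b') * l⁻¹ = topMap (KK y) a' := by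
    have e1 : l * topMap (KK y) (a' * b') * l⁻¹ = (l * topMap (KK y) a' * l⁻¹) *
        (l * topMap (KK y) b' * l⁻¹) := by rw [map_mul]; group
    rw [e1, hl1, hl2, ← map_mul, ← map_mul]
    congr 1
    rw [hF.comm, ← mul_assoc, hF.bb, one_mul]
  obtain ⟨k, hkP, -, hk⟩ := exists_conj_fixed (h.comp y hy) (h.odd y hy) hP
    (fun p hp => mem_fix.2 (fixes_of_FF (hPF hp))) hF.sub_two hF.sub_two hmem hmem (l := l) (by
      rintro x (hx | hx | hx | hx) <;> rw [hx]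
      · exact ⟨1, Or.inl rfl, by rw [map_one]; group⟩
      · exact ⟨b', Or.inr (Or.inr (Or.inl rfl)), hl1⟩
      · exact ⟨a' * b', Or.inr (Or.inr (Or.inr rfl)), by rw [hl2, map_mul]⟩
      · exact ⟨a', Or.inr (Or.inl rfl), hl3⟩)
  have h1 := hk a' (Or.inr (Or.inl rfl)) b' (Or.inr (Or.inr (Or.inl rfl))) hl1
  have h2 := hk b' (Or.inr (Or.inr (Or.inl rfl))) (a' * b') (Or.inr (Or.inr (Or.inr rfl)))
    (by rw [hl2, map_mul])
  rw [ha', hb'] at h1 h2
  refine ⟨k, congrArg Subtype.val h1, congrArg Subtype.val h2, fun p hp => ?_⟩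
  exact ((mem_centralizer_iff.1 hkP) p hp).symm

theorem zstar (h : Data X N) {y : G} (hy : y ∈ X) {t : G} (ht : Inv t) (hty : t * y = y * t)
    (hf : t ∉ FF y) : ∃ v ∈ KK y, Inv v ∧ v * t = t * v ∧ ∃ k ∈ KK y, k * t * k⁻¹ = t * v := by
  obtain ⟨v, hv, h1, h2, h3, h4⟩ := exists_zstar ht.orderOf (h.toXBase.mem_normalizer hy hty)
    (fun h1 => hf (mem_FF.2 ⟨mem_fix.1 h1, hty⟩))
  exact ⟨v, hv, ⟨h1, h2⟩, h3, h4⟩

/-! fields about a Sylow 2-subgroup of `C(y)` -/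

theorem inner_iff (h : Data X N) {y : G} (hy : y ∈ X) {T : Subgroup G} (hT : SylC y T) {x : G}
    (hx : x ∈ T) : Inner KK FF y x ↔ Inn ((h.frame hy hT).rho ⟨x, hx⟩) := by
  have hN := (h.frame hy hT).norm hx
  exact ⟨conj_of_inner hN (h.qs hy), inner_of_conj h.toXBase hy (hT.cent x hx) hN⟩

theorem split (h : Data X N) {y : G} (hy : y ∈ X) {T : Subgroup G} (hT : SylC y T) {x : G}
    (hx : x ∈ T) (hi : Inner KK FF y x) : ∃ q ∈ T ⊓ FF y, ∃ d ∈ T ⊓ KK y, x = q * d := by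
  obtain ⟨l, hl⟩ := (h.inner_iff hy hT hx).1 hi
  obtain ⟨q, hq, a, ha, -⟩ := (h.frame hy hT).exists_mul hl
  exact ⟨q, ⟨hq.1, mem_FF.2 ⟨mem_fix.1 hq.2, hT.cent q hq.1⟩⟩, a, a.2, ha⟩

theorem dih (h : Data X N) {y : G} (hy : y ∈ X) {T : Subgroup G} (hT : SylC y T) :
    ∃ r s : G, Dih (N.factorization 2) (T ⊓ KK y) r s := by
  have F := h.frame hy hT
  obtain ⟨A, _, d, p1, p2, S, r, c, P, hS, E⟩ := exists_syl F (h.good y hy)
  have hD := L2AutPlus.dih E
  rw [hS] at hD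
  obtain ⟨r', c', -, -, h1⟩ := dih_lift F hD
  rw [d_eq F hD, h.card y hy] at h1
  exact ⟨r', c', h1⟩

theorem two_le (h : Data X N) (hne : X.Nonempty) : 2 ≤ N.factorization 2 := by
  obtain ⟨y, hy⟩ := hne
  obtain ⟨T, hT⟩ := exists_T y
  have F := h.frame hy hT
  obtain ⟨A, _, d, p1, p2, S, r, c, P, hS, E⟩ := exists_syl F (h.good y hy)
  have hD := L2AutPlus.dih E
  rw [hS] at hD
  have h1 := d_eq F hD
  rw [h.card y hy] at h1
  rw [← h1]
  exact hD.d_ge

theorem rho_stab {H K T : Subgroup G} (F : Frame H K T) {S : Sylow 2 (STop K)}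
    (hS : (S : Subgroup (STop K)) = F.dTop.range) (t : T) :
    ∀ s ∈ (S : Subgroup (STop K)), F.rho t s ∈ (S : Subgroup (STop K)) := by
  rw [hS]
  rintro _ ⟨s, rfl⟩
  rw [F.rho_dTop]
  exact ⟨_, rfl⟩

theorem rho_sq {H K T : Subgroup G} (F : Frame H K T) {t : G} (ht : t ∈ T) (htt : t * t = 1) :
    F.rho ⟨t, ht⟩ * F.rho ⟨t, ht⟩ = 1 := by
  rw [← map_mul]
  have h1 : (⟨t, ht⟩ : T) * ⟨t, ht⟩ = 1 := Subtype.ext htt
  rw [h1, map_one]

theorem outer_mul (h : Data X N) {y : G} (hy : y ∈ X) {T : Subgroup G} (hT : SylC y T) {e e' : G}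
    (he : e ∈ T) (he' : e' ∈ T) (hi : Inv e) (hi' : Inv e') (hc : e * e' = e' * e)
    (h1 : ¬ Inner KK FF y e) (h2 : ¬ Inner KK FF y e') : Inner KK FF y (e * e') := by
  have F := h.frame hy hT
  obtain ⟨A, _, d, p1, p2, S, r, c, P, hS, E⟩ := exists_syl F (h.good y hy)
  rw [h.inner_iff hy hT he] at h1
  rw [h.inner_iff hy hT he'] at h2
  rw [h.inner_iff hy hT (mul_mem he he')]
  have h3 : (⟨e * e', mul_mem he he'⟩ : T) = ⟨e, he⟩ * ⟨e', he'⟩ := rfl
  rw [h3, map_mul]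
  refine L2AutPlus.outer_mul E (rho_sq _ he hi.sq) (rho_sq _ he' hi'.sq) ?_ h1 h2
  rw [← map_mul, ← map_mul]
  congr 1
  exact Subtype.ext hc

theorem outer_type (h : Data X N) {y : G} (hy : y ∈ X) {T : Subgroup G} (hT : SylC y T) {e : G}
    (he : e ∈ T) (hi : Inv e) (h1 : ¬ Inner KK FF y e) :
    (FType (T ⊓ KK y) e ∧ 3 ≤ N.factorization 2) ∨
      ∃ r s : G, DType (N.factorization 2) (T ⊓ KK y) e r s := by
  have F := h.frame hy hT
  obtain ⟨A, _, d, p1, p2, S, r, c, P, hS, E⟩ := exists_syl F (h.good y hy)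
  rw [h.inner_iff hy hT he] at h1
  have hinj := F.dTop_injective
  have hei : e⁻¹ = e := inv_eq_of_mul_eq_one_right hi.sq
  have hd : d = N.factorization 2 := by
    have hD := L2AutPlus.dih E
    rw [hS] at hD
    rw [← h.card y hy]
    exact d_eq F hD
  rcases L2AutPlus.outer_type (conj_injective F.comp) E (rho_sq _ he hi.sq) (rho_stab F hS _) h1
    with ⟨-, h2, a, ha, b, hb, h3, h4, h5⟩ | ⟨-, -, r', c', h2, h3, h4⟩
  · left
    rw [hS] at ha hb
    obtain ⟨a', rfl⟩ := ha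
    obtain ⟨b', rfl⟩ := hb
    refine ⟨⟨a', a'.2, b', b'.2, ⟨?_, ?_⟩, ⟨?_, ?_⟩, ?_, ?_, ?_, ?_⟩, by rw [← hd]; exact h2⟩
    · have h6 : a' * a' = 1 := hinj (by rw [map_mul, h3.aa, map_one])
      exact congrArg Subtype.val h6
    · intro h6
      exact h3.a1 (by rw [show a' = 1 from Subtype.ext h6, map_one])
    · have h6 : b' * b' = 1 := hinj (by rw [map_mul, h3.bb, map_one])
      exact congrArg Subtype.val h6
    · intro h6
      exact h3.b1 (by rw [show b' = 1 from Subtype.ext h6, map_one])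
    · intro h6
      exact h3.ne (by rw [show a' = b' from Subtype.ext h6])
    · have h6 : a' * b' = b' * a' := hinj (by rw [map_mul, map_mul, h3.comm])
      exact congrArg Subtype.val h6
    · exact (F.comm_iff ⟨e, he⟩ a').2 h4
    · exact (F.comm_iff ⟨e, he⟩ b').2 h5
  · right
    rw [hS] at h2
    obtain ⟨r₁, c₁, rfl, rfl, h6⟩ := dih_lift F h2
    rw [hd] at h6
    change F.rho ⟨e, he⟩ (F.dTop r₁) = _ at h3
    change F.rho ⟨e, he⟩ (F.dTop c₁) = _ at h4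
    rw [F.rho_dTop, ← map_inv] at h3
    rw [F.rho_dTop, ← map_mul] at h4
    refine ⟨r₁, c₁, h6, ?_, ?_⟩
    · have h7 := congrArg Subtype.val (hinj h3)
      change e * r₁ * e⁻¹ = (r₁ : G)⁻¹ at h7
      rwa [hei] at h7
    · have h7 := congrArg Subtype.val (hinj h4)
      change e * c₁ * e⁻¹ = (c₁ : G) * r₁ at h7
      rwa [hei] at h7

theorem outer_field (h : Data X N) (h3 : 3 ≤ N.factorization 2) {y : G} (hy : y ∈ X)
    {T : Subgroup G} (hT : SylC y T) {t : G} (ht : t ∈ T) (h1 : ¬ Inner KK FF y t)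
    (h2 : Inner KK FF y (t * t)) (hcl : ∃ a ∈ T ⊓ KK y, Inv a ∧ (∃ x ∈ T ⊓ KK y, x * a ≠ a * x) ∧
      ∃ d ∈ T ⊓ KK y, t * a * t⁻¹ = d * a * d⁻¹) :
    ∃ b ∈ T ⊓ KK y, (∀ x ∈ T ⊓ KK y, t * b * x = x * (t * b)) ∧ t * b * (t * b) ∈ FF y := by
  have F := h.frame hy hT
  obtain ⟨A, _, d, p1, p2, S, r, c, P, hS, E⟩ := exists_syl F (h.good y hy)
  have hinj := F.dTop_injective
  have hd : d = N.factorization 2 := by
    have hD := L2AutPlus.dih E
    rw [hS] at hD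
    rw [← h.card y hy]
    exact d_eq F hD
  rw [h.inner_iff hy hT ht] at h1
  rw [h.inner_iff hy hT (mul_mem ht ht)] at h2
  have e1 : (⟨t * t, mul_mem ht ht⟩ : T) = ⟨t, ht⟩ * ⟨t, ht⟩ := rfl
  rw [e1, map_mul] at h2
  obtain ⟨m, hm⟩ := F.exists_pow ht
  have hm' : F.rho ⟨t, ht⟩ ^ 2 ^ m = 1 := by
    rw [← map_pow]
    have e2 : (⟨t, ht⟩ : T) ^ 2 ^ m = 1 := Subtype.ext hm
    rw [e2, map_one]
  obtain ⟨a, ha, hia, ⟨x, hx, hxa⟩, e, he, hea⟩ := hcl
  obtain ⟨b, hb, h4, h5⟩ := L2AutPlus.outer_field (conj_injective F.comp) E P (by rw [hd]; exact h3)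
    hm' (rho_stab F hS _) h1 h2 (a := F.dTop ⟨a, ha⟩) (e := F.dTop ⟨e, he⟩)
    (by rw [hS]; exact ⟨_, rfl⟩) (by
      rw [← map_mul]
      have e2 : (⟨a, ha⟩ : ↥(T ⊓ KK y)) * ⟨a, ha⟩ = 1 := Subtype.ext hia.sq
      rw [e2, map_one])
    ⟨F.dTop ⟨x, hx⟩, by rw [hS]; exact ⟨_, rfl⟩, fun e2 => hxa (by
      rw [← map_mul, ← map_mul] at e2
      exact congrArg Subtype.val (hinj e2))⟩
    (by rw [hS]; exact ⟨_, rfl⟩) (by
      rw [F.rho_dTop, ← map_mul, ← map_inv, ← map_mul]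
      congr 1
      exact Subtype.ext hea)
  rw [hS] at hb
  obtain ⟨b', rfl⟩ := hb
  have hb'T : (b' : G) ∈ T := b'.2.1
  have e2 : MulAut.conj (F.dTop b') * F.rho ⟨t, ht⟩ = F.rho ⟨b' * t, mul_mem hb'T ht⟩ := by
    rw [← F.rho_of_mem, ← map_mul]; rfl
  change MulAut.conj (F.dTop b') * F.rho ⟨t, ht⟩ * (MulAut.conj (F.dTop b') * F.rho ⟨t, ht⟩) = 1 at h5
  change ∀ s ∈ (S : Subgroup (STop (KK y))), (MulAut.conj (F.dTop b') * F.rho ⟨t, ht⟩) s = s at h4
  rw [e2] at h4 h5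
  refine ⟨t⁻¹ * b' * t, ?_, ?_, ?_⟩
  · have e3 := F.conj_mem_D (inv_mem ht) b'.2
    rwa [inv_inv] at e3
  · intro x hx
    have e3 : t * (t⁻¹ * b' * t) = b' * t := by group
    rw [e3]
    exact (F.comm_iff ⟨b' * t, mul_mem hb'T ht⟩ ⟨x, hx⟩).2 (h4 _ (by rw [hS]; exact ⟨_, rfl⟩))
  · have e3 : t * (t⁻¹ * b' * t) = b' * t := by group
    rw [e3]
    have h6 : b' * t * (b' * t) ∈ T := mul_mem (mul_mem hb'T ht) (mul_mem hb'T ht)
    rw [← map_mul] at h5
    exact mem_FF.2 ⟨mem_fix.1 ((F.rho_eq_one_iff ⟨b' * t * (b' * t), h6⟩).1 h5), hT.cent _ h6⟩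

/-- **The instance of `Sys`.** -/
theorem sys (h : Data X N) (hne : X.Nonempty) : Sys X KK FF (N.factorization 2) where
  two_le := h.two_le hne
  inv := fun y hy => inv_of_orderOf (h.inv y hy)
  conj := h.conj
  conjK := by
    intro y hy g k hk
    rw [← h.toXBase.cj_KK hy]
    exact ⟨k, hk, rfl⟩
  conjF := by
    intro y hy g f hf
    rw [mem_FF]
    constructor
    · rw [← h.toXBase.cj_KK hy, ← mem_fix, fix_cj, mem_cj, mem_fix]
      have e1 : g⁻¹ * (g * f * g⁻¹) * g = f := by group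
      rw [e1]; exact fixes_of_FF hf
    · have h1 : Commute f y := comm_of_FF hf
      exact (h1.map (MulAut.conj g)).eq
  centK := fun y hy k hk => (h.toXBase.comm_of_mem hy hk).eq
  centF := fun y _ f hf => comm_of_FF hf
  self := fun y hy => mem_FF.2 ⟨h.toXBase.fixes_self hy, rfl⟩
  disj := by
    intro y hy x hx hxF hxx
    exact eq_one_of_odd (h.comp y hy) (h.odd y hy) (fixes_of_FF hxF) ⟨x, hx, by
      rw [inv_mul_cancel]; exact one_mem _⟩ (n := 1) (sq_pow hxx)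
  closed := fun y hy t ht hi => h.closed y hy t hi.orderOf (comm_of_FF ht) (fixes_of_FF ht)
  rich := by
    intro y hy
    obtain ⟨t, h1, h2, h3, h4⟩ := h.rich y hy
    exact ⟨t, mem_FF.2 ⟨h4, h3.eq⟩, inv_of_orderOf h1, h2⟩
  share := fun y hy t ht hty x hxy hxt hx => h.share hy ht hty hxy hxt hx
  shareK := fun y hy t ht hty x _ hxt h2 hx => h.shareK hy ht hty hxt h2 hx
  shareI := fun y hy t ht hty x hxy hxt hx => h.shareI hy ht hty hxy hxt hx
  one := fun y hy a ha b hb hia hib => h.one hy ha hb hia hib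
  rho := fun y hy a ha b hb hia hib hab hc P hP hPF hPa => h.rho hy ha hb hia hib hab hc hP hPF hPa
  zstar := fun y hy t ht hty hf => h.zstar hy ht hty hf
  split := fun y hy T hT x hx hi => h.split hy hT hx hi
  dih := fun y hy T hT => h.dih hy hT
  outer_mul := fun y hy T hT e he e' he' hi hi' hc _ h1 h2 => h.outer_mul hy hT he he' hi hi' hc h1 h2
  outer_type := fun y hy T hT e he hi h1 => h.outer_type hy hT he hi h1
  outer_field := fun h3 y hy T hT t ht h1 h2 hcl => h.outer_field h3 hy hT ht h1 h2 hcl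

end Data

/-! ### the set of the maximal involutions with a given `K / O(K)` -/

/-- `M / O(M) ≅ K / O(K)` -/
def IsoBar (M K : Subgroup G) : Prop := Nonempty (Bar M ≃* Bar K)

/-- The involutions `y` with a maximal 2-component `KK y` and `KK y / O ≅ K / O`. -/
def isoSet (K : Subgroup G) : Set G := {y ∈ L2Pair.maxSet G | IsoBar (KK y) K}

theorem xset_iso (h : Hyp G) (ho : AllOdd G) {x : G} {K : Subgroup G} (hK : L2FourOC.Max2 x K) :
    XSet (isoSet K) (Nat.card (Bar K)) := by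
  have h0 := L2Pair.xset_max h ho hK
  refine ⟨⟨fun y hy => h0.inv y hy.1, fun y hy => h0.comp y hy.1, ?_, ?_⟩, fun y hy => h0.card y hy.1⟩
  · rintro y ⟨hy, ⟨e⟩⟩ g
    refine ⟨h0.conj y hy g, ?_⟩
    rw [← h0.toXBase.cj_KK hy]
    exact ⟨(cjQuot g (KK y)).symm.trans e⟩
  · rintro y ⟨hy, ⟨e⟩⟩ u hu huy huf
    have hu' := h0.closed y hy u hu huy huf
    refine ⟨hu', ?_⟩
    have h1 := h0.fixes_symm hy hu' huy.symm huf
    have h2 := h0.toXBase.cen_sup hy hu' huy.symm huf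
    have h3 := h0.toXBase.cen_sup hu' hy huy h1
    rw [← h0.toXBase.cen_eq hy hu' huy.symm huf h1] at h3
    obtain ⟨e1, -⟩ := exists_quotEquiv h2
    obtain ⟨e2, -⟩ := exists_quotEquiv h3
    exact ⟨(e2.symm.trans e1).trans e⟩

theorem mem_isoSet (h : Hyp G) (ho : AllOdd G) {x : G} {K : Subgroup G} (hK : L2FourOC.Max2 x K) :
    x ∈ isoSet K := by
  refine ⟨⟨K, hK⟩, ?_⟩
  rw [L2Pair.KK_eq h ho hK.comp2]
  exact ⟨MulEquiv.refl _⟩

theorem odd_of_max (h : Hyp G) (ho : AllOdd G) {y : G} (hy : y ∈ L2Pair.maxSet G) :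
    ¬ EvenCenter (KK y) := by
  obtain ⟨M, hM⟩ := hy
  rw [L2Pair.KK_eq h ho hM.comp2]
  exact ho y M hM.comp2

theorem stop_equiv (h : Hyp G) (ho : AllOdd G) {x : G} {K : Subgroup G} (hK : L2FourOC.Max2 x K)
    {y : G} (hy : y ∈ isoSet K) : Nonempty (STop K ≃* STop (KK y)) := by
  obtain ⟨e⟩ := hy.2
  exact ⟨((L2FourOC.topEquiv (ho x K hK.comp2)).trans e.symm).trans
    (L2FourOC.topEquiv (odd_of_max h ho hy.1)).symm⟩

/-- the rich elements of `isoSet K` -/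
def richSet (K : Subgroup G) : Set G :=
  {y ∈ isoSet K | ∃ t, orderOf t = 2 ∧ t ≠ y ∧ Commute t y ∧ Fixes t (KK y)}

/-- **The data for `Sys`** from a maximal 2-component of type `L₂(q)` or `A₇`. -/
theorem data_of_max (h : Hyp G) (ho : AllOdd G) {x : G} {K : Subgroup G} (hK : L2FourOC.Max2 x K)
    (hg : Good (STop K)) : Data (richSet K) (Nat.card (Bar K)) where
  toXSet := xset_rich (xset_iso h ho hK)
  odd := fun y hy => odd_of_max h ho hy.1.1
  good := fun y hy => by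
    obtain ⟨e⟩ := stop_equiv h ho hK hy.1
    exact hg.congr e
  rich := fun y hy => hy.2

theorem good_of_isTop {L : Type*} [Group L] (h : L2Quad.IsTop L) : Good L := by
  rcases h with h | h
  · exact good_of_isL2odd h
  · exact good_of_isAlt h

/-- **The instance of `Sys`** from a maximal 2-component `K` of type `L₂(q)` or `A₇` fixed by a second involution of
`C(x)`. -/
theorem sys_of_max (h : Hyp G) (ho : AllOdd G) {x : G} {K : Subgroup G} (hK : L2FourOC.Max2 x K)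
    (hT : L2Quad.IsTop (STop K)) (ht : ∃ t, orderOf t = 2 ∧ t ≠ x ∧ Commute t x ∧ Fixes t K) :
    x ∈ richSet K ∧ Data (richSet K) (Nat.card (Bar K)) ∧
      Sys (richSet K) KK FF ((Nat.card (Bar K)).factorization 2) := by
  have h1 : x ∈ richSet K := ⟨mem_isoSet h ho hK, by rw [L2Pair.KK_eq h ho hK.comp2]; exact ht⟩
  have h2 := data_of_max h ho hK (good_of_isTop hT)
  exact ⟨h1, h2, h2.sys ⟨x, h1⟩⟩

end Cfsg.Agent.GH.TOne
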