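import Cfsg.Agent.GH.TOne.Basic

/-!
# Elementary abelian subgroups, normalizer growth (Lemma N)
-/

set_option autoImplicit false

namespace Cfsg.Agent.GH.TOne

open Subgroup
open Cfsg.Agent.TwoFusion.SectionalRank

variable {G : Type*} [Group G]

/-! ### joins of commuting subgroups -/

theorem comm_of_sq {A : Subgroup G} (hA : ∀ a ∈ A, a * a = 1) {a b : G} (ha : a ∈ A) (hb : b ∈ A) :
    a * b = b * a := by
  have h1 := hA _ (mul_mem ha hb)
  calc a * b = (a * b)⁻¹ := (inv_eq_of_sq h1).symm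
    _ = b⁻¹ * a⁻¹ := by group
    _ = b * a := by rw [inv_eq_of_sq (hA a ha), inv_eq_of_sq (hA b hb)]

theorem mem_sup_comm {A B : Subgroup G} (hc : ∀ a ∈ A, ∀ b ∈ B, a * b = b * a) {x : G} :
    x ∈ A ⊔ B ↔ ∃ a ∈ A, ∃ b ∈ B, x = a * b := by
  constructor
  · intro hx
    have hle : A ⊔ B ≤ ({ carrier := {x | ∃ a ∈ A, ∃ b ∈ B, x = a * b}
                          one_mem' := ⟨1, one_mem _, 1, one_mem _, by rw [mul_one]⟩
                          mul_mem' := by
                            rintro _ _ ⟨a, ha, b, hb, rfl⟩ ⟨a', ha', b', hb', rfl⟩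
                            refine ⟨a * a', mul_mem ha ha', b * b', mul_mem hb hb', ?_⟩
                            calc a * b * (a' * b') = a * (b * a') * b' := by group
                              _ = a * a' * (b * b') := by rw [← hc a' ha' b hb]; group
                          inv_mem' := by
                            rintro _ ⟨a, ha, b, hb, rfl⟩
                            refine ⟨a⁻¹, inv_mem ha, b⁻¹, inv_mem hb, ?_⟩
                            rw [mul_inv_rev]
                            exact (hc _ (inv_mem ha) _ (inv_mem hb)).symm } : Subgroup G) := by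
      rw [sup_le_iff]
      exact ⟨fun a ha => ⟨a, ha, 1, one_mem _, by rw [mul_one]⟩, fun b hb => ⟨1, one_mem _, b, hb, by rw [one_mul]⟩⟩
    exact hle hx
  · rintro ⟨a, ha, b, hb, rfl⟩
    exact mul_mem (mem_sup_left ha) (mem_sup_right hb)

theorem card_sup_comm {A B : Subgroup G} (hc : ∀ a ∈ A, ∀ b ∈ B, a * b = b * a)
    (hd : ∀ x ∈ A, x ∈ B → x = 1) : Nat.card (A ⊔ B : Subgroup G) = Nat.card A * Nat.card B := by
  rw [← Nat.card_prod]
  symm
  apply Nat.card_congr
  refine Equiv.ofBijective (fun p : A × B => (⟨p.1 * p.2, mul_mem (mem_sup_left p.1.2) (mem_sup_right p.2.2)⟩ :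
    (A ⊔ B : Subgroup G))) ⟨?_, ?_⟩
  · rintro ⟨⟨a, ha⟩, ⟨b, hb⟩⟩ ⟨⟨a', ha'⟩, ⟨b', hb'⟩⟩ h
    have h1 : a * b = a' * b' := congrArg Subtype.val h
    have h2 : a'⁻¹ * a = b' * b⁻¹ := by
      calc a'⁻¹ * a = a'⁻¹ * (a * b) * b⁻¹ := by group
        _ = b' * b⁻¹ := by rw [h1]; group
    have h3 : a'⁻¹ * a = 1 := hd _ (mul_mem (inv_mem ha') ha) (h2 ▸ mul_mem hb' (inv_mem hb))
    have h4 : a = a' := (inv_mul_eq_one.1 h3).symm
    subst h4
    have h5 : b = b' := mul_left_cancel h1
    subst h5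
    rfl
  · rintro ⟨x, hx⟩
    obtain ⟨a, ha, b, hb, rfl⟩ := (mem_sup_comm hc).1 hx
    exact ⟨(⟨a, ha⟩, ⟨b, hb⟩), rfl⟩

theorem elem_sup {A B : Subgroup G} (hc : ∀ a ∈ A, ∀ b ∈ B, a * b = b * a) (hA : ∀ a ∈ A, a * a = 1)
    (hB : ∀ b ∈ B, b * b = 1) : ∀ x ∈ A ⊔ B, x * x = 1 := by
  intro x hx
  obtain ⟨a, ha, b, hb, rfl⟩ := (mem_sup_comm hc).1 hx
  calc a * b * (a * b) = a * (b * a) * b := by group
    _ = (a * a) * (b * b) := by rw [← hc a ha b hb]; group
    _ = 1 := by rw [hA a ha, hB b hb, one_mul]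

/-- two disjoint subgroups of `E` -/
theorem card_mul_le [Finite G] {A B E : Subgroup G} (hA : A ≤ E) (hB : B ≤ E) (hd : ∀ x ∈ A, x ∈ B → x = 1) :
    Nat.card A * Nat.card B ≤ Nat.card E := by
  rw [← Nat.card_prod]
  refine Nat.card_le_card_of_injective (fun p : A × B => (⟨p.1 * p.2, mul_mem (hA p.1.2) (hB p.2.2)⟩ : E)) ?_
  rintro ⟨⟨a, ha⟩, ⟨b, hb⟩⟩ ⟨⟨a', ha'⟩, ⟨b', hb'⟩⟩ h
  have h1 : a * b = a' * b' := congrArg Subtype.val h
  have h2 : a'⁻¹ * a = b' * b⁻¹ := by
    calc a'⁻¹ * a = a'⁻¹ * (a * b) * b⁻¹ := by group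
      _ = b' * b⁻¹ := by rw [h1]; group
  have h3 : a'⁻¹ * a = 1 := hd _ (mul_mem (inv_mem ha') ha) (h2 ▸ mul_mem hb' (inv_mem hb))
  have h4 : a = a' := (inv_mul_eq_one.1 h3).symm
  subst h4
  have h5 : b = b' := mul_left_cancel h1
  subst h5
  rfl

theorem exists_inf [Finite G] {A B E : Subgroup G} (hA : A ≤ E) (hB : B ≤ E)
    (hlt : Nat.card E < Nat.card A * Nat.card B) : ∃ x ∈ A, x ∈ B ∧ x ≠ 1 := by
  by_contra hcon
  push Not at hcon
  exact absurd (card_mul_le hA hB hcon) (not_le.2 hlt)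

/-! ### four-groups -/

/-- `{1, a, b, ab}` -/
def four (a b : G) (ha : Inv a) (hb : Inv b) (hc : a * b = b * a) : Subgroup G where
  carrier := {x | x = 1 ∨ x = a ∨ x = b ∨ x = a * b}
  one_mem' := Or.inl rfl
  mul_mem' := by
    have h1 : a * (a * b) = b := by rw [← mul_assoc, ha.sq, one_mul]
    have h2 : b * (a * b) = a := by rw [hc, ← mul_assoc, hb.sq, one_mul]
    have h3 : a * b * a = b := by rw [hc, mul_assoc, ha.sq, mul_one]
    have h4 : a * b * b = a := by rw [mul_assoc, hb.sq, mul_one]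
    have h5 : a * b * (a * b) = 1 := by rw [← mul_assoc, h3, hb.sq]
    rintro x y (rfl | rfl | rfl | rfl) (rfl | rfl | rfl | rfl) <;>
      simp [ha.sq, hb.sq, h1, h2, h3, h4, h5, hc.symm]
  inv_mem' := by
    have h5 : (a * b)⁻¹ = a * b := by rw [mul_inv_rev, ha.inv_eq, hb.inv_eq, hc]
    rintro x (rfl | rfl | rfl | rfl)
    · left; exact inv_one
    · right; left; exact ha.inv_eq
    · right; right; left; exact hb.inv_eq
    · right; right; right; exact h5

theorem mem_four {a b : G} {ha : Inv a} {hb : Inv b} {hc : a * b = b * a} {x : G} :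
    x ∈ four a b ha hb hc ↔ x = 1 ∨ x = a ∨ x = b ∨ x = a * b := Iff.rfl

theorem left_mem_four {a b : G} {ha : Inv a} {hb : Inv b} {hc : a * b = b * a} : a ∈ four a b ha hb hc :=
  Or.inr (Or.inl rfl)

theorem right_mem_four {a b : G} {ha : Inv a} {hb : Inv b} {hc : a * b = b * a} : b ∈ four a b ha hb hc :=
  Or.inr (Or.inr (Or.inl rfl))

theorem four_le {a b : G} {ha : Inv a} {hb : Inv b} {hc : a * b = b * a} {H : Subgroup G} (h1 : a ∈ H) (h2 : b ∈ H) :
    four a b ha hb hc ≤ H := by
  rintro x (rfl | rfl | rfl | rfl)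
  · exact one_mem _
  · exact h1
  · exact h2
  · exact mul_mem h1 h2

theorem four_sq {a b : G} {ha : Inv a} {hb : Inv b} {hc : a * b = b * a} : ∀ x ∈ four a b ha hb hc, x * x = 1 := by
  rintro x (rfl | rfl | rfl | rfl)
  · exact mul_one _
  · exact ha.sq
  · exact hb.sq
  · calc a * b * (a * b) = a * (b * a) * b := by group
      _ = (a * a) * (b * b) := by rw [← hc]; group
      _ = 1 := by rw [ha.sq, hb.sq, one_mul]

theorem card_four {a b : G} {ha : Inv a} {hb : Inv b} {hc : a * b = b * a} (hne : a ≠ b) :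
    Nat.card (four a b ha hb hc) = 4 := by
  classical
  have h0 : a * b ≠ 1 := (ha.mul hb hc hne).ne
  have h1 : a * b ≠ a := fun e => hb.ne (mul_eq_left.1 e)
  have h2 : a * b ≠ b := fun e => ha.ne (mul_eq_right.1 e)
  have : (four a b ha hb hc : Set G) = ((({1, a, b, a * b} : Finset G)) : Set G) := by
    ext x
    simp only [SetLike.mem_coe, mem_four, Finset.coe_insert, Finset.coe_singleton, Set.mem_insert_iff,
      Set.mem_singleton_iff]
  change Nat.card ((four a b ha hb hc : Subgroup G) : Set G) = 4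
  rw [this, Nat.card_coe_set_eq, Set.ncard_coe_finset]
  rw [Finset.card_insert_of_notMem, Finset.card_insert_of_notMem, Finset.card_insert_of_notMem, Finset.card_singleton]
  · simp only [Finset.mem_singleton]; exact h2.symm
  · simp only [Finset.mem_insert, Finset.mem_singleton]
    push Not
    exact ⟨hne, h1.symm⟩
  · simp only [Finset.mem_insert, Finset.mem_singleton]
    push Not
    exact ⟨ha.ne.symm, hb.ne.symm, h0.symm⟩

/-- a subgroup of order four with `x² = 1` containing `a ≠ 1` contains another involution -/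
theorem exists_ne_of_card_four {V : Subgroup G} (hV : Nat.card V = 4) (a : G) :
    ∃ b ∈ V, b ≠ 1 ∧ b ≠ a := by
  classical
  by_contra hcon
  push Not at hcon
  have hsub : (V : Set G) ⊆ (({1, a} : Finset G) : Set G) := by
    intro x hx
    by_cases h1 : x = 1
    · simp [h1]
    · simp [hcon x hx h1]
  have h1 := Set.ncard_le_ncard hsub (Finset.finite_toSet _)
  rw [Set.ncard_coe_finset] at h1
  have h2 : (V : Set G).ncard = 4 := by
    rw [← Nat.card_coe_set_eq]; exact hV
  have h3 := Finset.card_le_two (a := (1 : G)) (b := a)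
  omega

theorem eq_four {V : Subgroup G} (hV : Nat.card V = 4) {a b : G} (ha : Inv a) (hb : Inv b) (hc : a * b = b * a)
    (haV : a ∈ V) (hbV : b ∈ V) (hne : a ≠ b) : four a b ha hb hc = V := by
  have : Finite V := Nat.finite_of_card_ne_zero (by rw [hV]; norm_num)
  apply eq_of_le_of_card_ge (four_le haV hbV)
  rw [hV, card_four hne]

/-! ### rank -/

theorem card_le_of_elem (hr : RankFour G) {A : Subgroup G} (hA : ∀ a ∈ A, a * a = 1) : Nat.card A ≤ 16 := by
  have h1 := hr A ⊥ ⟨bot_le, fun a ha b hb => by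
    rw [mem_bot, comm_of_sq hA ha hb]; group, fun a ha => by rw [pow_two, hA a ha]; exact one_mem _⟩
  rw [card_bot] at h1
  omega

/-- order 32: `V` (order 4), `e`, `U` (order 4) cannot be independent and commuting -/
theorem no_rank_five [Finite G] (hr : RankFour G) {V U : Subgroup G} {e : G} (hV : Nat.card V = 4)
    (hU : Nat.card U = 4) (eV : ∀ v ∈ V, v * v = 1) (eU : ∀ v ∈ U, v * v = 1) (he : Inv e)
    (hVU : ∀ v ∈ V, ∀ u ∈ U, v * u = u * v) (hVe : ∀ v ∈ V, v * e = e * v) (hUe : ∀ u ∈ U, u * e = e * u)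
    (hd : ∀ v ∈ V, v ∈ U → v = 1) (hne : ∀ v ∈ V, ∀ u ∈ U, e ≠ v * u) : False := by
  have h1 := card_sup_comm hVU hd
  rw [hV, hU] at h1
  have hE : Nat.card (zpowers e) = 2 := by
    rw [Nat.card_zpowers]
    exact orderOf_eq_prime (by rw [pow_two]; exact he.sq) he.ne
  have hmem : ∀ x ∈ zpowers e, x = 1 ∨ x = e := by
    intro x hx
    obtain ⟨m, rfl⟩ := mem_zpowers_iff.1 hx
    rcases Int.even_or_odd' m with ⟨k, rfl | rfl⟩
    · left; rw [zpow_mul, zpow_ofNat, pow_two, he.sq, one_zpow]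
    · right; rw [zpow_add, zpow_mul, zpow_ofNat, pow_two, he.sq, one_zpow, one_mul, zpow_one]
  have hcomm : ∀ a ∈ V ⊔ U, ∀ b ∈ zpowers e, a * b = b * a := by
    intro a ha b hb
    obtain ⟨v, hv, u, hu, rfl⟩ := (mem_sup_comm hVU).1 ha
    rcases hmem b hb with rfl | rfl
    · rw [mul_one, one_mul]
    · rw [mul_assoc, hUe u hu, ← mul_assoc, hVe v hv, mul_assoc]
  have h2 := card_sup_comm hcomm (by
    intro x hx hx'
    rcases hmem x hx' with h | rfl
    · exact h
    · exfalso
      obtain ⟨v, hv, u, hu, e'⟩ := (mem_sup_comm hVU).1 hx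
      exact hne v hv u hu e')
  rw [h1, hE] at h2
  have h3 := card_le_of_elem hr (elem_sup hcomm (elem_sup hVU eV eU) (by
    intro b hb
    rcases hmem b hb with rfl | rfl
    · exact mul_one _
    · exact he.sq))
  omega

/-! ### normalizer growth -/

theorem exists_mem_normalizer [Finite G] {T P : Subgroup G} (hP : IsPGroup 2 P) (hle : T ≤ P) (hne : T ≠ P) :
    ∃ y ∈ P, y ∉ T ∧ ∀ g ∈ T, y * g * y⁻¹ ∈ T := by
  have : Fact (Nat.Prime 2) := ⟨Nat.prime_two⟩
  have hnil : Group.IsNilpotent P := hP.isNilpotent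
  have hlt : T.subgroupOf P < ⊤ := by
    rw [lt_top_iff_ne_top]
    intro h
    exact hne (le_antisymm hle (Subgroup.subgroupOf_eq_top.1 h))
  have h1 := Group.normalizerCondition_of_isNilpotent (T.subgroupOf P) hlt
  obtain ⟨y, hy, hyT⟩ := Set.exists_of_ssubset h1
  refine ⟨y, y.2, fun h => hyT h, fun g hg => ?_⟩
  exact (Subgroup.mem_normalizer_iff.1 hy ⟨g, hle hg⟩).1 hg

/-- Lemma N -/
theorem lemmaN [Finite G] {Q P : Subgroup G} (hP : IsPGroup 2 P) (hQ : Q ≤ P)
    (hn : ∀ p ∈ P, ∀ q ∈ Q, p * q * p⁻¹ ∈ Q) {e t : G} (heP : e ∈ P) (he : Inv e) (heQ : e ∉ Q)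
    (huniq : ∀ a ∈ Q, a * e = e * a → a * a = 1 → a = 1 ∨ a = t)
    (hex : ∃ a ∈ Q, a * a = 1 ∧ a ≠ 1 ∧ a ≠ t) : ∃ w ∈ Q, w * e * w⁻¹ = e * t := by
  -- `H = C_Q(e) ⟨e⟩`, as the set of elements `c` or `c e`, inside `R = Q ⟨e⟩`
  let H : Subgroup G :=
    { carrier := {x | ∃ c ∈ Q, c * e = e * c ∧ (x = c ∨ x = c * e)}
      one_mem' := ⟨1, one_mem _, by rw [one_mul, mul_one], Or.inl rfl⟩
      mul_mem' := by
        rintro x y ⟨c, hc, hce, hx⟩ ⟨c', hc', hce', hy⟩
        refine ⟨c * c', mul_mem hc hc', by rw [mul_assoc, hce', ← mul_assoc, hce, mul_assoc], ?_⟩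
        rcases hx with hx | hx <;> rcases hy with hy | hy <;> rw [hx, hy]
        · left; rfl
        · right; group
        · right
          rw [mul_assoc, ← hce', mul_assoc]
        · left
          calc c * e * (c' * e) = c * (e * c') * e := by group
            _ = c * c' * (e * e) := by rw [← hce']; group
            _ = c * c' := by rw [he.sq, mul_one]
      inv_mem' := by
        rintro x ⟨c, hc, hce, hx⟩
        have hce' : c⁻¹ * e = e * c⁻¹ := by
          rw [inv_mul_eq_iff_eq_mul, ← mul_assoc, hce]; group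
        refine ⟨c⁻¹, inv_mem hc, hce', ?_⟩
        rcases hx with hx | hx <;> rw [hx]
        · left; rfl
        · right
          rw [mul_inv_rev, he.inv_eq, hce'] }
  let R : Subgroup G :=
    { carrier := {x | x ∈ Q ∨ x * e ∈ Q}
      one_mem' := Or.inl (one_mem _)
      mul_mem' := by
        have hee : ∀ q ∈ Q, e * q * e ∈ Q := by
          intro q hq
          have := hn e heP q hq
          rwa [he.inv_eq] at this
        rintro a b (ha | ha) (hb | hb)
        · exact Or.inl (mul_mem ha hb)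
        · exact Or.inr (by rw [mul_assoc]; exact mul_mem ha hb)
        · right
          have := mul_mem ha (hee b hb)
          have e' : a * e * (e * b * e) = a * b * e := by
            calc a * e * (e * b * e) = a * (e * e) * b * e := by group
              _ = a * b * e := by rw [he.sq, mul_one]
          rwa [e'] at this
        · left
          have := mul_mem ha (hee _ hb)
          have e' : a * e * (e * (b * e) * e) = a * b := by
            calc a * e * (e * (b * e) * e) = a * (e * e) * b * (e * e) := by group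
              _ = a * b := by rw [he.sq, mul_one, mul_one]
          rwa [e'] at this
      inv_mem' := by
        rintro a (ha | ha)
        · exact Or.inl (inv_mem ha)
        · right
          have h1 := hn e heP _ (inv_mem ha)
          have e' : e * (a * e)⁻¹ * e⁻¹ = a⁻¹ * e := by
            rw [mul_inv_rev, he.inv_eq]
            calc e * (e * a⁻¹) * e = (e * e) * a⁻¹ * e := by group
              _ = a⁻¹ * e := by rw [he.sq, one_mul]
          rwa [e'] at h1 }
  have hRP : R ≤ P := by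
    rintro x (hx | hx)
    · exact hQ hx
    · have := mul_mem (hQ hx) (inv_mem heP)
      rwa [mul_inv_cancel_right] at this
  have hHR : H ≤ R := by
    rintro x ⟨c, hc, hce, rfl | rfl⟩
    · exact Or.inl hc
    · right
      rw [mul_assoc, he.sq, mul_one]; exact hc
  have hne : H ≠ R := by
    intro hEq
    obtain ⟨a, haQ, ha2, ha1, hat⟩ := hex
    have : a ∈ H := by rw [hEq]; exact Or.inl haQ
    obtain ⟨c, hc, hce, rfl | hac⟩ := this
    · rcases huniq a haQ hce ha2 with h | h
      · exact ha1 h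
      · exact hat h
    · apply heQ
      have : e = c⁻¹ * a := by rw [hac]; group
      rw [this]; exact mul_mem (inv_mem hc) haQ
  obtain ⟨w, hwR, hwH, hw⟩ := exists_mem_normalizer (hP.to_le hRP) hHR hne
  have heH : e ∈ H := ⟨1, one_mem _, by rw [one_mul, mul_one], Or.inr (by rw [one_mul])⟩
  -- may take `w ∈ Q`
  obtain ⟨w', hw'Q, hw'H, hw'⟩ : ∃ w' ∈ Q, w' ∉ H ∧ w' * e * w'⁻¹ ∈ H := by
    rcases hwR with hwQ | hwQ
    · exact ⟨w, hwQ, hwH, hw e heH⟩
    · refine ⟨w * e, hwQ, fun h => hwH ?_, ?_⟩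
      · have := H.mul_mem h heH
        rwa [mul_assoc, he.sq, mul_one] at this
      · have := hw e heH
        have e' : w * e * e * (w * e)⁻¹ = w * e * w⁻¹ := by group
        rw [e']; exact this
  have hq : w' * e * w'⁻¹ * e ∈ Q := by
    have h1 := hn e heP _ (inv_mem hw'Q)
    rw [he.inv_eq] at h1
    have := mul_mem hw'Q h1
    have e' : w' * (e * w'⁻¹ * e) = w' * e * w'⁻¹ * e := by group
    rwa [e'] at this
  have hsq : w' * e * w'⁻¹ * (w' * e * w'⁻¹) = 1 := (he.conj w').sq
  obtain ⟨c, hc, hce, h1 | h1⟩ := hw'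
  · exfalso
    apply heQ
    have h2 := mul_mem (inv_mem hc) hq
    rw [h1] at h2
    simpa using h2
  · have hcc : c * c = 1 := by
      rw [h1] at hsq
      calc c * c = c * c * (e * e) := by rw [he.sq, mul_one]
        _ = c * (c * e) * e := by group
        _ = c * (e * c) * e := by rw [hce]
        _ = c * e * (c * e) := by group
        _ = 1 := hsq
    rcases huniq c hc hce hcc with h2 | h2
    · exfalso
      rw [h2, one_mul] at h1
      apply hw'H
      exact ⟨w', hw'Q, mul_inv_eq_iff_eq_mul.1 h1, Or.inl rfl⟩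
    · refine ⟨w', hw'Q, ?_⟩
      rw [h1, hce, h2]

end Cfsg.Agent.GH.TOne
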