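import Cfsg.Agent.GH.TOne.Sys

/-!
# Basic facts for `Sys`
-/

set_option autoImplicit false

namespace Cfsg.Agent.GH.TOne

open Subgroup
open Cfsg.Agent.TwoFusion.SectionalRank

variable {G : Type*} [Group G]

/-! ### involutions -/

theorem Inv.inv_eq {x : G} (h : Inv x) : x⁻¹ = x := inv_eq_of_mul_eq_one_left h.sq

theorem inv_eq_of_sq {x : G} (h : x * x = 1) : x⁻¹ = x := inv_eq_of_mul_eq_one_left h

theorem Inv.conj {x : G} (h : Inv x) (g : G) : Inv (g * x * g⁻¹) := by
  refine ⟨?_, fun e => h.ne ?_⟩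
  · calc g * x * g⁻¹ * (g * x * g⁻¹) = g * (x * x) * g⁻¹ := by group
      _ = 1 := by rw [h.sq]; group
  · calc x = g⁻¹ * (g * x * g⁻¹) * g := by group
      _ = 1 := by rw [e]; group

theorem Inv.mul {x y : G} (hx : Inv x) (hy : Inv y) (hc : x * y = y * x) (hne : x ≠ y) : Inv (x * y) := by
  refine ⟨?_, fun e => hne ?_⟩
  · calc x * y * (x * y) = x * (y * x) * y := by group
      _ = (x * x) * (y * y) := by rw [← hc]; group
      _ = 1 := by rw [hx.sq, hy.sq, one_mul]
  · calc x = x * (y * y) := by rw [hy.sq, mul_one]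
      _ = (x * y) * y := by group
      _ = y := by rw [e, one_mul]

theorem isPGroup_zpowers_of_sq {x : G} (h : x * x = 1) : IsPGroup 2 (zpowers x) := by
  rintro ⟨y, hy⟩
  refine ⟨1, ?_⟩
  obtain ⟨n, rfl⟩ := mem_zpowers_iff.1 hy
  apply Subtype.ext
  simp only [SubmonoidClass.mk_pow, OneMemClass.coe_one]
  rw [pow_one, pow_two, ← zpow_add, ← two_mul, zpow_mul, zpow_ofNat, pow_two, h, one_zpow]

theorem isPGroup_zpowers_of_mem {x : G} {T : Subgroup G} (hT : IsPGroup 2 T) (hx : x ∈ T) :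
    IsPGroup 2 (zpowers x) := hT.to_le (zpowers_le.2 hx)

/-! ### `SylC` -/

section sylc

variable [Finite G]

theorem exists_sylC {y : G} {P : Subgroup G} (hP : IsPGroup 2 P) (hc : ∀ x ∈ P, x * y = y * x) :
    ∃ T : Subgroup G, SylC y T ∧ P ≤ T := by
  have hle : P ≤ centralizer ({y} : Set G) := fun x hx => mem_centralizer_singleton_iff.2 (hc x hx)
  have hP' : IsPGroup 2 (P.subgroupOf (centralizer ({y} : Set G))) :=
    hP.comap_of_injective _ (subtype_injective _)
  obtain ⟨S, hS⟩ := hP'.exists_le_sylow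
  refine ⟨(S : Subgroup (centralizer ({y} : Set G))).map (centralizer ({y} : Set G)).subtype, ⟨?_, ?_, ?_⟩, ?_⟩
  · exact S.2.map _
  · rintro _ ⟨x, -, rfl⟩
    exact mem_centralizer_singleton_iff.1 x.2
  · intro R hR hRc
    have hRle : R ≤ centralizer ({y} : Set G) := fun x hx => mem_centralizer_singleton_iff.2 (hRc x hx)
    have hR' : IsPGroup 2 (R.subgroupOf (centralizer ({y} : Set G))) :=
      hR.comap_of_injective _ (subtype_injective _)
    obtain ⟨S', hS'⟩ := hR'.exists_le_sylow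
    rw [card_map_of_injective (subtype_injective _)]
    have h1 : Nat.card (S : Subgroup (centralizer ({y} : Set G))) = Nat.card (S' : Subgroup (centralizer ({y} : Set G))) := by
      rw [S.card_eq_multiplicity, S'.card_eq_multiplicity]
    have h2 : Nat.card R = Nat.card (R.subgroupOf (centralizer ({y} : Set G))) :=
      (Nat.card_congr (subgroupOfEquivOfLe hRle).toEquiv).symm
    change Nat.card R ≤ Nat.card (S : Subgroup (centralizer ({y} : Set G)))
    rw [h1, h2]
    exact card_le_of_le hS'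
  · intro x hx
    exact ⟨⟨x, hle hx⟩, hS (mem_subgroupOf.2 hx), rfl⟩

omit [Finite G] in
theorem card_conj (g : G) (T : Subgroup G) : Nat.card (T.map (MulAut.conj g).toMonoidHom) = Nat.card T :=
  card_map_of_injective (MulAut.conj g).injective

omit [Finite G] in
theorem mem_map_conj {g x : G} {T : Subgroup G} : x ∈ T.map (MulAut.conj g).toMonoidHom ↔ g⁻¹ * x * g ∈ T := by
  constructor
  · rintro ⟨y, hy, rfl⟩
    simpa [mul_assoc] using hy
  · intro h
    exact ⟨_, h, by simp [mul_assoc]⟩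

omit [Finite G] in
theorem SylC.conj {y : G} {T : Subgroup G} (h : SylC y T) (g : G) :
    SylC (g * y * g⁻¹) (T.map (MulAut.conj g).toMonoidHom) := by
  refine ⟨h.two.map _, ?_, ?_⟩
  · intro x hx
    rw [mem_map_conj] at hx
    have := h.cent _ hx
    calc x * (g * y * g⁻¹) = g * ((g⁻¹ * x * g) * y) * g⁻¹ := by group
      _ = g * (y * (g⁻¹ * x * g)) * g⁻¹ := by rw [this]
      _ = g * y * g⁻¹ * x := by group
  · intro P hP hPc
    rw [card_conj]
    have h1 := h.max (P.map (MulAut.conj g⁻¹).toMonoidHom) (hP.map _) (by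
      intro x hx
      rw [mem_map_conj, inv_inv] at hx
      have := hPc _ hx
      calc x * y = g⁻¹ * ((g * x * g⁻¹) * (g * y * g⁻¹)) * g := by group
        _ = g⁻¹ * ((g * y * g⁻¹) * (g * x * g⁻¹)) * g := by rw [this]
        _ = y * x := by group)
    rwa [card_conj] at h1

omit [Finite G] in
theorem SylC.card_eq {y : G} {T T' : Subgroup G} (h : SylC y T) (h' : SylC y T') : Nat.card T = Nat.card T' :=
  le_antisymm (h'.max T h.two h.cent) (h.max T' h'.two h'.cent)

theorem SylC.eq_of_le {y : G} {T P : Subgroup G} (h : SylC y T) (hP : IsPGroup 2 P)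
    (hc : ∀ x ∈ P, x * y = y * x) (hle : T ≤ P) : P = T :=
  (eq_of_le_of_card_ge hle (h.max P hP hc)).symm

omit [Finite G] in
/-- a subgroup of `C(z)` which is Sylow in `C(y)` is Sylow in `C(z)` for `z` conjugate to `y` -/
theorem SylC.of_conj {y z g : G} {T : Subgroup G} (h : SylC y T) (hz : g * y * g⁻¹ = z)
    (hc : ∀ x ∈ T, x * z = z * x) : SylC z T := by
  refine ⟨h.two, hc, fun P hP hPc => ?_⟩
  have h1 := h.conj g
  rw [hz] at h1
  have := h1.max P hP hPc
  rwa [card_conj] at this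

/-- an element commuting with `y`, of 2-power order and normalizing `T`, lies in `T` -/
theorem SylC.mem_of_normalizes {y x : G} {T : Subgroup G} (h : SylC y T) (hx : IsPGroup 2 (zpowers x))
    (hc : x * y = y * x) (hn : ∀ t ∈ T, x * t * x⁻¹ ∈ T) : x ∈ T := by
  have hxn : x ∈ normalizer (T : Set G) := by
    have h1 : T.map (MulAut.conj x).toMonoidHom ≤ T := by
      rintro _ ⟨t, ht, rfl⟩
      exact hn t ht
    have h2 : T.map (MulAut.conj x).toMonoidHom = T := eq_of_le_of_card_ge h1 (card_conj x T).ge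
    rw [mem_normalizer_iff]
    intro t
    constructor
    · exact hn t
    · intro ht
      have : x * t * x⁻¹ ∈ T.map (MulAut.conj x).toMonoidHom := by rw [h2]; exact ht
      rw [mem_map_conj] at this
      simpa [mul_assoc] using this
  have hp : IsPGroup 2 (T ⊔ zpowers x : Subgroup G) := h.two.to_sup_of_normal_left' hx (zpowers_le.2 hxn)
  have hcent : ∀ t ∈ (T ⊔ zpowers x : Subgroup G), t * y = y * t := by
    have hle : (T ⊔ zpowers x : Subgroup G) ≤ centralizer ({y} : Set G) := by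
      rw [sup_le_iff, zpowers_le]
      exact ⟨fun t ht => mem_centralizer_singleton_iff.2 (h.cent t ht), mem_centralizer_singleton_iff.2 hc⟩
    exact fun t ht => mem_centralizer_singleton_iff.1 (hle ht)
  have := h.eq_of_le hp hcent le_sup_left
  rw [← this]
  exact mem_sup_right (mem_zpowers x)

/-- two Sylow 2-subgroups of `C(y)` are conjugate in `C(y)` -/
theorem SylC.exists_conj {y : G} {T T' : Subgroup G} (h : SylC y T) (h' : SylC y T') :
    ∃ c : G, c * y = y * c ∧ T.map (MulAut.conj c).toMonoidHom = T' := by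
  set C := centralizer ({y} : Set G) with hC
  have hle : ∀ {P : Subgroup G}, SylC y P → P ≤ C := fun hP x hx => mem_centralizer_singleton_iff.2 (hP.cent x hx)
  have key : ∀ {P : Subgroup G}, SylC y P → ∃ S : Sylow 2 C, (S : Subgroup C).map C.subtype = P := by
    intro P hP
    have hP' : IsPGroup 2 (P.subgroupOf C) := hP.two.comap_of_injective _ (subtype_injective _)
    obtain ⟨S, hS⟩ := hP'.exists_le_sylow
    refine ⟨S, ?_⟩
    apply hP.eq_of_le (S.2.map _)
    · rintro _ ⟨x, -, rfl⟩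
      exact mem_centralizer_singleton_iff.1 x.2
    · intro x hx
      exact ⟨⟨x, hle hP hx⟩, hS (mem_subgroupOf.2 hx), rfl⟩
  obtain ⟨S, rfl⟩ := key h
  obtain ⟨S', rfl⟩ := key h'
  obtain ⟨c, hc⟩ := MulAction.exists_smul_eq C S S'
  refine ⟨c, mem_centralizer_singleton_iff.1 c.2, ?_⟩
  rw [← hc, Sylow.coe_subgroup_smul]
  ext x
  rw [mem_map_conj]
  constructor
  · rintro ⟨u, hu, hux⟩
    refine ⟨c * u * c⁻¹, ?_, ?_⟩
    · exact ⟨u, hu, rfl⟩
    · change (c : G) * u * (c : G)⁻¹ = x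
      rw [show ((u : C) : G) = (c : G)⁻¹ * x * c from hux]
      group
  · rintro ⟨u, ⟨v, hv, hvu⟩, hux⟩
    refine ⟨v, hv, ?_⟩
    have h1 : (u : G) = (c : G) * v * (c : G)⁻¹ := by
      rw [← hvu]; rfl
    change (v : G) = (c : G)⁻¹ * x * c
    rw [← hux]
    change (v : G) = (c : G)⁻¹ * (u : G) * c
    rw [h1]; group

end sylc

/-! ### elementary consequences of `Sys` -/

namespace Sys

variable {X : Set G} {K F : G → Subgroup G} {n : ℕ} (h : Sys X K F n)
include h

theorem memK_conj_iff {y : G} (hy : y ∈ X) (g x : G) : g * x * g⁻¹ ∈ K (g * y * g⁻¹) ↔ x ∈ K y := by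
  refine ⟨fun hx => ?_, fun hx => h.conjK y hy g x hx⟩
  have := h.conjK _ (h.conj y hy g) g⁻¹ _ hx
  simpa [mul_assoc] using this

theorem memF_conj_iff {y : G} (hy : y ∈ X) (g x : G) : g * x * g⁻¹ ∈ F (g * y * g⁻¹) ↔ x ∈ F y := by
  refine ⟨fun hx => ?_, fun hx => h.conjF y hy g x hx⟩
  have := h.conjF _ (h.conj y hy g) g⁻¹ _ hx
  simpa [mul_assoc] using this

theorem inner_conj {y : G} (hy : y ∈ X) (g : G) {x : G} (hx : Inner K F y x) :
    Inner K F (g * y * g⁻¹) (g * x * g⁻¹) := by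
  obtain ⟨f, hf, k, hk, rfl⟩ := hx
  exact ⟨_, h.conjF y hy g f hf, _, h.conjK y hy g k hk, by group⟩

theorem inner_conj_iff {y : G} (hy : y ∈ X) (g x : G) :
    Inner K F (g * y * g⁻¹) (g * x * g⁻¹) ↔ Inner K F y x := by
  refine ⟨fun hx => ?_, fun hx => h.inner_conj hy g hx⟩
  have := h.inner_conj (h.conj y hy g) g⁻¹ hx
  simpa [mul_assoc] using this

omit h in
theorem conj_self {y g : G} (hg : g * y = y * g) : g * y * g⁻¹ = y := by rw [hg]; group

theorem conjK_self {y g k : G} (hy : y ∈ X) (hg : g * y = y * g) (hk : k ∈ K y) : g * k * g⁻¹ ∈ K y := by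
  have := h.conjK y hy g k hk
  rwa [conj_self hg] at this

theorem conjF_self {y g k : G} (hy : y ∈ X) (hg : g * y = y * g) (hk : k ∈ F y) : g * k * g⁻¹ ∈ F y := by
  have := h.conjF y hy g k hk
  rwa [conj_self hg] at this

theorem conjI_self {y g k : G} (hy : y ∈ X) (hg : g * y = y * g) (hk : Inner K F y k) :
    Inner K F y (g * k * g⁻¹) := by
  have := h.inner_conj hy g hk
  rwa [conj_self hg] at this

omit h in
theorem inner_of_F {y x : G} (hx : x ∈ F y) : Inner K F y x := ⟨x, hx, 1, one_mem _, by rw [mul_one]⟩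

omit h in
theorem inner_of_K {y x : G} (hx : x ∈ K y) : Inner K F y x := ⟨1, one_mem _, x, hx, by rw [one_mul]⟩

theorem inner_comm {y x : G} (hy : y ∈ X) (hx : Inner K F y x) : x * y = y * x := by
  obtain ⟨f, hf, k, hk, rfl⟩ := hx
  rw [mul_assoc, h.centK y hy k hk, ← mul_assoc, h.centF y hy f hf, mul_assoc]

theorem inner_mul {y a b : G} (hy : y ∈ X) (ha : Inner K F y a) (hb : Inner K F y b) :
    Inner K F y (a * b) := by
  obtain ⟨f, hf, k, hk, rfl⟩ := ha
  obtain ⟨f', hf', k', hk', rfl⟩ := hb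
  refine ⟨f * f', mul_mem hf hf', f'⁻¹ * k * f' * k', mul_mem ?_ hk', by group⟩
  have hc : f'⁻¹ * y = y * f'⁻¹ := h.centF y hy _ (inv_mem hf')
  have := h.conjK_self hy hc hk
  rwa [inv_inv] at this

theorem inner_inv {y a : G} (hy : y ∈ X) (ha : Inner K F y a) : Inner K F y a⁻¹ := by
  obtain ⟨f, hf, k, hk, rfl⟩ := ha
  refine ⟨f⁻¹, inv_mem hf, f * k⁻¹ * f⁻¹, h.conjK_self hy (h.centF y hy _ hf) (inv_mem hk), by group⟩

/-- the group of inner elements -/
def inn {y : G} (hy : y ∈ X) : Subgroup G where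
  carrier := {x | Inner K F y x}
  one_mem' := inner_of_F (one_mem _)
  mul_mem' := h.inner_mul hy
  inv_mem' := h.inner_inv hy

theorem symm {y t : G} (hy : y ∈ X) (ht : t ∈ X) (hty : t ∈ F y) : y ∈ F t :=
  h.share y hy t ht hty y rfl (h.centF y hy t hty).symm (h.self y hy)

theorem share_iff {y t x : G} (hy : y ∈ X) (ht : t ∈ X) (hty : t ∈ F y) (h1 : x * y = y * x)
    (h2 : x * t = t * x) : x ∈ F y ↔ x ∈ F t :=
  ⟨h.share y hy t ht hty x h1 h2, h.share t ht y hy (h.symm hy ht hty) x h2 h1⟩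

theorem shareI_iff {y t x : G} (hy : y ∈ X) (ht : t ∈ X) (hty : t ∈ F y) (h1 : x * y = y * x)
    (h2 : x * t = t * x) : Inner K F y x ↔ Inner K F t x :=
  ⟨h.shareI y hy t ht hty x h1 h2, h.shareI t ht y hy (h.symm hy ht hty) x h2 h1⟩

theorem shareK_iff {y t x : G} (hy : y ∈ X) (ht : t ∈ X) (hty : t ∈ F y) (h1 : x * y = y * x)
    (h2 : x * t = t * x) (hp : IsPGroup 2 (zpowers x)) : x ∈ K y ↔ x ∈ K t :=
  ⟨h.shareK y hy t ht hty x h1 h2 hp, h.shareK t ht y hy (h.symm hy ht hty) x h2 h1 hp⟩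

/-- `y ~~ x ~~ t`, `y`, `t` commuting implies `y ~~ t` -/
theorem trans {y x t : G} (hy : y ∈ X) (hx : x ∈ X) (hyx : y ∈ F x) (htx : t ∈ F x)
    (hc : t * y = y * t) : t ∈ F y :=
  h.share x hx y hy hyx t (h.centF x hx t htx) hc htx

/-- 2-elements of `K y ∩ F y` are trivial -/
theorem disj_two {y x : G} (hy : y ∈ X) (hK : x ∈ K y) (hF : x ∈ F y) (hp : IsPGroup 2 (zpowers x)) : x = 1 := by
  obtain ⟨k, hk⟩ := hp ⟨x, mem_zpowers x⟩
  have hk' : x ^ 2 ^ k = 1 := by
    have := congrArg Subtype.val hk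
    simpa using this
  clear hk
  induction k with
  | zero => simpa using hk'
  | succ k ih =>
    apply ih
    refine h.disj y hy _ (pow_mem hK _) (pow_mem hF _) ?_
    rw [← pow_add, ← two_mul, ← pow_succ']
    exact hk'

theorem disjQD {y x : G} {T : Subgroup G} (hT : IsPGroup 2 T) (hy : y ∈ X) (hxT : x ∈ T) (hK : x ∈ K y)
    (hF : x ∈ F y) : x = 1 := h.disj_two hy hK hF (isPGroup_zpowers_of_mem hT hxT)

/-- `[Q, D] = 1` -/
theorem commQD {y q d : G} {T : Subgroup G} (hT : IsPGroup 2 T) (hy : y ∈ X) (hqT : q ∈ T) (hdT : d ∈ T)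
    (hq : q ∈ F y) (hd : d ∈ K y) : q * d = d * q := by
  have h1 : q * d * q⁻¹ * d⁻¹ = 1 := by
    apply h.disjQD hT hy (mul_mem (mul_mem (mul_mem hqT hdT) (inv_mem hqT)) (inv_mem hdT))
    · exact mul_mem (h.conjK_self hy (h.centF y hy q hq) hd) (inv_mem hd)
    · have := h.conjF_self hy (h.centK y hy d hd) (inv_mem hq)
      have h2 := mul_mem hq this
      have e : q * (d * q⁻¹ * d⁻¹) = q * d * q⁻¹ * d⁻¹ := by group
      rwa [e] at h2
  calc q * d = (q * d * q⁻¹ * d⁻¹) * (d * q) := by group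
    _ = d * q := by rw [h1, one_mul]

theorem disj_inv {y x : G} (hy : y ∈ X) (hK : x ∈ K y) (hF : x ∈ F y) (hx : Inv x) : False :=
  hx.ne (h.disj y hy x hK hF hx.sq)

end Sys

end Cfsg.Agent.GH.TOne
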