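import Cfsg.Agent.GH.TOne.LemP

/-!
# Lemma P of `blueprints/GH-L2-T1.md`: dihedral groups
-/

set_option autoImplicit false

namespace Cfsg.Agent.GH.TOne

open Subgroup
open Cfsg.Agent.TwoFusion.SectionalRank

variable {G : Type*} [Group G]

namespace DihP

variable {n : ℕ} {D : Subgroup G} {r s : G}

theorem s_pow (h : Dih n D r s) (i : ℕ) : s * r ^ i * s = (r ^ i)⁻¹ := by
  induction i with
  | zero => rw [pow_zero, mul_one, h.sq, inv_one]
  | succ i ih =>
    calc s * r ^ (i + 1) * s = s * r ^ i * (s * s) * r * s := by rw [h.sq, pow_succ]; group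
      _ = (s * r ^ i * s) * (s * r * s) := by group
      _ = (r ^ i)⁻¹ * r⁻¹ := by rw [ih, h.rel]
      _ = (r ^ (i + 1))⁻¹ := by rw [pow_succ']; group

theorem s_mul_pow (h : Dih n D r s) (i : ℕ) : s * r ^ i = (r ^ i)⁻¹ * s := by
  rw [← s_pow h i, mul_assoc, h.sq, mul_one]

theorem pow_mul_s (h : Dih n D r s) (i : ℕ) : r ^ i * s = s * (r ^ i)⁻¹ := by
  rw [← s_pow h i, ← mul_assoc, ← mul_assoc, h.sq, one_mul]

theorem refl_sq (h : Dih n D r s) (i : ℕ) : r ^ i * s * (r ^ i * s) = 1 := by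
  calc r ^ i * s * (r ^ i * s) = r ^ i * (s * r ^ i * s) := by group
    _ = 1 := by rw [s_pow h, mul_inv_cancel]

theorem r_pow_mem (h : Dih n D r s) (i : ℕ) : r ^ i ∈ D := pow_mem h.rmem i

theorem z_sq (h : Dih n D r s) (hn : 2 ≤ n) : r ^ 2 ^ (n - 2) * r ^ 2 ^ (n - 2) = 1 := by
  rw [← pow_add, ← two_mul, ← pow_succ']
  have : n - 2 + 1 = n - 1 := by omega
  rw [this, ← h.ord, pow_orderOf_eq_one]

theorem z_ne (h : Dih n D r s) (hn : 2 ≤ n) : r ^ 2 ^ (n - 2) ≠ 1 := by
  intro h1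
  have h2 := orderOf_dvd_of_pow_eq_one h1
  rw [h.ord] at h2
  have h3 := Nat.pow_dvd_pow_iff_le_right (by norm_num : 1 < 2) |>.1 h2
  omega

theorem inv_z (h : Dih n D r s) (hn : 2 ≤ n) : Inv (r ^ 2 ^ (n - 2)) := ⟨z_sq h hn, z_ne h hn⟩

/-- a power of `r` squaring to `1` is `1` or the central involution -/
theorem pow_eq (h : Dih n D r s) (hn : 2 ≤ n) {i : ℕ} (hi : r ^ i * r ^ i = 1) :
    r ^ i = 1 ∨ r ^ i = r ^ 2 ^ (n - 2) := by
  rw [← pow_add, ← two_mul] at hi
  have h2 := orderOf_dvd_of_pow_eq_one hi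
  rw [h.ord] at h2
  have h3 : n - 1 = n - 2 + 1 := by omega
  rw [h3, pow_succ'] at h2
  obtain ⟨m, hm⟩ := Nat.dvd_of_mul_dvd_mul_left (by norm_num) h2
  have hz := z_sq h hn
  rcases Nat.even_or_odd' m with ⟨k, rfl | rfl⟩
  · left
    rw [hm, pow_mul, pow_mul, pow_two, hz, one_pow]
  · right
    rw [hm, pow_mul, pow_succ, pow_mul, pow_two, hz, one_pow, one_mul]

theorem comm_z (h : Dih n D r s) (hn : 2 ≤ n) {x : G} (hx : x ∈ D) :
    x * r ^ 2 ^ (n - 2) = r ^ 2 ^ (n - 2) * x := by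
  have hz : s * r ^ 2 ^ (n - 2) = r ^ 2 ^ (n - 2) * s := by
    rw [s_mul_pow h, inv_eq_of_mul_eq_one_left (z_sq h hn)]
  obtain ⟨i, rfl | rfl⟩ := h.exh x hx
  · rw [← pow_add, ← pow_add, add_comm]
  · rw [mul_assoc, hz, ← mul_assoc, ← mul_assoc, ← pow_add, ← pow_add, add_comm]

/-- a noncentral involution is a reflection -/
theorem of_noncentral (h : Dih n D r s) (hn : 2 ≤ n) {a : G} (ha : a ∈ D) (haa : a * a = 1)
    (hc : ∃ x ∈ D, x * a ≠ a * x) : Dih n D r a := by
  classical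
  obtain ⟨i, rfl | rfl⟩ := h.exh a ha
  · exfalso
    obtain ⟨x, hx, hne⟩ := hc
    rcases pow_eq h hn haa with h1 | h1
    · rw [h1] at hne; exact hne (by rw [mul_one, one_mul])
    · rw [h1] at hne; exact hne (comm_z h hn hx)
  · refine ⟨h.rmem, ha, h.ord, haa, ?_, ?_, ?_⟩
    · have e1 : r ^ i * s * r * (r ^ i * s) = r ^ i * (s * r ^ (i + 1) * s) := by
        rw [pow_succ']; group
      rw [e1, s_pow h, pow_succ']
      group
    · intro h1
      apply h.notMem
      have := mul_mem (inv_mem (pow_mem (mem_zpowers r) i)) h1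
      rwa [inv_mul_cancel_left] at this
    · intro x hx
      have h1 : ∀ j : ℕ, ∃ k : ℕ, r ^ k = r ^ j * (r ^ i)⁻¹ := by
        intro j
        have h2 : r ^ j * (r ^ i)⁻¹ ∈ zpowers r :=
          mul_mem (pow_mem (mem_zpowers r) j) (inv_mem (pow_mem (mem_zpowers r) i))
        have h3 : IsOfFinOrder r := by
          rw [← orderOf_pos_iff, h.ord]; positivity
        rw [h3.mem_zpowers_iff_mem_range_orderOf] at h2
        obtain ⟨k, _, hk⟩ := Finset.mem_image.1 h2
        exact ⟨k, hk⟩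
      obtain ⟨j, rfl | rfl⟩ := h.exh x hx
      · exact ⟨j, Or.inl rfl⟩
      · obtain ⟨k, hk⟩ := h1 j
        refine ⟨k, Or.inr ?_⟩
        rw [hk]; group

/-- elements of `D` commuting with `s` -/
theorem comm_s (h : Dih n D r s) (hn : 2 ≤ n) {x : G} (hx : x ∈ D) (hxs : x * s = s * x) :
    x = 1 ∨ x = r ^ 2 ^ (n - 2) ∨ x = s ∨ x = r ^ 2 ^ (n - 2) * s := by
  have key : ∀ i : ℕ, r ^ i * s = s * r ^ i → r ^ i = 1 ∨ r ^ i = r ^ 2 ^ (n - 2) := by
    intro i hi
    apply pow_eq h hn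
    rw [s_mul_pow h] at hi
    have h1 : r ^ i = (r ^ i)⁻¹ := mul_right_cancel hi
    calc r ^ i * r ^ i = r ^ i * (r ^ i)⁻¹ := by rw [← h1]
      _ = 1 := mul_inv_cancel _
  obtain ⟨i, rfl | rfl⟩ := h.exh x hx
  · rcases key i hxs with h1 | h1
    · left; exact h1
    · right; left; exact h1
  · have h2 : r ^ i * s = s * r ^ i := by
      apply mul_right_cancel (b := s)
      rw [hxs]; group
    rcases key i h2 with h1 | h1
    · right; right; left; rw [h1, one_mul]
    · right; right; right; rw [h1]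

/-- an element of order at least `4` is a rotation -/
theorem rot_of_sq_ne (h : Dih n D r s) {x : G} (hx : x ∈ D) (hxx : x * x ≠ 1) : ∃ i : ℕ, x = r ^ i := by
  obtain ⟨i, rfl | rfl⟩ := h.exh x hx
  · exact ⟨i, rfl⟩
  · exact absurd (refl_sq h i) hxx

/-- **Lemma P**: with a commuting four-group, an element `p` outside of `D` inducing an automorphism
`= inner` on a reflection contradicts sectional rank four. -/
theorem false_of_fix [Finite G] (hr : RankFour G) (hn : 3 ≤ n) (h : Dih n D r s) {Q : Subgroup G} (hDQ : D ≤ Q)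
    {p : G} (hpQ : p ∈ Q) (hp : ∀ x ∈ D, p * x * p⁻¹ ∈ D) (hpD : p ∉ D) (hpp : p * p ∈ D)
    (hps : p * s = s * p) {u v : G} (hu : Inv u) (hv : Inv v) (huv : u ≠ v) (huvc : u * v = v * u)
    (huQ : ∀ q ∈ Q, u * q = q * u) (hvQ : ∀ q ∈ Q, v * q = q * v)
    (hd : u ∉ Q ∧ v ∉ Q ∧ u * v ∉ Q) : False := by
  have hn2 : 2 ≤ n := by omega
  set z := r ^ 2 ^ (n - 2) with hz
  have hzz : z * z = 1 := z_sq h hn2
  have hz1 : z ≠ 1 := z_ne h hn2
  have hzi : z⁻¹ = z := inv_eq_of_mul_eq_one_left hzz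
  set c := r ^ 2 ^ (n - 3) with hc
  have hcc : c * c = z := by
    rw [hc, hz, ← pow_add, ← two_mul, ← pow_succ']
    congr 2; omega
  have hrr : r * r ≠ 1 := by
    intro h1
    have h2 : r ^ 2 = 1 := by rw [pow_two]; exact h1
    have h3 := orderOf_dvd_of_pow_eq_one h2
    rw [h.ord] at h3
    have h4 := Nat.pow_dvd_pow_iff_le_right (by norm_num : 1 < 2) |>.1 (show 2 ^ (n - 1) ∣ 2 ^ 1 by simpa using h3)
    omega
  -- action of `p` on `r`
  obtain ⟨k, hk⟩ : ∃ k : ℕ, p * r * p⁻¹ = r ^ k := by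
    apply rot_of_sq_ne h (hp r h.rmem)
    intro h1
    apply hrr
    calc r * r = p⁻¹ * (p * r * p⁻¹ * (p * r * p⁻¹)) * p := by group
      _ = 1 := by rw [h1]; group
  have hpow : ∀ j : ℕ, p * r ^ j * p⁻¹ = r ^ (k * j) := by
    intro j
    rw [← conj_pow, hk, pow_mul]
  -- `k` is odd
  have hpz : p * z * p⁻¹ = z ^ k := by
    rw [hz, hpow, mul_comm, pow_mul]
  have hkodd : Odd k := by
    rw [← Nat.not_even_iff_odd]
    rintro ⟨m, rfl⟩
    apply hz1
    have h1 : z ^ (m + m) = 1 := by rw [← two_mul, pow_mul, pow_two, hzz, one_pow]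
    rw [h1] at hpz
    calc z = p⁻¹ * (p * z * p⁻¹) * p := by group
      _ = 1 := by rw [hpz]; group
  obtain ⟨m, hm⟩ := hkodd
  have hzk : z ^ k = z := by
    rw [hm, pow_succ, pow_mul, pow_two, hzz, one_pow, one_mul]
  have hpz' : p * z = z * p := by
    rw [hzk] at hpz
    exact mul_inv_eq_iff_eq_mul.1 hpz
  have hpc : p * c = c * p ∨ p * c = c * p * z := by
    have h1 : p * c * p⁻¹ = z ^ m * c := by
      rw [hc, hpow, mul_comm, pow_mul, ← hc, hm, pow_succ, pow_mul, pow_two, hcc]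
    have h2 : z ^ m = 1 ∨ z ^ m = z := by
      rcases Nat.even_or_odd' m with ⟨j, rfl | rfl⟩
      · left; rw [pow_mul, pow_two, hzz, one_pow]
      · right; rw [pow_succ, pow_mul, pow_two, hzz, one_pow, one_mul]
    have h3 : p * c = z ^ m * c * p := mul_inv_eq_iff_eq_mul.1 h1
    rcases h2 with h2 | h2
    · left; rw [h3, h2, one_mul]
    · right
      rw [h3, h2]
      have h4 : z * c = c * z := by rw [hz, hc, ← pow_add, ← pow_add, add_comm]
      rw [h4, mul_assoc, ← hpz', ← mul_assoc]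
  -- `p * p ∈ {1, z}`
  have hpp' : p * p = 1 ∨ p * p = z := by
    have h1 : p * p * s = s * (p * p) := by rw [mul_assoc, hps, ← mul_assoc, hps, mul_assoc]
    have key : p * p * r * (p * p)⁻¹ ≠ r⁻¹ := by
      intro h2
      have h3 : p * p * r * (p * p)⁻¹ = r ^ (k * k) := by
        calc p * p * r * (p * p)⁻¹ = p * (p * r * p⁻¹) * p⁻¹ := by group
          _ = r ^ (k * k) := by rw [hk, hpow]
      rw [h3] at h2
      have h4 : r ^ (k * k + 1) = 1 := by rw [pow_succ, h2, inv_mul_cancel]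
      have h5 := orderOf_dvd_of_pow_eq_one h4
      rw [h.ord] at h5
      have h6 : 4 ∣ k * k + 1 := by
        refine dvd_trans ?_ h5
        have : n - 1 = (n - 3) + 2 := by omega
        rw [this, pow_add]
        exact Dvd.intro_left _ rfl
      rw [hm] at h6
      have h7 : (2 * m + 1) * (2 * m + 1) + 1 = 4 * (m * m + m) + 2 := by ring
      omega
    rcases comm_s h hn2 hpp h1 with h2 | h2 | h2 | h2
    · left; exact h2
    · right; exact h2
    · exfalso
      apply key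
      rw [h2, inv_eq_of_mul_eq_one_left h.sq, h.rel]
    · exfalso
      apply key
      rw [h2, ← hz]
      have h5 : z * s = s * z := (comm_z h hn2 h.smem).symm
      have h6 : z * r = r * z := (comm_z h hn2 h.rmem).symm
      calc z * s * r * (z * s)⁻¹ = z * (s * r * s⁻¹) * z⁻¹ := by group
        _ = z * (s * r * s) * z⁻¹ := by rw [inv_eq_of_mul_eq_one_left h.sq]
        _ = z * r⁻¹ * z⁻¹ := by rw [h.rel]
        _ = (z * r * z⁻¹)⁻¹ := by group
        _ = r⁻¹ := by rw [h6]; group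
  -- the five elements
  have hcD : c ∈ D := r_pow_mem h _
  have hzD : z ∈ D := r_pow_mem h _
  have hcz : c * z = z * c := comm_z h hn2 hcD
  have hsz : s * z = z * s := comm_z h hn2 h.smem
  have hcs : c * s = s * c * z := by
    have h1 : c⁻¹ = c * z := by
      rw [inv_eq_iff_mul_eq_one, ← mul_assoc, hcc, hzz]
    rw [hc, pow_mul_s h, ← hc, h1, ← mul_assoc]
  have hsymm : ∀ x y : G, y * z = z * y → x * z = z * x → (x * y = y * x ∨ x * y = y * x * z) →
      (y * x = x * y ∨ y * x = x * y * z) := by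
    rintro x y _ _ (h1 | h1)
    · left; exact h1.symm
    · right; rw [h1, mul_assoc, hzz, mul_one]
  have huz : u * z = z * u := huQ z (hDQ hzD)
  have hvz : v * z = z * v := hvQ z (hDQ hzD)
  have huc : u * c = c * u := huQ c (hDQ hcD)
  have hvc : v * c = c * v := hvQ c (hDQ hcD)
  have hus : u * s = s * u := huQ s (hDQ h.smem)
  have hvs : v * s = s * v := hvQ s (hDQ h.smem)
  have hup : u * p = p * u := huQ p hpQ
  have hvp : v * p = p * v := hvQ p hpQ
  have huQ' : ∀ x ∈ Q, ∀ w ∈ zpowers u, x * w = w * x := by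
    intro x hx w hw
    obtain ⟨i, rfl⟩ := mem_zpowers_iff.1 hw
    have : Commute u x := huQ x hx
    exact (this.zpow_left i).eq.symm
  refine LemP.kill_five hr (z := z) (x₁ := c) (x₂ := s) (x₃ := p) (x₄ := u) (x₅ := v) hzz ?_ ?_ ?_
    (H₀ := zpowers z) (H₁ := zpowers r) (H₂ := D) (H₃ := Q) (H₄ := Q ⊔ zpowers u)
    (mem_zpowers z) (by rw [zpowers_le]; exact pow_mem (mem_zpowers r) _)
    (pow_mem (mem_zpowers r) _) (by rw [zpowers_le]; exact h.rmem) h.smem hDQ hpQ le_sup_left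
    (mem_sup_right (mem_zpowers u)) ?_ h.notMem hpD hd.1 ?_
  · rintro x (rfl | rfl | rfl | rfl | rfl)
    · exact hcz
    · exact hsz
    · exact hpz'
    · exact huz
    · exact hvz
  · rintro x (rfl | rfl | rfl | rfl | rfl) y (rfl | rfl | rfl | rfl | rfl)
    all_goals first
      | exact Or.inl rfl
      | exact Or.inl hps
      | exact Or.inl hps.symm
      | exact Or.inl huc
      | exact Or.inl huc.symm
      | exact Or.inl hvc
      | exact Or.inl hvc.symm
      | exact Or.inl hus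
      | exact Or.inl hus.symm
      | exact Or.inl hvs
      | exact Or.inl hvs.symm
      | exact Or.inl hup
      | exact Or.inl hup.symm
      | exact Or.inl hvp
      | exact Or.inl hvp.symm
      | exact Or.inl huvc
      | exact Or.inl huvc.symm
      | exact Or.inr hcs
      | exact hsymm _ _ hsz hcz (Or.inr hcs)
      | exact hpc
      | exact hsymm _ _ hcz hpz' hpc
  · rintro x (rfl | rfl | rfl | rfl | rfl)
    · right; exact hcc
    · left; exact h.sq
    · exact hpp'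
    · left; exact hu.sq
    · left; exact hv.sq
  · intro h1
    apply hz1
    obtain ⟨i, hi⟩ := mem_zpowers_iff.1 h1
    have h2 : c * c = 1 := by
      rw [← hi, ← zpow_add, ← two_mul, zpow_mul, zpow_ofNat, pow_two, hzz, one_zpow]
    rw [← hcc, h2]
  · intro h1
    obtain ⟨q, hq, w, hw, e⟩ := (mem_sup_comm huQ').1 h1
    obtain ⟨i, rfl⟩ := mem_zpowers_iff.1 hw
    rcases Int.even_or_odd' i with ⟨j, rfl | rfl⟩
    · rw [zpow_mul, zpow_ofNat, pow_two, hu.sq, one_zpow, mul_one] at e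
      rw [e] at hd
      exact hd.2.1 hq
    · rw [zpow_add, zpow_mul, zpow_ofNat, pow_two, hu.sq, one_zpow, one_mul, zpow_one] at e
      apply hd.2.2
      rw [e, ← mul_assoc, huQ q hq, mul_assoc, hu.sq, mul_one]
      exact hq

end DihP

end Cfsg.Agent.GH.TOne
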