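import Cfsg.Agent.GH.TOne.Struct

/-!
# The output of parts (1)-(3) of Case II, `n ≥ 3` (interface)
-/

set_option autoImplicit false

namespace Cfsg.Agent.GH.TOne

open Subgroup

variable {G : Type*} [Group G]

/-- The configuration of Case II, `n ≥ 3`, after parts (1)-(3) of the blueprint. -/
structure Pre (X : Set G) (K F : G → Subgroup G) (n : ℕ) (T : Subgroup G) (y z g : G) : Prop where
  three : 3 ≤ n
  yX : y ∈ X
  zX : z ∈ X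
  sylY : SylC y T
  sylZ : SylC z T
  norm : ∀ t ∈ T, g * t * g⁻¹ ∈ T
  gy : g * y * g⁻¹ = z
  gz : g * z * g⁻¹ = y
  zK : z ∈ K y
  yK : y ∈ K z
  yzX : y * z ∉ X
  KyF : ∀ x ∈ T, x ∈ K y → x ∈ F z
  KzF : ∀ x ∈ T, x ∈ K z → x ∈ F y
  /-- parity -/
  parity : ∀ h : G, (∀ t ∈ T, h * t * h⁻¹ ∈ T) → h * y * h⁻¹ = z → ∀ a ∈ T ⊓ K z, Inv a → a ≠ y →
    ∀ d ∈ T ⊓ K z, h * (h * a * h⁻¹) * h⁻¹ ≠ d * a * d⁻¹

end Cfsg.Agent.GH.TOne
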