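import Cfsg.Agent.GH.TOne.CaseTwo
import Cfsg.Agent.GH.TOne.LemPDih
import Cfsg.Agent.GH.TOne.PreDefs

/-!
# Case II, `n ≥ 3`, parts (1)-(3)
-/

set_option autoImplicit false

namespace Cfsg.Agent.GH.TOne

open Subgroup

variable {G : Type*} [Group G]

/-- conjugacy under `D` -/
def Cj (D : Subgroup G) (a b : G) : Prop := ∃ d ∈ D, b = d * a * d⁻¹

theorem Cj.symm {D : Subgroup G} {a b : G} (h : Cj D a b) : Cj D b a := by
  obtain ⟨d, hd, rfl⟩ := h
  exact ⟨d⁻¹, inv_mem hd, by group⟩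

theorem Cj.trans {D : Subgroup G} {a b c : G} (h : Cj D a b) (h' : Cj D b c) : Cj D a c := by
  obtain ⟨d, hd, rfl⟩ := h
  obtain ⟨e, he, rfl⟩ := h'
  exact ⟨e * d, mul_mem he hd, by group⟩

theorem Cj.refl (D : Subgroup G) (a : G) : Cj D a a := ⟨1, one_mem _, by group⟩

theorem Dih.cj {n : ℕ} {D : Subgroup G} {r s : G} (d : Dih n D r s) (hn : 3 ≤ n) {a : G} (ha : a ∈ D) (ia : Inv a)
    (hne : a ≠ r ^ 2 ^ (n - 2)) : Cj D s a ∨ Cj D (r * s) a := by
  have key : ∀ j : ℕ, s * (r ^ j)⁻¹ = r ^ j * s := by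
    intro j
    rw [mul_inv_eq_iff_eq_mul, mul_assoc, d.s_mul_pow]; group
  obtain ⟨i, rfl | rfl⟩ := d.exh a ha
  · exfalso
    rcases DihP.pow_eq d (by omega) ia.sq with h1 | h1
    · exact ia.ne h1
    · exact hne h1
  · rcases Nat.even_or_odd' i with ⟨j, rfl | rfl⟩
    · left
      refine ⟨r ^ j, pow_mem d.rmem _, ?_⟩
      rw [mul_assoc (r ^ j), key, ← mul_assoc, ← pow_add, two_mul]
    · right
      refine ⟨r ^ j, pow_mem d.rmem _, ?_⟩
      calc r ^ (2 * j + 1) * s = r ^ j * r * (r ^ j * s) := by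
            rw [← mul_assoc, mul_assoc (r ^ j) r, ← pow_succ', ← pow_add]; congr 2; omega
        _ = r ^ j * (r * s) * (r ^ j)⁻¹ := by rw [← key]; group

/-- there are only two classes of noncentral involutions -/
theorem Dih.pigeon {n : ℕ} {D : Subgroup G} {r s : G} (d : Dih n D r s) (hn : 3 ≤ n) {a b c : G} (ha : a ∈ D) (hb : b ∈ D)
    (hc : c ∈ D) (ia : Inv a) (ib : Inv b) (ic : Inv c) (na : a ≠ r ^ 2 ^ (n - 2)) (nb : b ≠ r ^ 2 ^ (n - 2))
    (nc : c ≠ r ^ 2 ^ (n - 2)) : Cj D a b ∨ Cj D a c ∨ Cj D b c := by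
  rcases d.cj hn ha ia na with h1 | h1 <;> rcases d.cj hn hb ib nb with h2 | h2 <;>
    rcases d.cj hn hc ic nc with h3 | h3
  · exact Or.inl (h1.symm.trans h2)
  · exact Or.inl (h1.symm.trans h2)
  · exact Or.inr (Or.inl (h1.symm.trans h3))
  · exact Or.inr (Or.inr (h2.symm.trans h3))
  · exact Or.inr (Or.inr (h2.symm.trans h3))
  · exact Or.inr (Or.inl (h1.symm.trans h3))
  · exact Or.inl (h1.symm.trans h2)
  · exact Or.inl (h1.symm.trans h2)

/-- an involution commuting with all of `D` is the centre -/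
theorem Dih.eq_z {n : ℕ} {D : Subgroup G} {r s : G} (d : Dih n D r s) (hn : 3 ≤ n) {a : G} (ha : a ∈ D) (ia : Inv a)
    (hc : ∀ x ∈ D, a * x = x * a) : a = r ^ 2 ^ (n - 2) := by
  by_contra hne
  have hrr : r * r ≠ 1 := by
    intro h1
    have h2 : r ^ 2 = 1 := by rw [pow_two]; exact h1
    have h3 := orderOf_dvd_of_pow_eq_one h2
    rw [d.ord] at h3
    have h4 := Nat.pow_dvd_pow_iff_le_right (by norm_num : 1 < 2) |>.1 (show 2 ^ (n - 1) ∣ 2 ^ 1 by simpa using h3)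
    omega
  have hcent : ∀ b ∈ D, Cj D b a → b = a := by
    rintro b hb ⟨x, hx, e⟩
    have h1 : x⁻¹ * a * x = b := by rw [e]; group
    rw [← h1, mul_assoc, hc x hx]; group
  have hsr : s * r = r⁻¹ * s := by simpa using d.s_mul_pow 1
  rcases d.cj hn ha ia hne with h1 | h1
  · have h2 := hcent s d.smem h1
    have h3 := hc r d.rmem
    rw [← h2, hsr, mul_left_inj] at h3
    apply hrr
    nth_rewrite 1 [← h3]; group
  · have h2 := hcent (r * s) (mul_mem d.rmem d.smem) h1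
    have h3 := hc r d.rmem
    rw [← h2, mul_assoc, hsr] at h3
    have h4 : r * r * s = s := by
      calc r * r * s = r * (r * s) := by group
        _ = r * (r⁻¹ * s) := h3.symm
        _ = s := by group
    exact hrr (mul_eq_right.1 h4)

variable [Finite G] {X : Set G} {K F : G → Subgroup G} {n : ℕ}

/-- an element of `X` which is inner at `t` lies in `F t` or in `K t` -/
theorem mem_K_of_inner (h : Sys X K F n) (hr : RankFour G) (h1 : AllTOne X K F) {t x : G} (ht : t ∈ X) (hx : x ∈ X)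
    (hin : Inner K F t x) (hxF : x ∉ F t) : x ∈ K t := by
  obtain ⟨T, hT, hxT, a, ha, b, hb, ha2, ib, rfl⟩ := inner_dec h ht (h.inv x hx) hin hxF
  by_cases ha1 : a = 1
  · rw [ha1, one_mul]; exact (mem_inf.1 hb).2
  · exfalso
    obtain ⟨V, hV, hV4, hV2, htV, haV⟩ := exists_VF h ht hT ha
    obtain ⟨r, s, d⟩ := h.dih t ht T hT
    obtain ⟨U, hU, hU4, hU2, -, hbU⟩ := exists_UD d h.two_le b hb
    have p : Pair X K F V U t := ⟨ht, htV, fun v hv => (mem_inf.1 (hV hv)).2, fun u hu => (mem_inf.1 (hU hu)).2,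
      hV4, hU4, hV2, hU2, fun v hv u hu => h.comm_FK ht hT (hV hv) (hU hu)⟩
    rcases lemmaR h hr h1 p hx (mul_mem (mem_sup_left (haV ha2)) (mem_sup_right (hbU ib.sq))) with h2 | h2
    · exact hxF (p.VF h2)
    · apply ha1
      apply h.eq_one_FK ht hT ha
      have h3 := mul_mem (p.UK h2) (inv_mem (mem_inf.1 hb).2)
      rwa [mul_inv_cancel_right] at h3

/-- (1) -/
theorem one_gz (h : Sys X K F n) (hr : RankFour G) (h1 : AllTOne X K F) (hn : 3 ≤ n) {y z g : G} {T : Subgroup G}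
    (hy : y ∈ X) (hT : SylC y T) (hzD : z ∈ T ⊓ K y) (iz : Inv z) (hzc : ∀ t ∈ T, t * z = z * t)
    (hg : g * y * g⁻¹ = z) (hgT : ∀ t ∈ T, g * t * g⁻¹ ∈ T) : y ∈ K z ∧ g * z * g⁻¹ = y := by
  have hzX : z ∈ X := hg ▸ h.conj y hy g
  have sylZ : SylC z T := hT.of_conj hg hzc
  obtain ⟨hzT, hzK⟩ := mem_inf.1 hzD
  have hyT := h.mem_T hy hT
  have iy := h.inv y hy
  have hzF : z ∉ F y := fun h2 => h.disj_inv hy hzK h2 iz
  have hyF : y ∉ F z := fun h2 => hzF (h.symm hzX hy h2)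
  obtain ⟨r, s, d⟩ := h.dih z hzX T sylZ
  have hin : Inner K F z y := by
    by_contra hcon
    rcases h.outer_type z hzX T sylZ y hyT iy hcon with ⟨hf, -⟩ | ⟨r', s', hd⟩
    · obtain ⟨b, hb, ib, hbz⟩ := h.exists_inv_F hzX sylZ
      apply hbz
      exact h.ftype_unique hr hzX sylZ iy hcon hf hb (mem_inf.2 ⟨hzT, h.self z hzX⟩) ib iz
        (h.centF z hzX b (mem_inf.1 hb).2) (hT.cent b (mem_inf.1 hb).1) (hT.cent z hzT)
    · obtain ⟨z₀, -, -, hC, -⟩ := hd.exists h.two_le iy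
      obtain ⟨a, ha, b, hb, ia, ib, hab, -⟩ := h.exists_four_K hzX sylZ
      rcases hC a ha (hT.cent a (mem_inf.1 ha).1) with h3 | h3
      · exact ia.ne h3
      · rcases hC b hb (hT.cent b (mem_inf.1 hb).1) with h4 | h4
        · exact ib.ne h4
        · exact hab (h3.trans h4.symm)
  have hyK : y ∈ K z := mem_K_of_inner h hr h1 hzX hy hin hyF
  refine ⟨hyK, ?_⟩
  have hz'K : g * z * g⁻¹ ∈ T ⊓ K z := by
    refine mem_inf.2 ⟨hgT z hzT, ?_⟩
    have := h.conjK y hy g z hzK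
    rwa [hg] at this
  have e1 := d.eq_z hn (mem_inf.2 ⟨hyT, hyK⟩) iy (fun x hx => (hT.cent x (mem_inf.1 hx).1).symm)
  have e2 := d.eq_z hn hz'K (iz.conj g) (by
    intro x hx
    have h3 := hzc _ (norm_inv hgT x (mem_inf.1 hx).1)
    calc g * z * g⁻¹ * x = g * (z * (g⁻¹ * x * g)) * g⁻¹ := by group
      _ = g * ((g⁻¹ * x * g) * z) * g⁻¹ := by rw [h3]
      _ = x * (g * z * g⁻¹) := by group)
  rw [e2, ← e1]

omit [Finite G] in
/-- swapping a pair is impossible -/
theorem no_swap (h : Sys X K F n) (h1 : AllTOne X K F) {y z a u k : G} (hz : z ∉ F y) (hy : y ∈ X)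
    (iy : Inv y) (iz : Inv z) (ia : Inv a) (iu : Inv u) (hya : y * a = a * y) (hzu : z * u = u * z) (nya : y ≠ a)
    (nzu : z ≠ u) (haF : a ∈ F y) (hzK : z ∈ K y) (huK : u ∈ K y) (haz : a * z = z * a) (hau : a * u = u * a)
    (k1 : k * y * k⁻¹ = z) (k2 : k * z * k⁻¹ = y) (k3 : k * a * k⁻¹ = u) (k4 : k * u * k⁻¹ = a) : False := by
  have hVF : four y a iy ia hya ≤ F y := four_le (h.self y hy) haF
  have hUK : four z u iz iu hzu ≤ K y := four_le hzK huK
  have p : Pair X K F (four y a iy ia hya) (four z u iz iu hzu) y := ⟨hy, left_mem_four, hVF, hUK,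
    card_four nya, card_four nzu, four_sq, four_sq, by
      intro v hv
      have hvz : v * z = z * v := four_comm (h.centK y hy z hzK).symm haz v hv
      have hvu : v * u = u * v := four_comm (h.centK y hy u huK).symm hau v hv
      rintro w (rfl | rfl | rfl | rfl)
      · rw [mul_one, one_mul]
      · exact hvz
      · exact hvu
      · rw [← mul_assoc, hvz, mul_assoc, hvu, mul_assoc]⟩
  have hswap : ∀ v ∈ four y a iy ia hya, k * v * k⁻¹ ∈ four z u iz iu hzu := by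
    rintro v (rfl | rfl | rfl | rfl)
    · rw [mul_one, mul_inv_cancel]; exact one_mem _
    · rw [k1]; exact left_mem_four
    · rw [k3]; exact right_mem_four
    · have : k * (y * a) * k⁻¹ = (k * y * k⁻¹) * (k * a * k⁻¹) := by group
      rw [this, k1, k3]; exact mul_mem left_mem_four right_mem_four
  have hswap' : ∀ v ∈ four z u iz iu hzu, k * v * k⁻¹ ∈ four y a iy ia hya := by
    rintro v (rfl | rfl | rfl | rfl)
    · rw [mul_one, mul_inv_cancel]; exact one_mem _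
    · rw [k2]; exact left_mem_four
    · rw [k4]; exact right_mem_four
    · have : k * (z * u) * k⁻¹ = (k * z * k⁻¹) * (k * u * k⁻¹) := by group
      rw [this, k2, k4]; exact mul_mem left_mem_four right_mem_four
  obtain ⟨h2, -⟩ := h1 _ _ y p k (by
    intro x hx
    obtain ⟨v, hv, u', hu', rfl⟩ := p.mem.1 hx
    have : k * (v * u') * k⁻¹ = (k * v * k⁻¹) * (k * u' * k⁻¹) := by group
    rw [this]
    exact mul_mem (mem_sup_right (hswap v hv)) (mem_sup_left (hswap' u' hu')))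
  have h3 := h2 y left_mem_four
  rw [k1] at h3
  exact hz (hVF h3)

/-- parts (1)-(3) -/
theorem pre_of (h : Sys X K F n) (hr : RankFour G) (h1 : AllTOne X K F) (hn : 3 ≤ n) {y : G} {T : Subgroup G}
    (hy : y ∈ X) (hT : SylC y T) (hx : ∃ x ∈ K y, Inv x ∧ ∃ g : G, g * y * g⁻¹ = x) :
    ∃ z g : G, Pre X K F n T y z g := by
  obtain ⟨z, hzD, iz, hzc, g, hg, hgT⟩ := start h hy hT hx
  obtain ⟨hyK, hgz⟩ := one_gz h hr h1 hn hy hT hzD iz hzc hg hgT
  have hzX : z ∈ X := hg ▸ h.conj y hy g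
  have sylZ : SylC z T := hT.of_conj hg hzc
  obtain ⟨hzT, hzK⟩ := mem_inf.1 hzD
  have hyT := h.mem_T hy hT
  have iy := h.inv y hy
  have hzF : z ∉ F y := fun h2 => h.disj_inv hy hzK h2 iz
  have hyF : y ∉ F z := fun h2 => hzF (h.symm hzX hy h2)
  obtain ⟨r, s, d⟩ := h.dih z hzX T sylZ
  have hyr : y = r ^ 2 ^ (n - 2) :=
    d.eq_z hn (mem_inf.2 ⟨hyT, hyK⟩) iy (fun x hx => (hT.cent x (mem_inf.1 hx).1).symm)
  obtain ⟨r', s', d'⟩ := h.dih y hy T hT
  have hzr : z = r' ^ 2 ^ (n - 2) := d'.eq_z hn hzD iz (fun x hx => (hzc x (mem_inf.1 hx).1).symm)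
  have hzI : ∀ {a : G}, Inner K F z (z * a) → Inner K F z a := by
    intro a ha
    have h2 := h.inner_mul hzX (Sys.inner_of_F (h.self z hzX)) ha
    rwa [← mul_assoc, iz.sq, one_mul] at h2
  -- (2)
  have hinv : ∀ u ∈ T ⊓ K y, Inv u → u ≠ z → u ∈ F z := by
    intro u hu iu huz
    by_contra huF
    obtain ⟨huT, huK⟩ := mem_inf.1 hu
    have hzu : z * u = u * z := (hzc u huT).symm
    have star : ∀ a ∈ T ⊓ F y, Inv a → a ≠ y → a ∈ K z ∧ ¬ Inner K F z u := by
      intro a ha ia hay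
      obtain ⟨haT, haF⟩ := mem_inf.1 ha
      have hya : y * a = a * y := (h.centF y hy a haF).symm
      have hVT : four y a iy ia hya ≤ T := four_le hyT haT
      have hUT : four z u iz iu hzu ≤ T := four_le hzT huT
      have hVF : four y a iy ia hya ≤ F y := four_le (h.self y hy) haF
      have hUK : four z u iz iu hzu ≤ K y := four_le hzK huK
      have p : Pair X K F (four y a iy ia hya) (four z u iz iu hzu) y := ⟨hy, left_mem_four, hVF, hUK,
        card_four (Ne.symm hay), card_four (Ne.symm huz), four_sq, four_sq, fun v hv w hw =>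
          h.comm_FK hy hT (mem_inf.2 ⟨hVT hv, hVF hv⟩) (mem_inf.2 ⟨hUT hw, hUK hw⟩)⟩
      rcases lemmaR_full h hr h1 p hzX (mem_sup_right left_mem_four) sylZ (sup_le hVT hUT) with
        h2 | ⟨-, h2 | h2 | h2⟩
      · exact absurd (hVF h2) hzF
      · exact absurd (h2.1 right_mem_four) huF
      · exact absurd (h2.1 right_mem_four) huF
      · obtain ⟨-, h3, h4⟩ := h2
        refine ⟨?_, h4 u right_mem_four iu.ne huz⟩
        have haX : a ∈ X := h.closed y hy a haF ia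
        have haI : Inner K F z a := by
          rcases h3 a right_mem_four with h5 | h5
          · exact Sys.inner_of_K h5
          · exact hzI (Sys.inner_of_K h5)
        have haFz : a ∉ F z := by
          intro h5
          exact hzF (h.trans hy haX (h.symm hy haX haF) (h.symm hzX haX h5) (hzc y hyT).symm)
        exact mem_K_of_inner h hr h1 hzX haX haI haFz
    obtain ⟨a, ha, ia, hay⟩ := h.exists_inv_F hy hT
    obtain ⟨haK, huI⟩ := star a ha ia hay
    obtain ⟨haT, haF⟩ := mem_inf.1 ha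
    have hu1T : g * a * g⁻¹ ∈ T := hgT a haT
    have hu1F : g * a * g⁻¹ ∈ F z := by have := h.conjF y hy g a haF; rwa [hg] at this
    have hu1K : g * a * g⁻¹ ∈ K y := by have := h.conjK z hzX g a haK; rwa [hgz] at this
    set u₁ := g * a * g⁻¹ with hu₁
    have ha2T : g * u₁ * g⁻¹ ∈ T := hgT _ hu1T
    have ha2F : g * u₁ * g⁻¹ ∈ F y := by have := h.conjF z hzX g _ hu1F; rwa [hgz] at this
    have ha2K : g * u₁ * g⁻¹ ∈ K z := by have := h.conjK y hy g _ hu1K; rwa [hg] at this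
    have hvT : g * u * g⁻¹ ∈ T := hgT u huT
    have hvK : g * u * g⁻¹ ∈ K z := by have := h.conjK y hy g _ huK; rwa [hg] at this
    have hvI : ¬ Inner K F y (g * u * g⁻¹) := by
      intro h2
      rw [← hgz] at h2
      exact huI ((h.inner_conj_iff hzX g u).1 h2)
    have iu₁ : Inv u₁ := ia.conj g
    have nu₁ : u₁ ≠ z := by
      intro e
      apply hay
      have : g * a * g⁻¹ = g * y * g⁻¹ := by rw [hg]; exact e
      exact mul_left_cancel (mul_right_cancel this)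
    have na2 : g * u₁ * g⁻¹ ≠ y := by
      intro e
      apply nu₁
      have : g * u₁ * g⁻¹ = g * z * g⁻¹ := by rw [hgz]; exact e
      exact mul_left_cancel (mul_right_cancel this)
    have nv : g * u * g⁻¹ ≠ y := by
      intro e
      apply huz
      have : g * u * g⁻¹ = g * z * g⁻¹ := by rw [hgz]; exact e
      exact mul_left_cancel (mul_right_cancel this)
    have hcase := d.pigeon hn (mem_inf.2 ⟨haT, haK⟩) (mem_inf.2 ⟨ha2T, ha2K⟩) (mem_inf.2 ⟨hvT, hvK⟩) ia
      (iu₁.conj g) (iu.conj g) (hyr ▸ hay) (hyr ▸ na2) (hyr ▸ nv)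
    rcases hcase with ⟨x, hx, e⟩ | ⟨x, hx, e⟩ | ⟨x, hx, e⟩
    · obtain ⟨hxT, hxK⟩ := mem_inf.1 hx
      have hxu : x * u₁ = u₁ * x := (h.comm_FK hzX sylZ (mem_inf.2 ⟨hu1T, hu1F⟩) hx).symm
      refine no_swap h h1 (a := a) (u := u₁) (k := x⁻¹ * g) hzF hy iy iz ia iu₁
        (h.centF y hy a haF).symm (hzc _ hu1T).symm (Ne.symm hay) (Ne.symm nu₁) haF hzK hu1K (hzc a haT)
        (h.comm_FK hy hT ha (mem_inf.2 ⟨hu1T, hu1K⟩)) ?_ ?_ ?_ ?_
      · calc x⁻¹ * g * y * (x⁻¹ * g)⁻¹ = x⁻¹ * (g * y * g⁻¹) * x := by group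
          _ = x⁻¹ * (z * x) := by rw [hg]; group
          _ = z := by rw [← hzc x hxT]; group
      · calc x⁻¹ * g * z * (x⁻¹ * g)⁻¹ = x⁻¹ * (g * z * g⁻¹) * x := by group
          _ = x⁻¹ * (y * x) := by rw [hgz]; group
          _ = y := by rw [← hT.cent x hxT]; group
      · calc x⁻¹ * g * a * (x⁻¹ * g)⁻¹ = x⁻¹ * (g * a * g⁻¹) * x := by group
          _ = x⁻¹ * (u₁ * x) := by rw [← hu₁]; group
          _ = u₁ := by rw [← hxu]; group
      · calc x⁻¹ * g * u₁ * (x⁻¹ * g)⁻¹ = x⁻¹ * (g * u₁ * g⁻¹) * x := by group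
          _ = a := by rw [e]; group
    · apply hvI
      rw [e]
      exact Sys.inner_of_F (h.conjF_self hy (hT.cent x (mem_inf.1 hx).1) haF)
    · apply hvI
      rw [e]
      exact Sys.inner_of_F (h.conjF_self hy (hT.cent x (mem_inf.1 hx).1) ha2F)
  have hsz : s' ≠ z := by
    intro e
    apply d'.notMem
    rw [e, hzr]; exact npow_mem_zpowers r' _
  have hrs1 : r' * s' ∉ zpowers r' := by
    intro h2
    apply d'.notMem
    have := mul_mem (inv_mem (mem_zpowers r')) h2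
    rwa [inv_mul_cancel_left] at this
  have irs : Inv (r' * s') := by
    refine ⟨?_, fun e => hrs1 (by rw [e]; exact one_mem _)⟩
    have := DihP.refl_sq d' 1
    simpa using this
  have hrsz : r' * s' ≠ z := by
    intro e
    apply hrs1
    rw [e, hzr]; exact npow_mem_zpowers r' _
  have hsF := hinv s' d'.smem d'.sInv hsz
  have hrsF := hinv (r' * s') (mul_mem d'.rmem d'.smem) irs hrsz
  have hrF : r' ∈ F z := by
    have := mul_mem hrsF hsF
    rwa [mul_assoc, d'.sq, mul_one] at this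
  have KyF : ∀ x ∈ T, x ∈ K y → x ∈ F z := by
    intro x hxT hxK
    obtain ⟨i, rfl | rfl⟩ := d'.exh x (mem_inf.2 ⟨hxT, hxK⟩)
    · exact pow_mem hrF i
    · exact mul_mem (pow_mem hrF i) hsF
  have KzF : ∀ x ∈ T, x ∈ K z → x ∈ F y := by
    intro x hxT hxK
    have h2 := norm_inv hgT x hxT
    have e : g * (g⁻¹ * x * g) * g⁻¹ = x := by group
    have h3 : g⁻¹ * x * g ∈ K y := by
      rw [← h.memK_conj_iff hy g, e, hg]; exact hxK
    have h4 := h.conjF z hzX g _ (KyF _ h2 h3)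
    rwa [e, hgz] at h4
  refine ⟨z, g, ⟨hn, hy, hzX, hT, sylZ, hgT, hg, hgz, hzK, hyK, ?_, KyF, KzF, ?_⟩⟩
  · intro h2
    have h3 : Inner K F y (y * z) := h.inner_mul hy (Sys.inner_of_F (h.self y hy)) (Sys.inner_of_K hzK)
    have h4 : y * z ∉ F y := by
      intro h5
      have := mul_mem (inv_mem (h.self y hy)) h5
      rw [inv_mul_cancel_left] at this
      exact hzF this
    have h5 := mem_K_of_inner h hr h1 hy h2 h3 h4
    have h6 := mul_mem h5 (inv_mem hzK)
    rw [mul_inv_cancel_right] at h6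
    exact h.disj_inv hy h6 (h.self y hy) iy
  · intro k hkT hk a ha ia hay x hx e
    obtain ⟨-, hkz⟩ := one_gz h hr h1 hn hy hT hzD iz hzc hk hkT
    obtain ⟨haT, haK⟩ := mem_inf.1 ha
    obtain ⟨hxT, hxK⟩ := mem_inf.1 hx
    have haF := KzF a haT haK
    have hu1T : k * a * k⁻¹ ∈ T := hkT a haT
    have hu1K : k * a * k⁻¹ ∈ K y := by have := h.conjK z hzX k a haK; rwa [hkz] at this
    have hu1F := KyF _ hu1T hu1K
    set u₁ := k * a * k⁻¹ with hu₁
    have iu₁ : Inv u₁ := ia.conj k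
    have nu₁ : u₁ ≠ z := by
      intro e
      apply hay
      have : k * a * k⁻¹ = k * y * k⁻¹ := by rw [hk]; exact e
      exact mul_left_cancel (mul_right_cancel this)
    have hxu : x * u₁ = u₁ * x := (h.comm_FK hzX sylZ (mem_inf.2 ⟨hu1T, hu1F⟩) hx).symm
    refine no_swap h h1 (a := a) (u := u₁) (k := x⁻¹ * k) hzF hy iy iz ia iu₁
      (h.centF y hy a haF).symm (hzc _ hu1T).symm (Ne.symm hay) (Ne.symm nu₁) haF hzK hu1K (hzc a haT)
      (h.comm_FK hy hT (mem_inf.2 ⟨haT, haF⟩) (mem_inf.2 ⟨hu1T, hu1K⟩)) ?_ ?_ ?_ ?_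
    · calc x⁻¹ * k * y * (x⁻¹ * k)⁻¹ = x⁻¹ * (k * y * k⁻¹) * x := by group
        _ = x⁻¹ * (z * x) := by rw [hk]; group
        _ = z := by rw [← hzc x hxT]; group
    · calc x⁻¹ * k * z * (x⁻¹ * k)⁻¹ = x⁻¹ * (k * z * k⁻¹) * x := by group
        _ = x⁻¹ * (y * x) := by rw [hkz]; group
        _ = y := by rw [← hT.cent x hxT]; group
    · calc x⁻¹ * k * a * (x⁻¹ * k)⁻¹ = x⁻¹ * (k * a * k⁻¹) * x := by group
        _ = x⁻¹ * (u₁ * x) := by rw [← hu₁]; group
        _ = u₁ := by rw [← hxu]; group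
    · calc x⁻¹ * k * u₁ * (x⁻¹ * k)⁻¹ = x⁻¹ * (k * u₁ * k⁻¹) * x := by group
        _ = a := by rw [e]; group

end Cfsg.Agent.GH.TOne
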