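import Cfsg.Agent.GH.TOne.InnerPair
import Cfsg.Agent.Transfer.PGroupNormal

/-!
# Case II: the start, and the case `n = 2`
-/

set_option autoImplicit false

namespace Cfsg.Agent.GH.TOne

open Subgroup

variable {G : Type*} [Group G]

theorem Dih.card_two {D : Subgroup G} {r s : G} (d : Dih 2 D r s) : Nat.card D = 4 ∧ ∀ x ∈ D, x * x = 1 := by
  have hz := d.zInv le_rfl
  have hzr : r ^ 2 ^ (2 - 2) = r := by simp
  rw [hzr] at hz
  have hc : r * s = s * r := by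
    have := d.z_s le_rfl
    rwa [hzr] at this
  have hne : r ≠ s := by
    have := d.z_ne_s
    rwa [hzr] at this
  have hD : D = four r s hz d.sInv hc := by
    apply le_antisymm
    · intro x hx
      have hr2 : ∀ i : ℕ, r ^ i = 1 ∨ r ^ i = r := by
        intro i
        rcases Nat.even_or_odd' i with ⟨k, rfl | rfl⟩
        · left; rw [pow_mul, pow_two, hz.sq, one_pow]
        · right; rw [pow_succ, pow_mul, pow_two, hz.sq, one_pow, one_mul]
      obtain ⟨i, rfl | rfl⟩ := d.exh x hx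
      · rcases hr2 i with h1 | h1 <;> rw [h1]
        · exact one_mem _
        · exact left_mem_four
      · rcases hr2 i with h1 | h1 <;> rw [h1]
        · rw [one_mul]; exact right_mem_four
        · exact mul_mem left_mem_four right_mem_four
    · exact four_le d.rmem d.smem
  rw [hD]
  exact ⟨card_four hne, four_sq⟩

variable [Finite G] {X : Set G} {K F : G → Subgroup G} {n : ℕ}

theorem norm_eq {T : Subgroup G} {g : G} (hg : ∀ t ∈ T, g * t * g⁻¹ ∈ T) :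
    T.map (MulAut.conj g).toMonoidHom = T := by
  have h1 : T.map (MulAut.conj g).toMonoidHom ≤ T := by
    rintro _ ⟨t, ht, rfl⟩
    exact hg t ht
  exact eq_of_le_of_card_ge h1 (card_conj g T).ge

theorem norm_inv {T : Subgroup G} {g : G} (hg : ∀ t ∈ T, g * t * g⁻¹ ∈ T) : ∀ t ∈ T, g⁻¹ * t * g ∈ T := by
  intro t ht
  have h2 := norm_eq hg
  rw [← mem_map_conj, h2]
  exact ht

/-- Case II, start -/
theorem start (h : Sys X K F n) {y : G} {T : Subgroup G} (hy : y ∈ X) (hT : SylC y T)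
    (hx : ∃ x ∈ K y, Inv x ∧ ∃ g : G, g * y * g⁻¹ = x) :
    ∃ z ∈ T ⊓ K y, Inv z ∧ (∀ t ∈ T, t * z = z * t) ∧ ∃ g : G, g * y * g⁻¹ = z ∧ ∀ t ∈ T, g * t * g⁻¹ ∈ T := by
  have : Fact (Nat.Prime 2) := ⟨Nat.prime_two⟩
  obtain ⟨x, hxK, ix, g₀, hg₀⟩ := hx
  have hn : ((T ⊓ K y).subgroupOf T).Normal := by
    refine ⟨fun a ha t => ?_⟩
    exact h.normK hy hT t t.2 a ha
  obtain ⟨a, ha, -, -, ia, -⟩ := h.exists_four_K hy hT
  have hne : (T ⊓ K y).subgroupOf T ≠ ⊥ := by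
    intro e
    have h1 : (⟨a, (mem_inf.1 ha).1⟩ : T) ∈ (T ⊓ K y).subgroupOf T := mem_subgroupOf.2 ha
    rw [e, mem_bot] at h1
    exact ia.ne (congrArg Subtype.val h1)
  obtain ⟨z, hzD, hzc, hz2⟩ := Cfsg.Agent.Transfer.PGroupNormal.exists_mem_inf_center_orderOf hT.two _ hne
  have hzD' : (z : G) ∈ T ⊓ K y := mem_subgroupOf.1 hzD
  have iz : Inv (z : G) := by
    have h1 := pow_orderOf_eq_one z
    rw [hz2, pow_two] at h1
    refine ⟨congrArg Subtype.val h1, fun e => ?_⟩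
    have h3 : z = 1 := Subtype.ext e
    rw [h3, orderOf_one] at hz2
    norm_num at hz2
  have hzcT : ∀ t ∈ T, t * (z : G) = z * t := by
    intro t ht
    have := mem_center_iff.1 hzc ⟨t, ht⟩
    exact congrArg Subtype.val this
  obtain ⟨k, hk, hkz⟩ := h.one y hy x hxK z (mem_inf.1 hzD').2 ix iz
  have hz' : (k * g₀) * y * (k * g₀)⁻¹ = z := by
    rw [← hkz, ← hg₀]; group
  have h1 := hT.of_conj hz' hzcT
  have h2 := hT.conj (k * g₀)
  rw [hz'] at h2
  obtain ⟨c, hc, hcT⟩ := h2.exists_conj h1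
  refine ⟨z, hzD', iz, hzcT, c * (k * g₀), ?_, ?_⟩
  · calc c * (k * g₀) * y * (c * (k * g₀))⁻¹ = c * ((k * g₀) * y * (k * g₀)⁻¹) * c⁻¹ := by group
      _ = z := by rw [hz']; exact Sys.conj_self hc
  · intro t ht
    rw [← hcT, mem_map_conj, mem_map_conj]
    have : (k * g₀)⁻¹ * (c⁻¹ * (c * (k * g₀) * t * (c * (k * g₀))⁻¹) * c) * (k * g₀) = t := by group
    rw [this]; exact ht

omit [Finite G] in
/-- involutions of `K z` are conjugate to `y` -/
theorem invK_X (h : Sys X K F n) {y z g x : G} (hy : y ∈ X) (hzX : z ∈ X) (hg : g * y * g⁻¹ = z) (hzK : z ∈ K y)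
    (iz : Inv z) (hx : x ∈ K z) (ix : Inv x) : x ∈ X := by
  have h1 : g * z * g⁻¹ ∈ K z := by
    have := h.conjK y hy g z hzK
    rwa [hg] at this
  obtain ⟨k, -, rfl⟩ := h.one z hzX _ h1 x hx (iz.conj g) ix
  exact h.conj _ (h.conj z hzX g) k

/-- **Case II, `n = 2`** -/
theorem caseII_two (h : Sys X K F 2) (hr : RankFour G) (h1 : AllTOne X K F) {y : G} (hy : y ∈ X)
    (hx : ∃ x ∈ K y, Inv x ∧ ∃ g : G, g * y * g⁻¹ = x) : False := by
  obtain ⟨T, hT, -⟩ := exists_sylC (y := y) (P := ⊥) IsPGroup.of_bot (by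
    intro x hx; rw [mem_bot.1 hx, one_mul, mul_one])
  obtain ⟨z, hzD, iz, hzc, g, hg, hgT⟩ := start h hy hT hx
  have hzX : z ∈ X := hg ▸ h.conj y hy g
  have sylZ : SylC z T := hT.of_conj hg hzc
  obtain ⟨hzT, hzK⟩ := mem_inf.1 hzD
  have hyT := h.mem_T hy hT
  have hzF : z ∉ F y := fun h2 => h.disj_inv hy hzK h2 iz
  obtain ⟨V, hV, hV4, hV2, hyV, -⟩ := exists_VF h hy hT (mem_inf.2 ⟨hyT, h.self y hy⟩)
  obtain ⟨r, s, d⟩ := h.dih y hy T hT
  obtain ⟨cU, eU⟩ := d.card_two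
  obtain ⟨rz, sz, dz⟩ := h.dih z hzX T sylZ
  obtain ⟨cZ, eZ⟩ := dz.card_two
  have p : Pair X K F V (T ⊓ K y) y := ⟨hy, hyV, fun v hv => (mem_inf.1 (hV hv)).2, inf_le_right,
      hV4, cU, hV2, eU, fun v hv u hu => h.comm_FK hy hT (hV hv) hu⟩
  have hE : V ⊔ (T ⊓ K y) ≤ T := sup_le (hV.trans inf_le_left) inf_le_left
  have key : (∀ u ∈ T ⊓ K y, u ∈ F z) ∧ ∀ x ∈ T ⊓ K z, x ∈ F y := by
    rcases lemmaR_full h hr h1 p hzX (mem_sup_right hzD) sylZ hE with h2 | ⟨-, h2 | h2 | h2⟩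
    · exact absurd (p.VF h2) hzF
    · refine ⟨h2.1, ?_⟩
      have h3 : V = T ⊓ K z := eq_of_le_of_card_ge (le_inf (hV.trans inf_le_left) h2.2) (by rw [cZ, hV4])
      intro x hx
      rw [← h3] at hx
      exact p.VF hx
    · obtain ⟨hUF, v₁, hv₁, iv₁, hv₁K, w, hw, hwU, hwv₁, hwV⟩ := h2
      refine ⟨hUF, ?_⟩
      have hww : w * w = 1 := eZ w hw
      obtain ⟨v, hv, hv1, hvv₁⟩ := exists_ne_of_card_four hV4 v₁
      have hwv := hwV v hv hv1 hvv₁
      have hne : ∀ x, x * v = v * x → w ≠ x := by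
        intro x hxv e
        rw [e, hxv, mul_inv_cancel_right] at hwv
        exact iv₁.ne (mul_eq_left.1 hwv.symm)
      have hw1 : w ≠ 1 := hne 1 (by rw [one_mul, mul_one])
      have hwv1 : w ≠ v₁ := hne v₁ (comm_of_sq hV2 hv₁ hv)
      have iw : Inv w := ⟨hww, hw1⟩
      have hwT := (mem_inf.1 hw).1
      have hwF : w ∉ F z := fun h3 => h.disj_inv hzX (mem_inf.1 hw).2 h3 iw
      have hin : Inner K F y w := by
        by_contra hcon
        rcases h.outer_type y hy T hT w hwT iw hcon with ⟨-, h3⟩ | ⟨r', s', hd⟩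
        · omega
        · obtain ⟨z₀, -, -, hC, -⟩ := hd.exists le_rfl iw
          obtain ⟨u, hu, hu1, huz⟩ := exists_ne_of_card_four cU z₀
          rcases hC u hu (hwU u hu).symm with h3 | h3
          · exact hu1 h3
          · exact huz h3
      obtain ⟨a, ha, u, hu, hau⟩ := h.split y hy T hT w hwT hin
      obtain ⟨ha2, -⟩ := h.dec_sq hy hT ha hu (by rw [← hau]; exact hww)
      have hv₁T : v₁ ∈ T := (mem_inf.1 (hV hv₁)).1
      obtain ⟨hv₁a, -⟩ := h.dec_comm hy hT hv₁T ha hu (by rw [← hau]; exact hwv₁.symm)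
      have ha1 : a ≠ 1 := by
        intro e
        rw [e, one_mul] at hau
        exact hwF (hau ▸ hUF hu)
      have hav₁ : v₁ ≠ a := by
        intro e
        have h3 : u ∈ K z := by
          have : u = v₁⁻¹ * w := by rw [hau, ← e]; group
          rw [this]
          exact mul_mem (inv_mem hv₁K) (mem_inf.1 hw).2
        have h4 : u = 1 := h.disjQD hT.two hzX (mem_inf.1 hu).1 h3 (hUF hu)
        rw [h4, mul_one, ← e] at hau
        exact hwv1 hau
      have ia : Inv a := ⟨ha2, ha1⟩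
      have hyF : y ∈ T ⊓ F y := mem_inf.2 ⟨hyT, h.self y hy⟩
      have hy4 : y ∈ four v₁ a iv₁ ia hv₁a := h.rank_F hr hy hT (hV hv₁) ha hyF iv₁ ia hv₁a hav₁ (h.inv y hy).sq
        (h.centF y hy v₁ (p.VF hv₁)).symm (h.centF y hy a (mem_inf.1 ha).2).symm
      have hle : four v₁ a iv₁ ia hv₁a ≤ T ⊓ F y := four_le (hV hv₁) ha
      have p' : Pair X K F (four v₁ a iv₁ ia hv₁a) (T ⊓ K y) y := ⟨hy, hy4, fun v hv => (mem_inf.1 (hle hv)).2,
        inf_le_right, card_four hav₁, cU, four_sq, eU, fun v hv u hu => h.comm_FK hy hT (hle hv) hu⟩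
      have hwX : w ∈ X := invK_X h hy hzX hg hzK iz (mem_inf.1 hw).2 iw
      have hwy : w ∈ F y := by
        rcases lemmaR h hr h1 p' hwX (by rw [hau]; exact mul_mem (mem_sup_left right_mem_four) (mem_sup_right hu)) with h3 | h3
        · exact p'.VF h3
        · exact absurd (hUF h3) hwF
      have h5 := eq_four cZ iv₁ iw hwv₁.symm (mem_inf.2 ⟨hv₁T, hv₁K⟩) hw (Ne.symm hwv1)
      intro x hx
      rw [← h5] at hx
      exact four_le (p.VF hv₁) hwy hx
    · exact absurd h2.1 (by norm_num)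
  obtain ⟨hUF, hZF⟩ := key
  -- `y ∈ T ∩ K z`
  have hyZ : y ∈ T ⊓ K z := by
    obtain ⟨a, ha, b, hb, ia, ib, hab, hab'⟩ := h.exists_four_K hzX sylZ
    have h5 := eq_four cZ ia ib hab' ha hb hab
    have hle : T ⊓ K z ≤ T ⊓ F y := fun x hx => mem_inf.2 ⟨(mem_inf.1 hx).1, hZF x hx⟩
    have h6 := h.rank_F hr hy hT (hle ha) (hle hb) (mem_inf.2 ⟨hyT, h.self y hy⟩) ia ib hab' hab (h.inv y hy).sq
      (h.centF y hy a (hZF a ha)).symm (h.centF y hy b (hZF b hb)).symm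
    rwa [h5] at h6
  have p' : Pair X K F (T ⊓ K z) (T ⊓ K y) y := ⟨hy, hyZ, hZF, inf_le_right, cZ, cU, eZ, eU,
    fun v hv u hu => h.comm_FK hy hT (mem_inf.2 ⟨(mem_inf.1 hv).1, hZF v hv⟩) hu⟩
  have hgU : ∀ u ∈ T ⊓ K y, g * u * g⁻¹ ∈ T ⊓ K z := by
    intro u hu
    refine mem_inf.2 ⟨hgT u (mem_inf.1 hu).1, ?_⟩
    have := h.conjK y hy g u (mem_inf.1 hu).2
    rwa [hg] at this
  set z' := g * z * g⁻¹ with hz'
  have hz'V : z' ∈ T ⊓ K z := hgU z hzD
  have iz' : Inv z' := iz.conj g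
  have hz'X : z' ∈ X := h.conj z hzX g
  have sylZ' : SylC z' T := by
    have := sylZ.conj g
    rwa [norm_eq hgT] at this
  obtain ⟨r', s', d'⟩ := h.dih z' hz'X T sylZ'
  obtain ⟨cZ', -⟩ := d'.card_two
  have hUZ' : T ⊓ K y = T ⊓ K z' := by
    apply eq_of_le_of_card_ge
    · intro u hu
      exact mem_inf.2 ⟨(mem_inf.1 hu).1, p'.uK h hz'V iz'.ne hu⟩
    · rw [cZ', cU]
  have hgV : ∀ v ∈ T ⊓ K z, g * v * g⁻¹ ∈ T ⊓ K y := by
    intro v hv
    rw [hUZ']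
    exact mem_inf.2 ⟨hgT v (mem_inf.1 hv).1, h.conjK z hzX g v (mem_inf.1 hv).2⟩
  obtain ⟨h2, -⟩ := h1 _ _ y p' g (by
    intro x hx
    obtain ⟨v, hv, u, hu, rfl⟩ := p'.mem.1 hx
    have : g * (v * u) * g⁻¹ = (g * v * g⁻¹) * (g * u * g⁻¹) := by group
    rw [this]
    exact mul_mem (mem_sup_right (hgV v hv)) (mem_sup_left (hgU u hu)))
  have h3 := p'.disj h _ (h2 y hyZ) (hgV y hyZ)
  exact ((h.inv y hy).conj g).ne h3

end Cfsg.Agent.GH.TOne
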