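import Cfsg.Agent.GH.TOne.Basic

/-!
# Dihedral computations for GH-L2, `m_2(Q) = 2`

`Dih n D r s`, `DType n D e r s` as in `Sys.lean`; `cen r n` is the central involution.
-/

set_option autoImplicit false

namespace Cfsg.Agent.GH.TOne

open Subgroup

variable {G : Type*} [Group G] {n : ℕ} {D : Subgroup G} {e r s : G}

/-- the central involution `r ^ (2 ^ (n - 2))` -/
def cen (r : G) (n : ℕ) : G := r ^ 2 ^ (n - 2)

namespace Dih

variable (h : Dih n D r s)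
include h

theorem s_inv : s⁻¹ = s := inv_eq_of_mul_eq_one_left h.sq

theorem zpow_mem (i : ℤ) : r ^ i ∈ D := D.zpow_mem h.rmem i

theorem exh' {x : G} (hx : x ∈ D) : ∃ i : ℤ, x = r ^ i ∨ x = r ^ i * s := by
  obtain ⟨i, hi | hi⟩ := h.exh x hx
  · exact ⟨i, Or.inl (by rw [hi, zpow_natCast])⟩
  · exact ⟨i, Or.inr (by rw [hi, zpow_natCast])⟩

theorem s_zpow (i : ℤ) : s * r ^ i = r ^ (-i) * s := by
  have h1 : s * r * s⁻¹ = r⁻¹ := by rw [h.s_inv]; exact h.rel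
  have h2 : s * r ^ i * s⁻¹ = r ^ (-i) := by
    rw [← conj_zpow, h1, inv_zpow, zpow_neg]
  rw [← h2]; group

theorem refl_sq (i : ℤ) : r ^ i * s * (r ^ i * s) = 1 := by
  rw [show r ^ i * s * (r ^ i * s) = r ^ i * (s * r ^ i) * s by group, h.s_zpow,
    show r ^ i * (r ^ (-i) * s) * s = r ^ i * r ^ (-i) * (s * s) by group, h.sq, ← zpow_add]
  simp

theorem zpow_eq_one {i : ℤ} : r ^ i = 1 ↔ (2 : ℤ) ^ (n - 1) ∣ i := by
  rw [← orderOf_dvd_iff_zpow_eq_one, h.ord]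
  push_cast
  rfl

theorem zpow_eq {i j : ℤ} : r ^ i = r ^ j ↔ (2 : ℤ) ^ (n - 1) ∣ i - j := by
  rw [← h.zpow_eq_one, zpow_sub, mul_inv_eq_one]

theorem ne_refl (i j : ℤ) : r ^ i ≠ r ^ j * s := by
  intro h1
  apply h.notMem
  have : s = r ^ (-j + i) := by rw [zpow_add, h1]; group
  rw [this]
  exact Subgroup.zpow_mem _ (mem_zpowers r) _

omit h in
theorem cen_eq (r : G) (n : ℕ) : cen r n = r ^ ((2 : ℤ) ^ (n - 2)) := by
  rw [cen, ← zpow_natCast]; push_cast; rfl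

theorem cen_mem : cen r n ∈ D := by rw [cen_eq]; exact h.zpow_mem _

theorem cen_inv (hn : 2 ≤ n) : Inv (cen r n) := by
  have e2 : (2 : ℤ) ^ (n - 1) = 2 * 2 ^ (n - 2) := by
    rw [show n - 1 = (n - 2) + 1 by omega, pow_succ]; ring
  refine ⟨?_, ?_⟩
  · rw [cen_eq, ← zpow_add, h.zpow_eq_one, e2]
    exact ⟨1, by ring⟩
  · rw [cen_eq, ne_eq, h.zpow_eq_one, e2]
    rintro ⟨k, hk⟩
    have h0 : (0 : ℤ) < 2 ^ (n - 2) := by positivity
    have h1 : (1 : ℤ) = 2 * k := by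
      have : (2 : ℤ) ^ (n - 2) * 1 = 2 ^ (n - 2) * (2 * k) := by rw [mul_one]; linarith
      exact mul_left_cancel₀ h0.ne' this
    omega

theorem cen_comm_zpow (i : ℤ) : r ^ i * cen r n = cen r n * r ^ i := by
  rw [cen_eq, ← zpow_add, ← zpow_add, add_comm]

theorem cen_comm (hn : 2 ≤ n) {x : G} (hx : x ∈ D) : x * cen r n = cen r n * x := by
  have hs : s * cen r n = cen r n * s := by
    have h1 : s * cen r n = (cen r n)⁻¹ * s := by rw [cen_eq, h.s_zpow, zpow_neg]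
    rw [h1, (h.cen_inv hn).inv_eq]
  obtain ⟨i, rfl | rfl⟩ := h.exh' hx
  · exact h.cen_comm_zpow i
  · rw [mul_assoc, hs, ← mul_assoc, h.cen_comm_zpow, mul_assoc]

/-- a rotation whose square is trivial -/
theorem rot_sq (hn : 2 ≤ n) {i : ℤ} (hi : r ^ i * r ^ i = 1) : r ^ i = 1 ∨ r ^ i = cen r n := by
  have e2 : (2 : ℤ) ^ (n - 1) = 2 * 2 ^ (n - 2) := by
    rw [show n - 1 = (n - 2) + 1 by omega, pow_succ]; ring
  rw [← zpow_add, h.zpow_eq_one, e2] at hi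
  obtain ⟨k, hk⟩ := hi
  have h1 : i = 2 ^ (n - 2) * k := by
    have : 2 * i = 2 * (2 ^ (n - 2) * k) := by linarith
    linarith
  rcases Int.even_or_odd' k with ⟨m, hm | hm⟩
  · left
    rw [h.zpow_eq_one, e2, h1, hm]
    exact ⟨m, by ring⟩
  · right
    rw [cen_eq, h.zpow_eq, e2, h1, hm]
    exact ⟨m, by ring⟩

/-- for `n ≥ 3` the only central involution is `cen r n` -/
theorem eq_cen (hn : 3 ≤ n) {x : G} (hx : x ∈ D) (hi : Inv x) (hc : ∀ d ∈ D, x * d = d * x) :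
    x = cen r n := by
  obtain ⟨i, rfl | rfl⟩ := h.exh' hx
  · rcases h.rot_sq (by omega) hi.sq with h1 | h1
    · exact absurd h1 hi.ne
    · exact h1
  · exfalso
    have h1 := hc r h.rmem
    have h2 : r ^ i * s * r = r ^ (i - 1) * s := by
      have := h.s_zpow 1
      rw [zpow_one] at this
      rw [mul_assoc, this, ← mul_assoc, ← zpow_add]; rfl
    have h3 : r * (r ^ i * s) = r ^ (i + 1) * s := by
      rw [← mul_assoc, add_comm, zpow_add, zpow_one]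
    rw [h2, h3, mul_left_inj, h.zpow_eq] at h1
    obtain ⟨k, hk⟩ := h1
    have e2 : (2 : ℤ) ^ (n - 1) = 4 * 2 ^ (n - 3) := by
      rw [show n - 1 = (n - 3) + 2 by omega, pow_add]; ring
    rw [e2] at hk
    have : (-2 : ℤ) = 4 * (2 ^ (n - 3) * k) := by linarith
    omega

end Dih

namespace DType

variable (h : DType n D e r s)
include h

theorem e_zpow (he : Inv e) (i : ℤ) : e * r ^ i * e = r ^ (-i) := by
  have h1 : e * r * e⁻¹ = r⁻¹ := by rw [he.inv_eq]; exact h.er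
  have h2 : e * r ^ i * e⁻¹ = r ^ (-i) := by rw [← conj_zpow, h1, inv_zpow, zpow_neg]
  rwa [he.inv_eq] at h2

theorem e_refl (he : Inv e) (i : ℤ) : e * (r ^ i * s) * e = r ^ (-i - 1) * s := by
  have h1 : e * (r ^ i * s) * e = (e * r ^ i * e) * (e * s * e) := by
    rw [show (e * r ^ i * e) * (e * s * e) = e * r ^ i * (e * e) * s * e by group, he.sq]; group
  have h2 := h.dih.s_zpow 1
  rw [zpow_one] at h2
  rw [h1, h.e_zpow he, h.es, h2, ← mul_assoc, ← zpow_add]; rfl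

/-- `C_D(e) = ⟨z⟩` -/
theorem comm (he : Inv e) (hn : 2 ≤ n) {x : G} (hx : x ∈ D) (hc : e * x = x * e) : x = 1 ∨ x = cen r n := by
  have h0 : e * x * e = x := by rw [hc, mul_assoc, he.sq, mul_one]
  obtain ⟨i, rfl | rfl⟩ := h.dih.exh' hx
  · rw [h.e_zpow he] at h0
    refine h.dih.rot_sq hn ?_
    nth_rw 1 [← h0]
    rw [← zpow_add]; simp
  · exfalso
    rw [h.e_refl he, mul_left_inj, h.dih.zpow_eq] at h0
    obtain ⟨k, hk⟩ := h0
    rw [show n - 1 = (n - 2) + 1 by omega, pow_succ] at hk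
    have : -i - 1 - i = 2 * (2 ^ (n - 2) * k) := by linarith
    omega

/-- if `e x` is an involution, `x ∈ D`, then `x` is a rotation -/
theorem rot_of_inv (he : Inv e) (hn : 2 ≤ n) {x : G} (hx : x ∈ D) (hc : e * x * (e * x) = 1) :
    ∃ i : ℤ, x = r ^ i := by
  have h0 : e * x * e = x⁻¹ := by
    have : e * x * e * x = 1 := by rw [← hc]; group
    exact eq_inv_of_mul_eq_one_left this
  obtain ⟨i, rfl | rfl⟩ := h.dih.exh' hx
  · exact ⟨i, rfl⟩
  · exfalso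
    have h1 : (r ^ i * s)⁻¹ = r ^ i * s := inv_eq_of_mul_eq_one_left (h.dih.refl_sq i)
    rw [h.e_refl he, h1, mul_left_inj, h.dih.zpow_eq] at h0
    obtain ⟨k, hk⟩ := h0
    rw [show n - 1 = (n - 2) + 1 by omega, pow_succ] at hk
    have : -i - 1 - i = 2 * (2 ^ (n - 2) * k) := by linarith
    omega

theorem conj_rot (he : Inv e) (j : ℤ) : r ^ j * e * (r ^ j)⁻¹ = e * r ^ (-(2 * j)) := by
  have h1 : r ^ j * e * (r ^ j)⁻¹ = (e * e) * r ^ j * e * (r ^ j)⁻¹ := by rw [he.sq, one_mul]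
  rw [h1, show e * e * r ^ j * e * (r ^ j)⁻¹ = e * (e * r ^ j * e) * (r ^ j)⁻¹ by group, h.e_zpow he,
    mul_assoc, ← zpow_neg, ← zpow_add]
  congr 2; ring

theorem conj_refl (he : Inv e) (j : ℤ) : r ^ j * s * e * (r ^ j * s)⁻¹ = e * r ^ (-(2 * j) - 1) := by
  have h2 : (r ^ j * s)⁻¹ = r ^ j * s := inv_eq_of_mul_eq_one_left (h.dih.refl_sq j)
  have h1 : r ^ j * s * e * (r ^ j * s)⁻¹ = (e * e) * (r ^ j * s) * e * (r ^ j * s) := by
    rw [he.sq, one_mul, h2]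
  rw [h1, show e * e * (r ^ j * s) * e * (r ^ j * s) = e * (e * (r ^ j * s) * e) * (r ^ j * s) by group,
    h.e_refl he, mul_assoc]
  congr 1
  rw [show r ^ (-j - 1) * s * (r ^ j * s) = r ^ (-j - 1) * (s * r ^ j) * s by group, h.dih.s_zpow,
    show r ^ (-j - 1) * (r ^ (-j) * s) * s = r ^ (-j - 1) * r ^ (-j) * (s * s) by group, h.dih.sq,
    ← zpow_add, mul_one]
  congr 1; ring

/-- all involutions of `e D` are conjugate to `e` under `D` -/
theorem exists_conj (he : Inv e) (hn : 2 ≤ n) {x : G} (hx : x ∈ D) (hc : e * x * (e * x) = 1) :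
    ∃ d ∈ D, d * e * d⁻¹ = e * x := by
  obtain ⟨i, rfl⟩ := h.rot_of_inv he hn hx hc
  rcases Int.even_or_odd' i with ⟨m, hm | hm⟩
  · refine ⟨r ^ (-m), h.dih.zpow_mem _, ?_⟩
    rw [h.conj_rot he, hm]; congr 2; ring
  · refine ⟨r ^ (-m - 1) * s, D.mul_mem (h.dih.zpow_mem _) h.dih.smem, ?_⟩
    rw [h.conj_refl he, hm]; congr 2; ring

/-- `[x, e] = z` forces `x² = z` and `x^e = x⁻¹` (`n ≥ 3`) -/
theorem of_comm_cen (he : Inv e) (hn : 3 ≤ n) {x : G} (hx : x ∈ D) (hc : x * e * x⁻¹ = e * cen r n) :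
    x * x = cen r n ∧ e * x * e = x⁻¹ := by
  obtain ⟨j, rfl | rfl⟩ := h.dih.exh' hx
  · rw [h.conj_rot he, mul_right_inj] at hc
    refine ⟨?_, by rw [h.e_zpow he, zpow_neg]⟩
    rw [← (h.dih.cen_inv (by omega)).inv_eq, ← hc, ← zpow_neg, ← zpow_add]
    congr 1; ring
  · exfalso
    rw [h.conj_refl he, mul_right_inj, Dih.cen_eq, h.dih.zpow_eq] at hc
    obtain ⟨k, hk⟩ := hc
    rw [show n - 1 = (n - 3) + 2 by omega, show n - 2 = (n - 3) + 1 by omega, pow_succ, pow_succ, pow_succ] at hk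
    have : -(2 * j) - 1 = 2 * (2 ^ (n - 3) + 2 * 2 ^ (n - 3) * k) := by linarith
    omega

end DType

end Cfsg.Agent.GH.TOne
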