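import Cfsg.Agent.GH.TOne.Struct
import Cfsg.Agent.GH.TOne.DihLem
import Cfsg.Agent.Lib.SylowNormalInf

/-!
# Tools for the configuration `Cfg` (GH-L2, `m_2(Q) = 2`, Case II, `n ≥ 3`)
-/

set_option autoImplicit false

namespace Cfsg.Agent.GH.TOne

open Subgroup

variable {G : Type*} [Group G]

/-! ### splitting of inner elements of a Sylow 2-subgroup -/

/-- `S ∩ AB = (S ∩ A)(S ∩ B)` for a Sylow 2-subgroup `S` and normal subgroups `A`, `B` -/
theorem sylow_split {H : Type*} [Group H] [Finite H] (S : Sylow 2 H) (A B : Subgroup H) [A.Normal] [B.Normal]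
    {x : H} (hx : x ∈ S) {a b : H} (ha : a ∈ A) (hb : b ∈ B) (hab : x = a * b) :
    ∃ a' ∈ A, ∃ b' ∈ B, a' ∈ S ∧ b' ∈ S ∧ x = a' * b' := by
  have : Fact (Nat.Prime 2) := ⟨Nat.prime_two⟩
  set R : Subgroup H := ((S : Subgroup H) ⊓ A) ⊔ ((S : Subgroup H) ⊓ B) with hRdef
  set P : Subgroup H := (S : Subgroup H) ⊓ (A ⊔ B) with hPdef
  have hRP : R ≤ P := by
    rw [hRdef, sup_le_iff]
    exact ⟨inf_le_inf_left _ le_sup_left, inf_le_inf_left _ le_sup_right⟩
  set M : Subgroup H := A ⊔ ((S : Subgroup H) ⊓ B) with hMdef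
  have hRM : R ≤ M := sup_le (inf_le_right.trans le_sup_left) le_sup_right
  have hMN : M ≤ A ⊔ B := sup_le le_sup_left (inf_le_right.trans le_sup_right)
  have h1 : ¬ 2 ∣ M.relIndex (A ⊔ B) := by
    have e : A ⊔ B = M ⊔ B := by
      rw [hMdef]
      apply le_antisymm
      · exact sup_le (le_sup_left.trans le_sup_left) le_sup_right
      · exact sup_le hMN le_sup_right
    rw [e, Lib.SylowNormalInf.relIndex_sup_of_normal]
    intro hd
    apply Lib.SylowNormalInf.not_dvd_relIndex S B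
    refine hd.trans ?_
    rw [← Subgroup.inf_relIndex_right (S : Subgroup H) B]
    exact Subgroup.relIndex_dvd_of_le_left B le_sup_right
  have h2 : ¬ 2 ∣ R.relIndex M := by
    have e : M = R ⊔ A := by
      apply le_antisymm
      · exact sup_le le_sup_right (le_sup_right.trans le_sup_left)
      · exact sup_le hRM le_sup_left
    rw [e, Lib.SylowNormalInf.relIndex_sup_of_normal]
    intro hd
    apply Lib.SylowNormalInf.not_dvd_relIndex S A
    refine hd.trans ?_
    rw [← Subgroup.inf_relIndex_right (S : Subgroup H) A]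
    exact Subgroup.relIndex_dvd_of_le_left A le_sup_left
  have h3 : ¬ 2 ∣ R.relIndex (A ⊔ B) := by
    rw [← Subgroup.relIndex_mul_relIndex R M (A ⊔ B) hRM hMN, Nat.prime_two.dvd_mul]
    rintro (h | h)
    · exact h2 h
    · exact h1 h
  have h4 : ¬ 2 ∣ R.relIndex P := by
    intro hd
    apply h3
    rw [← Subgroup.relIndex_mul_relIndex R P (A ⊔ B) hRP inf_le_right]
    exact dvd_mul_of_dvd_left hd _
  have hP2 : IsPGroup 2 P := S.isPGroup'.to_le inf_le_left
  obtain ⟨k, hk⟩ := IsPGroup.iff_card.mp hP2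
  have h5 : R.relIndex P ∣ 2 ^ k := by
    rw [← hk, ← Lib.SylowNormalInf.card_mul_relIndex R P hRP]
    exact dvd_mul_left _ _
  have h6 : R.relIndex P = 1 := by
    have hco : Nat.Coprime (R.relIndex P) (2 ^ k) :=
      Nat.Coprime.pow_right k ((Nat.Prime.coprime_iff_not_dvd Nat.prime_two).2 h4).symm
    exact Nat.eq_one_of_dvd_coprimes hco dvd_rfl h5
  rw [Subgroup.relIndex_eq_one] at h6
  have hxR : x ∈ R := h6 ⟨hx, by rw [hab]; exact mul_mem (mem_sup_left ha) (mem_sup_right hb)⟩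
  have hle : R ≤ ({ carrier := {x | ∃ a' ∈ A, ∃ b' ∈ B, a' ∈ S ∧ b' ∈ S ∧ x = a' * b'}
                    one_mem' := ⟨1, one_mem _, 1, one_mem _, one_mem _, one_mem _, by rw [mul_one]⟩
                    mul_mem' := by
                      rintro _ _ ⟨a, ha, b, hb, haS, hbS, rfl⟩ ⟨a', ha', b', hb', haS', hbS', rfl⟩
                      refine ⟨a * (b * a' * b⁻¹), mul_mem ha (Normal.conj_mem inferInstance _ ha' b), b * b',
                        mul_mem hb hb', mul_mem haS (mul_mem (mul_mem hbS haS') (inv_mem hbS)), mul_mem hbS hbS',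
                        by group⟩
                    inv_mem' := by
                      rintro _ ⟨a, ha, b, hb, haS, hbS, rfl⟩
                      refine ⟨b⁻¹ * a⁻¹ * b, ?_, b⁻¹, inv_mem hb,
                        mul_mem (mul_mem (inv_mem hbS) (inv_mem haS)) hbS, inv_mem hbS, by group⟩
                      have := Normal.conj_mem (inferInstance : A.Normal) _ (inv_mem ha) b⁻¹
                      rwa [inv_inv] at this } : Subgroup H) := by
    rw [hRdef, sup_le_iff]
    constructor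
    · rintro a ⟨haS, haA⟩
      exact ⟨a, haA, 1, one_mem _, haS, one_mem _, by rw [mul_one]⟩
    · rintro b ⟨hbS, hbB⟩
      exact ⟨1, one_mem _, b, hbB, one_mem _, hbS, by rw [one_mul]⟩
  exact hle hxR

variable [Finite G]

/-- a Sylow 2-subgroup of `C(y)` as a `Sylow` -/
theorem SylC.exists_sylow {y : G} {T : Subgroup G} (h : SylC y T) :
    ∃ S : Sylow 2 (centralizer ({y} : Set G)), ∀ x : centralizer ({y} : Set G), x ∈ S ↔ (x : G) ∈ T := by
  have hle : T ≤ centralizer ({y} : Set G) := fun x hx => mem_centralizer_singleton_iff.2 (h.cent x hx)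
  have hP' : IsPGroup 2 (T.subgroupOf (centralizer ({y} : Set G))) := h.two.comap_of_injective _ (subtype_injective _)
  obtain ⟨S, hS⟩ := hP'.exists_le_sylow
  refine ⟨S, fun x => ⟨fun hx => ?_, fun hx => hS (mem_subgroupOf.2 hx)⟩⟩
  have e : (S : Subgroup (centralizer ({y} : Set G))).map (centralizer ({y} : Set G)).subtype = T := by
    apply h.eq_of_le (S.2.map _)
    · rintro _ ⟨x, -, rfl⟩
      exact mem_centralizer_singleton_iff.1 x.2
    · intro x hx
      exact ⟨⟨x, hle hx⟩, hS (mem_subgroupOf.2 hx), rfl⟩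
  rw [← e]
  exact ⟨x, hx, rfl⟩

namespace Sys

variable {X : Set G} {K F : G → Subgroup G} {n : ℕ} (h : Sys X K F n)
include h

/-- inner elements of a Sylow 2-subgroup `T` of `C(y)` lie in `(T ∩ F y)(T ∩ K y)` -/
theorem split_syl {y x : G} {T : Subgroup G} (hy : y ∈ X) (hT : SylC y T) (hx : x ∈ T) (hi : Inner K F y x) :
    ∃ a ∈ T ⊓ F y, ∃ b ∈ T ⊓ K y, x = a * b := by
  obtain ⟨S, hS⟩ := hT.exists_sylow
  let C := centralizer ({y} : Set G)
  have hN : ∀ A : Subgroup G, (∀ g : G, g * y = y * g → ∀ a ∈ A, g * a * g⁻¹ ∈ A) → (A.subgroupOf C).Normal := by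
    intro A hA
    refine ⟨fun a ha g => ?_⟩
    rw [mem_subgroupOf] at ha ⊢
    exact hA g (mem_centralizer_singleton_iff.1 g.2) _ ha
  have hNF := hN (F y) (fun g hg a ha => h.conjF_self hy hg ha)
  have hNK := hN (K y) (fun g hg a ha => h.conjK_self hy hg ha)
  obtain ⟨f, hf, k, hk, rfl⟩ := hi
  have hfC : f ∈ C := mem_centralizer_singleton_iff.2 (h.centF y hy f hf)
  have hkC : k ∈ C := mem_centralizer_singleton_iff.2 (h.centK y hy k hk)
  obtain ⟨a, ha, b, hb, haS, hbS, hab⟩ := sylow_split S ((F y).subgroupOf C) ((K y).subgroupOf C)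
    (x := ⟨f * k, mul_mem hfC hkC⟩) ((hS _).2 hx) (a := ⟨f, hfC⟩) (b := ⟨k, hkC⟩) (mem_subgroupOf.2 hf)
    (mem_subgroupOf.2 hk) rfl
  exact ⟨a, ⟨(hS a).1 haS, mem_subgroupOf.1 ha⟩, b, ⟨(hS b).1 hbS, mem_subgroupOf.1 hb⟩, congrArg Subtype.val hab⟩

end Sys

/-- in `Dih n D r s` every involution lies in a four-group of `D` -/
theorem Dih.exists_comm_inv {n : ℕ} {D : Subgroup G} {r s : G} (h : Dih n D r s) (hn : 2 ≤ n) {k : G} (hk : k ∈ D)
    (hki : Inv k) : ∃ k' ∈ D, Inv k' ∧ k ≠ k' ∧ k * k' = k' * k := by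
  by_cases hkc : k = cen r n
  · refine ⟨s, h.smem, ⟨h.sq, ?_⟩, ?_, ?_⟩
    · rintro rfl
      exact h.notMem (one_mem _)
    · rw [hkc]
      intro e
      apply h.notMem
      rw [← e, cen_eq]
      exact Subgroup.zpow_mem _ (mem_zpowers r) _
    · rw [hkc]
      exact (h.cen_comm hn h.smem).symm
  · exact ⟨cen r n, h.cen_mem, h.cen_inv hn, hkc, h.cen_comm hn hk⟩

/-- `X ∩ (F x × K x)` is `(X ∩ F x) ∪ (X ∩ K x)` -/
theorem LemR.orth {X : Set G} {K F : G → Subgroup G} {n : ℕ} (hR : LemR X K F) (h : Sys X K F n) {x f k : G}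
    (hx : x ∈ X) (hf : f ∈ F x) (hk : k ∈ K x) (hff : f * f = 1) (hkk : k * k = 1) (hc : f * k = k * f)
    (hX : f * k ∈ X) : f = 1 ∨ k = 1 := by
  by_contra hcon
  push Not at hcon
  obtain ⟨hf1, hk1⟩ := hcon
  have hfi : Inv f := ⟨hff, hf1⟩
  have hki : Inv k := ⟨hkk, hk1⟩
  have hfx : f * x = x * f := h.centF x hx f hf
  have hkx : k * x = x * k := h.centK x hx k hk
  have hxi := h.inv x hx
  -- a Sylow 2-subgroup containing `f`, `k`
  set W : Subgroup G := zpowers f ⊔ zpowers k with hWdef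
  have hW2 : IsPGroup 2 W := by
    apply (isPGroup_zpowers_of_sq hff).to_sup_of_normal_left' (isPGroup_zpowers_of_sq hkk)
    rw [zpowers_le, mem_normalizer_iff]
    intro t
    have key : ∀ i : ℤ, k * f ^ i * k⁻¹ = f ^ i := by
      intro i
      rw [← conj_zpow, show k * f * k⁻¹ = f by rw [← hc]; group]
    constructor
    · rintro ht
      obtain ⟨i, rfl⟩ := mem_zpowers_iff.1 ht
      rw [key]; exact ⟨i, rfl⟩
    · rintro ht
      obtain ⟨i, hi⟩ := mem_zpowers_iff.1 ht
      refine mem_zpowers_iff.2 ⟨i, ?_⟩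
      have := key i
      have e : k⁻¹ * (k * f ^ i * k⁻¹) * k = k⁻¹ * f ^ i * k := by rw [this]
      rw [hi] at e
      have e2 : k⁻¹ * (k * f ^ i * k⁻¹) * k = f ^ i := by group
      have e3 : k⁻¹ * (k * (k * t * k⁻¹) * k⁻¹) * k = k * t * k⁻¹ := by group
      have e4 : k⁻¹ * (k * t * k⁻¹) * k = t := by group
      rw [e3, e4] at e
      rw [hi, e]
  have hWc : ∀ w ∈ W, w * x = x * w := by
    have hle : W ≤ centralizer ({x} : Set G) := by
      rw [hWdef, sup_le_iff, zpowers_le, zpowers_le]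
      exact ⟨mem_centralizer_singleton_iff.2 hfx, mem_centralizer_singleton_iff.2 hkx⟩
    exact fun w hw => mem_centralizer_singleton_iff.1 (hle hw)
  obtain ⟨T, hT, hWT⟩ := exists_sylC hW2 hWc
  have hfT : f ∈ T := hWT (mem_sup_left (mem_zpowers f))
  have hkT : k ∈ T := hWT (mem_sup_right (mem_zpowers k))
  obtain ⟨r, s, hD⟩ := h.dih x hx T hT
  obtain ⟨k', hk', hk'i, hkk', hckk'⟩ := hD.exists_comm_inv h.two_le ⟨hkT, hk⟩ hki
  -- `v ∈ T ∩ F x`, `v ≠ x` with `f ∈ {x, v}`
  obtain ⟨v, hvT, hvF, hvi, hvx, hfv⟩ : ∃ v ∈ T, v ∈ F x ∧ Inv v ∧ x ≠ v ∧ (f = x ∨ f = v) := by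
    by_cases hfx' : f = x
    · obtain ⟨t, htF, hti, htx⟩ := h.rich x hx
      have htc : t * x = x * t := h.centF x hx t htF
      obtain ⟨T', hT', htT'⟩ := exists_sylC (y := x) (isPGroup_zpowers_of_sq hti.sq) (by
        intro w hw
        obtain ⟨i, rfl⟩ := mem_zpowers_iff.1 hw
        exact ((show Commute t x from htc).zpow_left i).eq)
      obtain ⟨c, hcx, hcT⟩ := hT'.exists_conj hT
      refine ⟨c * t * c⁻¹, ?_, h.conjF_self hx hcx htF, hti.conj c, ?_, Or.inl hfx'⟩
      · rw [← hcT, mem_map_conj]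
        have : c⁻¹ * (c * t * c⁻¹) * c = t := by group
        rw [this]
        exact htT' (mem_zpowers t)
      · intro e
        apply htx
        have : t = c⁻¹ * (c * t * c⁻¹) * c := by group
        rw [this, ← e]
        calc c⁻¹ * x * c = c⁻¹ * (x * c) := by group
          _ = c⁻¹ * (c * x) := by rw [hcx]
          _ = x := by group
    · exact ⟨f, hfT, hf, hfi, fun e => hfx' e.symm, Or.inr rfl⟩
  have hvx' : x * v = v * x := (h.centF x hx v hvF).symm
  have hxv : x ≠ v := hvx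
  have hxF := h.self x hx
  have hP : Pair X K F (four x v hxi hvi hvx') (four k k' hki hk'i hckk') x :=
    { yX := hx
      yV := left_mem_four
      VF := four_le hxF hvF
      UK := four_le hk hk'.2
      cV := card_four hxv
      cU := card_four hkk'
      eV := four_sq
      eU := four_sq
      comm := by
        have hxT : x ∈ T := hT.mem_of_normalizes (isPGroup_zpowers_of_sq hxi.sq) rfl (by
          intro t ht
          have := hT.cent t ht
          rw [← this]; simpa [mul_assoc] using ht)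
        intro a ha b hb
        have haT : a ∈ T := (four_le (ha := hxi) (hb := hvi) (hc := hvx') hxT hvT) ha
        have haF : a ∈ F x := (four_le (ha := hxi) (hb := hvi) (hc := hvx') hxF hvF) ha
        have hbT : b ∈ T := (four_le (ha := hki) (hb := hk'i) (hc := hckk') hkT hk'.1) hb
        have hbK : b ∈ K x := (four_le (ha := hki) (hb := hk'i) (hc := hckk') hk hk'.2) hb
        exact h.commQD hT.two hx haT hbT haF hbK }
  have hfV : f ∈ four x v hxi hvi hvx' := by
    rcases hfv with e | e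
    · rw [e]; exact left_mem_four
    · rw [e]; exact right_mem_four
  rcases hR _ _ _ hP (f * k) hX (mul_mem (mem_sup_left hfV) (mem_sup_right left_mem_four)) with h1 | h1
  · have h2 := mul_mem (inv_mem hf) (hP.VF h1)
    rw [inv_mul_cancel_left] at h2
    exact hk1 (h.disj x hx k hk h2 hkk)
  · have h2 := mul_mem (hP.UK h1) (inv_mem hk)
    rw [mul_inv_cancel_right] at h2
    exact hf1 (h.disj x hx f h2 hf hff)

end Cfsg.Agent.GH.TOne
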