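import Cfsg.Agent.GH.TOne.NineTen
import Cfsg.Agent.GH.TOne.DihLem

/-!
# Case II, `n ≥ 3`, part (8): `S = T⟨g⟩` is a Sylow 2-subgroup of `G` and `X ∩ S ⊆ D_y ∪ D_z`
-/

set_option autoImplicit false

namespace Cfsg.Agent.GH.TOne.EightProof

open Subgroup
open Cfsg.Agent.GH.TOne Cfsg.Agent.GH.TOne.NineTen

variable {G : Type*} [Group G]
variable {X : Set G} {K F : G → Subgroup G} {n : ℕ} {T : Subgroup G} {y z g : G}

/-- every involution of `D` lies in a four-group of `D` containing the central involution -/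
theorem exists_four {D : Subgroup G} {r s c a : G} (hd : Dih n D r s) (hn : 3 ≤ n) (hc : r ^ 2 ^ (n - 2) = c)
    (haD : a ∈ D) (ha : Inv a) :
    ∃ U : Subgroup G, U ≤ D ∧ a ∈ U ∧ c ∈ U ∧ Nat.card U = 4 ∧ ∀ u ∈ U, u * u = 1 := by
  have hc' : cen r n = c := hc
  have hci : Inv c := hc' ▸ hd.cen_inv (by omega)
  have hcD : c ∈ D := hc' ▸ hd.cen_mem
  have hcc : ∀ x ∈ D, x * c = c * x := fun x hx => hc' ▸ hd.cen_comm (by omega) hx
  by_cases h1 : a = c
  · have hs : Inv s := ⟨hd.sq, fun h2 => hd.notMem (h2 ▸ one_mem _)⟩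
    have hsc : s ≠ c := by
      intro h2
      apply hd.notMem
      rw [h2, ← hc]
      exact pow_mem (mem_zpowers r) _
    refine ⟨four s c hs hci (hcc s hd.smem), four_le hd.smem hcD, ?_, right_mem_four, card_four hsc, four_sq⟩
    rw [h1]; exact right_mem_four
  · exact ⟨four a c ha hci (hcc a haD), four_le haD hcD, left_mem_four, right_mem_four, card_four h1, four_sq⟩

theorem lemR' (h : Sys X K F n) (hR : LemR X K F) (c : Cfg X K F n T y z g) {a b : G}
    (ha : a ∈ T ⊓ K y) (hb : b ∈ T ⊓ K z) (hab : a * b ∈ X) : a = 1 ∨ b = 1 := by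
  have hT := c.sylY.two
  have hbF : b ∈ F y := (c.FyKz b hb.1).2 hb.2
  have haF : a ∈ F z := (c.FzKy a ha.1).2 ha.2
  have hcomm : b * a = a * b := h.commQD hT c.yX hb.1 ha.1 hbF ha.2
  have hsq := (h.inv _ hab).sq
  have h1 : a * a = (b * b)⁻¹ := by
    have : a * a * (b * b) = 1 := by
      calc a * a * (b * b) = a * (a * b) * b := by group
        _ = a * (b * a) * b := by rw [hcomm]
        _ = a * b * (a * b) := by group
        _ = 1 := hsq
    exact eq_inv_of_mul_eq_one_left this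
  have h2 : a * a = 1 := KyKz h c (mul_mem ha.1 ha.1) (mul_mem ha.2 ha.2)
    (by rw [h1]; exact inv_mem (mul_mem hb.2 hb.2))
  have h3 : b * b = 1 := by
    have h4 := h1.symm
    rw [h2, inv_eq_one] at h4
    exact h4
  by_contra hne
  push Not at hne
  have hai : Inv a := ⟨h2, hne.1⟩
  have hbi : Inv b := ⟨h3, hne.2⟩
  obtain ⟨r, s, hd, hr⟩ := c.dihY
  obtain ⟨r', s', hd', hr'⟩ := c.dihZ
  obtain ⟨U, hU, haU, -, hcU, hsU⟩ := exists_four hd c.three hr ha hai
  obtain ⟨V, hV, hbV, hyV, hcV, hsV⟩ := exists_four hd' c.three hr' hb hbi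
  have hP : Pair X K F V U y := by
    refine ⟨c.yX, hyV, fun v hv => (c.FyKz v (hV hv).1).2 (hV hv).2, fun u hu => (hU hu).2, hcV, hcU, hsV, hsU, ?_⟩
    intro v hv u hu
    exact h.commQD hT c.yX (hV hv).1 (hU hu).1 ((c.FyKz v (hV hv).1).2 (hV hv).2) (hU hu).2
  rcases hR V U y hP _ hab (mul_mem (mem_sup_right haU) (mem_sup_left hbV)) with h4 | h4
  · have h5 : a ∈ V := by
      have := mul_mem h4 (inv_mem hbV)
      simpa using this
    exact hne.1 (KyKz h c ha.1 ha.2 (hV h5).2)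
  · have h5 : b ∈ U := by
      have := mul_mem (inv_mem haU) h4
      simpa using this
    exact hne.2 (KyKz h c hb.1 (hU h5).2 hb.2)

/-- `S = T ∪ g⁻¹T` -/
def SG (c : Cfg X K F n T y z g) : Subgroup G where
  carrier := {x | x ∈ T ∨ g * x ∈ T}
  one_mem' := Or.inl (one_mem _)
  mul_mem' := by
    rintro a b (ha | ha) (hb | hb)
    · exact Or.inl (mul_mem ha hb)
    · right
      have e : g * (a * b) = (g * a * g⁻¹) * (g * b) := by group
      rw [e]; exact mul_mem (c.norm a ha) hb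
    · right
      have e : g * (a * b) = (g * a) * b := by group
      rw [e]; exact mul_mem ha hb
    · left
      have e : a * b = (g⁻¹ * (g * a) * g) * (g * g)⁻¹ * (g * b) := by group
      rw [e]; exact mul_mem (mul_mem (norm_inv c ha) (inv_mem c.gg)) hb
  inv_mem' := by
    rintro a (ha | ha)
    · exact Or.inl (inv_mem ha)
    · right
      have e : g * a⁻¹ = (g * (g * a)⁻¹ * g⁻¹) * (g * g) := by group
      rw [e]; exact mul_mem (c.norm _ (inv_mem ha)) c.gg

theorem mem_SG {c : Cfg X K F n T y z g} {x : G} : x ∈ SG c ↔ x ∈ T ∨ g * x ∈ T := Iff.rfl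

theorem outer_of_notMem (c : Cfg X K F n T y z g) {s : G} (hs : s ∈ SG c)
    (hsT : s ∉ T) : (∀ t ∈ T, s * t * s⁻¹ ∈ T) ∧ s * y * s⁻¹ = z ∧ s * s ∈ T := by
  rcases mem_SG.1 hs with h1 | h1
  · exact absurd h1 hsT
  · set t := g * s with ht
    have hs' : s = g⁻¹ * t := by rw [ht]; group
    refine ⟨fun x hx => ?_, ?_, ?_⟩
    · have e1 : s * x * s⁻¹ = g⁻¹ * (t * x * t⁻¹) * g := by rw [hs']; group
      rw [e1]
      exact norm_inv c (mul_mem (mul_mem h1 hx) (inv_mem h1))
    · have e1 : s * y * s⁻¹ = g⁻¹ * (t * y * t⁻¹) * g := by rw [hs']; group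
      rw [e1, c.sylY.cent t h1]
      have e2 : g⁻¹ * (y * t * t⁻¹) * g = g⁻¹ * y * g := by group
      rw [e2, ← c.gz]; group
    · have e1 : s * s = (g⁻¹ * t * g) * (g * g)⁻¹ * t := by rw [hs']; group
      rw [e1]
      exact mul_mem (mul_mem (norm_inv c h1) (inv_mem c.gg)) h1

theorem isPGroup_SG (c : Cfg X K F n T y z g) : IsPGroup 2 (SG c) := by
  rintro ⟨x, hx⟩
  have hxx : x * x ∈ T := by
    by_cases hxT : x ∈ T
    · exact mul_mem hxT hxT
    · exact (outer_of_notMem c hx hxT).2.2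
  obtain ⟨k, hk⟩ := c.sylY.two ⟨_, hxx⟩
  have hk' : (x * x) ^ 2 ^ k = 1 := congrArg Subtype.val hk
  refine ⟨k + 1, ?_⟩
  ext
  simp only [SubmonoidClass.mk_pow, OneMemClass.coe_one]
  rw [pow_succ', pow_mul, pow_two]
  exact hk'

theorem yz_ne (h : Sys X K F n) (c : Cfg X K F n T y z g) : y ≠ z := by
  intro e
  exact h.disj_inv c.yX c.zK (e ▸ h.self y c.yX) (e ▸ h.inv y c.yX)

/-- an element of `S` commuting with `y` lies in `T` -/
theorem mem_T_of_comm (h : Sys X K F n) (c : Cfg X K F n T y z g) {s : G} (hs : s ∈ SG c)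
    (hc : s * y = y * s) : s ∈ T := by
  by_contra hsT
  have h1 := (outer_of_notMem c hs hsT).2.1
  apply yz_ne h c
  rw [← h1, hc]; group

theorem inX (h : Sys X K F n) (hR : LemR X K F) (c : Cfg X K F n T y z g)
    (h7 : ∀ t ∈ T, t ∈ X → Inner K F y t) {s : G} (hs : s ∈ SG c) (hsX : s ∈ X) :
    s ∈ T ⊓ K y ∨ s ∈ T ⊓ K z := by
  have hi := h.inv s hsX
  have hsT : s ∈ T := by
    by_contra hsT
    obtain ⟨a1, a2, a3⟩ := outer_of_notMem c hs hsT
    apply sq_outer h c a1 a2 a3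
    rw [hi.sq]
    exact Sys.inner_of_F (one_mem _)
  obtain ⟨a, ha, b, hb, hab⟩ := (c.innerY s hsT).1 (h7 s hsT hsX)
  rw [hab] at hsX
  rcases lemR' h hR c ha hb hsX with h1 | h1
  · right; rw [hab, h1, one_mul]; exact hb
  · left; rw [hab, h1, mul_one]; exact ha

theorem mem_X (h : Sys X K F n) (c : Cfg X K F n T y z g) {u : G} (hu : u ∈ T ⊓ K y ∨ u ∈ T ⊓ K z)
    (hi : Inv u) : u ∈ X := by
  rcases hu with hu | hu
  · exact h.closed z c.zX u ((c.FzKy u hu.1).2 hu.2) hi
  · exact h.closed y c.yX u ((c.FyKz u hu.1).2 hu.2) hi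

/-- an involution of `D` commuting with all involutions of `D` is the central one -/
theorem eq_cen_of_inv {D : Subgroup G} {r s c a : G} (hd : Dih n D r s) (hn : 3 ≤ n) (hc : r ^ 2 ^ (n - 2) = c)
    (haD : a ∈ D) (ha : Inv a) (hcomm : ∀ u ∈ D, Inv u → a * u = u * a) : a = c := by
  have hs : Inv s := ⟨hd.sq, fun h2 => hd.notMem (h2 ▸ one_mem _)⟩
  have hrs : Inv (r * s) := by
    have h1 := hd.refl_sq 1
    rw [zpow_one] at h1
    refine ⟨h1, fun h2 => hd.notMem ?_⟩
    have : s = r⁻¹ := by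
      rw [← one_mul s, ← inv_mul_cancel r, mul_assoc, h2, mul_one]
    rw [this]
    exact inv_mem (mem_zpowers r)
  have h1 := hcomm s hd.smem hs
  have h2 := hcomm (r * s) (mul_mem hd.rmem hd.smem) hrs
  have h3 : a * r = r * a := by
    have e : a * r * s = r * a * s := by
      calc a * r * s = a * (r * s) := by group
        _ = r * s * a := h2
        _ = r * (s * a) := by group
        _ = r * a * s := by rw [← h1]; group
    exact mul_right_cancel e
  rw [← hc]
  apply hd.eq_cen hn haD ha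
  intro d hdD
  have hr : Commute a r := h3
  have hs' : Commute a s := h1
  obtain ⟨i, rfl | rfl⟩ := hd.exh d hdD
  · exact (hr.pow_right i).eq
  · exact ((hr.pow_right i).mul_right hs').eq

theorem eight [Finite G] (h : Sys X K F n) (hR : LemR X K F) (c : Cfg X K F n T y z g)
    (h7 : ∀ t ∈ T, t ∈ X → Inner K F y t) : ∃ S : Sylow 2 G, Eight X K T y z g S := by
  obtain ⟨P, hP⟩ := (isPGroup_SG c).exists_le_sylow
  have hTS : T ≤ SG c := fun t ht => mem_SG.2 (Or.inl ht)
  have hgS : g ∈ SG c := mem_SG.2 (Or.inr c.gg)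
  have hyT : y ∈ T := c.sylY.mem_of_normalizes (isPGroup_zpowers_of_sq (h.inv y c.yX).sq) rfl
    (fun t ht => by
      have e : y * t * y⁻¹ = t := by rw [← c.sylY.cent t ht]; group
      rwa [e])
  have hfix : ∀ x ∈ P, (∀ s ∈ SG c, x * s * x⁻¹ ∈ SG c) → x * y = y * x → x ∈ T := by
    intro x hx hxn hxy
    apply c.sylY.mem_of_normalizes (isPGroup_zpowers_of_mem P.2 hx) hxy
    intro t ht
    apply mem_T_of_comm h c (hxn t (hTS ht))
    have h1 := c.sylY.cent t ht
    have h2 : x⁻¹ * y = y * x⁻¹ := (Commute.inv_left (show Commute x y from hxy)).eq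
    calc x * t * x⁻¹ * y = x * (t * y) * x⁻¹ := by rw [mul_assoc, h2]; group
      _ = (x * y) * t * x⁻¹ := by rw [h1]; group
      _ = y * (x * t * x⁻¹) := by rw [hxy]; group
  have heq : SG c = P := by
    by_contra hne
    obtain ⟨x, hxP, hxS, hxn⟩ := exists_mem_normalizer P.2 hP hne
    have hxn' : ∀ s ∈ SG c, x⁻¹ * s * x ∈ SG c := by
      have h1 : (SG c).map (MulAut.conj x).toMonoidHom ≤ SG c := by
        rintro _ ⟨t, ht, rfl⟩
        exact hxn t ht
      have h2 : (SG c).map (MulAut.conj x).toMonoidHom = SG c :=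
        eq_of_le_of_card_ge h1 (card_conj x (SG c)).ge
      intro s hs
      rw [← h2, mem_map_conj] at hs
      exact hs
    have hyS : x * y * x⁻¹ ∈ SG c := hxn y (hTS hyT)
    have hyX : x * y * x⁻¹ ∈ X := h.conj y c.yX x
    have hyI : Inv (x * y * x⁻¹) := h.inv _ hyX
    have hcomm : ∀ u : G, (u ∈ T ⊓ K y ∨ u ∈ T ⊓ K z) → Inv u → (x * y * x⁻¹) * u = u * (x * y * x⁻¹) := by
      intro u hu hui
      have huX := mem_X h c hu hui
      have huS : u ∈ SG c := by
        rcases hu with hu | hu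
        · exact hTS hu.1
        · exact hTS hu.1
      have h1 : x⁻¹ * u * x ∈ T := by
        have h2 := h.conj u huX x⁻¹
        rw [_root_.inv_inv] at h2
        rcases inX h hR c h7 (hxn' u huS) h2 with h3 | h3
        · exact h3.1
        · exact h3.1
      have h2 := c.sylY.cent _ h1
      calc (x * y * x⁻¹) * u = x * (y * (x⁻¹ * u * x)) * x⁻¹ := by group
        _ = x * ((x⁻¹ * u * x) * y) * x⁻¹ := by rw [h2]
        _ = u * (x * y * x⁻¹) := by group
    have hcase : x * y * x⁻¹ = y ∨ x * y * x⁻¹ = z := by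
      obtain ⟨r, s, hd, hr⟩ := c.dihY
      obtain ⟨r', s', hd', hr'⟩ := c.dihZ
      rcases inX h hR c h7 hyS hyX with h1 | h1
      · right
        exact eq_cen_of_inv hd c.three hr h1 hyI (fun u hu hui => hcomm u (Or.inl hu) hui)
      · left
        exact eq_cen_of_inv hd' c.three hr' h1 hyI (fun u hu hui => hcomm u (Or.inr hu) hui)
    rcases hcase with h1 | h1
    · apply hxS
      apply hTS
      apply hfix x hxP hxn
      calc x * y = (x * y * x⁻¹) * x := by group
        _ = y * x := by rw [h1]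
    · apply hxS
      have h2 : g⁻¹ * x ∈ T := by
        apply hfix _ (mul_mem (inv_mem (hP hgS)) hxP)
        · intro s hs
          have e : g⁻¹ * x * s * (g⁻¹ * x)⁻¹ = g⁻¹ * (x * s * x⁻¹) * g := by group
          rw [e]
          exact mul_mem (mul_mem (inv_mem hgS) (hxn s hs)) hgS
        · calc g⁻¹ * x * y = g⁻¹ * (x * y * x⁻¹) * x := by group
            _ = g⁻¹ * z * g * g⁻¹ * x := by rw [h1]; group
            _ = y * (g⁻¹ * x) := by rw [← c.gy]; group
      have e : x = g * (g⁻¹ * x) := by group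
      rw [e]
      exact mul_mem hgS (hTS h2)
  refine ⟨P, ⟨fun x => ?_, fun s hs hsX => ?_⟩⟩
  · rw [← mem_SG (c := c), heq]; rfl
  · apply inX h hR c h7 _ hsX
    rw [heq]; exact hs

/-- Case II, `n ≥ 3`, from (7) on -/
theorem final [Finite G] (h : Sys X K F n) (hR : LemR X K F) (c : Cfg X K F n T y z g)
    (h7 : ∀ t ∈ T, t ∈ X → Inner K F y t) (hG : commutator G = ⊤) : False := by
  obtain ⟨S, e⟩ := eight h hR c h7
  exact ten h c e hG

end Cfsg.Agent.GH.TOne.EightProof
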