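import Cfsg.Agent.GH.TOne.CfgTools

/-!
# Case II, `n ≥ 3`, part (7): the elements of `X ∩ T` are inner
-/

set_option autoImplicit false

namespace Cfsg.Agent.GH.TOne

open Subgroup

variable {G : Type*} [Group G] [Finite G]

/-- normalization by `g` of a finite subgroup goes both ways -/
theorem inv_norm {T : Subgroup G} {g : G} (hn : ∀ t ∈ T, g * t * g⁻¹ ∈ T) : ∀ t ∈ T, g⁻¹ * t * g ∈ T := by
  have h1 : T.map (MulAut.conj g).toMonoidHom ≤ T := by
    rintro _ ⟨t, ht, rfl⟩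
    exact hn t ht
  have h2 : T.map (MulAut.conj g).toMonoidHom = T := eq_of_le_of_card_ge h1 (card_conj g T).ge
  intro t ht
  rw [← h2] at ht
  exact mem_map_conj.1 ht

namespace Cfg

variable {X : Set G} {K F : G → Subgroup G} {n : ℕ} {T : Subgroup G} {y z g : G}
  (c : Cfg X K F n T y z g) (h : Sys X K F n)

section tools

include c

omit [Finite G] in
theorem yc {t : G} (ht : t ∈ T) : t * y = y * t := c.sylY.cent t ht

omit [Finite G] in
theorem zc {t : G} (ht : t ∈ T) : t * z = z * t := c.sylZ.cent t ht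

include h

omit [Finite G] in
theorem yi : Inv y := h.inv y c.yX

omit [Finite G] in
theorem zi : Inv z := h.inv z c.zX

theorem yT : y ∈ T :=
  c.sylY.mem_of_normalizes (isPGroup_zpowers_of_sq (h.inv y c.yX).sq) rfl (by
    intro t ht
    rw [← c.yc ht]; simpa [mul_assoc] using ht)

theorem zT : z ∈ T :=
  c.sylZ.mem_of_normalizes (isPGroup_zpowers_of_sq (h.inv z c.zX).sq) rfl (by
    intro t ht
    rw [← c.zc ht]; simpa [mul_assoc] using ht)

theorem yD : y ∈ T ⊓ K z := ⟨c.yT h, c.yK⟩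

theorem zD : z ∈ T ⊓ K y := ⟨c.zT h, c.zK⟩

omit [Finite G] in
theorem comm_mul {a b : G} (ha : a ∈ T ⊓ K y) (hb : b ∈ T ⊓ K z) : a * b = b * a :=
  (h.commQD c.sylY.two c.yX hb.1 ha.1 ((c.FyKz b hb.1).2 hb.2) ha.2).symm

omit [Finite G] in
theorem disj {x : G} (ha : x ∈ T ⊓ K y) (hb : x ∈ T ⊓ K z) : x = 1 :=
  h.disjQD c.sylY.two c.yX ha.1 ha.2 ((c.FyKz x ha.1).2 hb.2)

omit [Finite G] in
theorem nY {t a : G} (ht : t ∈ T) (ha : a ∈ T ⊓ K y) : t * a * t⁻¹ ∈ T ⊓ K y :=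
  ⟨T.mul_mem (T.mul_mem ht ha.1) (T.inv_mem ht), h.conjK_self c.yX (c.yc ht) ha.2⟩

omit [Finite G] in
theorem nZ {t a : G} (ht : t ∈ T) (ha : a ∈ T ⊓ K z) : t * a * t⁻¹ ∈ T ⊓ K z :=
  ⟨T.mul_mem (T.mul_mem ht ha.1) (T.inv_mem ht), h.conjK_self c.zX (c.zc ht) ha.2⟩

omit [Finite G] in
theorem gY {a : G} (ha : a ∈ T ⊓ K y) : g * a * g⁻¹ ∈ T ⊓ K z := by
  refine ⟨c.norm a ha.1, ?_⟩
  have := h.conjK y c.yX g a ha.2
  rwa [c.gy] at this

omit [Finite G] in
theorem gZ {a : G} (ha : a ∈ T ⊓ K z) : g * a * g⁻¹ ∈ T ⊓ K y := by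
  refine ⟨c.norm a ha.1, ?_⟩
  have := h.conjK z c.zX g a ha.2
  rwa [c.gz] at this

omit [Finite G] in
theorem mul_split {a b a' b' : G} (ha : a ∈ T ⊓ K y) (hb : b ∈ T ⊓ K z) (ha' : a' ∈ T ⊓ K y)
    (hb' : b' ∈ T ⊓ K z) (he : a * b = a' * b') : a = a' ∧ b = b' := by
  have h1 : a'⁻¹ * a = b' * b⁻¹ := by
    calc a'⁻¹ * a = a'⁻¹ * (a * b) * b⁻¹ := by group
      _ = b' * b⁻¹ := by rw [he]; group
  have h2 : a'⁻¹ * a = 1 := c.disj h (mul_mem (inv_mem ha') ha) (by
    rw [h1]; exact mul_mem hb' (inv_mem hb))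
  have h3 : a = a' := (inv_mul_eq_one.1 h2).symm
  subst h3
  exact ⟨rfl, mul_left_cancel he⟩

omit [Finite G] in
theorem innYZ {x : G} (hx : x ∈ T) : Inner K F y x ↔ Inner K F z x := by
  rw [c.innerY x hx, c.innerZ x hx]

omit [Finite G] in
/-- conjugation by `g` preserves the inner elements of `T` -/
theorem g_inner {x : G} (hx : x ∈ T) : Inner K F y (g * x * g⁻¹) ↔ Inner K F y x := by
  rw [c.innYZ h (c.norm x hx)]
  have := h.inner_conj_iff c.yX g x
  rwa [c.gy] at this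

/-- an inner element commuting with an outer involution -/
theorem cent_outer {e x : G} (he : e ∈ T) (hei : Inv e) (hne : ¬ Inner K F y e) (hx : x ∈ T)
    (hxi : Inner K F y x) (hc : e * x = x * e) : x = 1 ∨ x = y ∨ x = z ∨ x = y * z := by
  obtain ⟨a, ha, b, hb, rfl⟩ := (c.innerY x hx).1 hxi
  have h3 := c.three
  obtain ⟨⟨r, s, hr⟩, ⟨r', s', hr'⟩⟩ := c.outer e he hei hne
  have e1 : (e * a * e⁻¹) * (e * b * e⁻¹) = a * b := by
    calc (e * a * e⁻¹) * (e * b * e⁻¹) = e * (a * b) * e⁻¹ := by group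
      _ = a * b := by rw [hc]; group
  obtain ⟨h1, h2⟩ := c.mul_split h (c.nY h he ha) (c.nZ h he hb) ha hb e1
  have ea : e * a = a * e := mul_inv_eq_iff_eq_mul.1 h1
  have eb : e * b = b * e := mul_inv_eq_iff_eq_mul.1 h2
  have hza : cen r n = z := by
    have hz1 := c.zD h
    rcases hr.comm hei (by omega) hz1 (c.zc he) with hz2 | hz2
    · exact absurd hz2 (c.zi h).ne
    · exact hz2.symm
  have hyb : cen r' n = y := by
    have hy1 := c.yD h
    rcases hr'.comm hei (by omega) hy1 (c.yc he) with hz2 | hz2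
    · exact absurd hz2 (c.yi h).ne
    · exact hz2.symm
  rcases hr.comm hei (by omega) ha ea with ha1 | ha1 <;> rcases hr'.comm hei (by omega) hb eb with hb1 | hb1
  · left; rw [ha1, hb1, one_mul]
  · right; left; rw [ha1, hb1, one_mul, hyb]
  · right; right; left; rw [ha1, hb1, mul_one, hza]
  · right; right; right
    rw [ha1, hb1, hza, hyb]
    exact c.comm_mul h (c.zD h) (c.yD h)

/-- all involutions of `t B` are conjugate under `B` -/
theorem exists_conj {t x : G} (ht : t ∈ T) (hti : Inv t) (hne : ¬ Inner K F y t) (hx : x ∈ T)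
    (hxi : Inner K F y x) (hc : t * x * (t * x) = 1) : ∃ b ∈ T, Inner K F y b ∧ b * t * b⁻¹ = t * x := by
  obtain ⟨a, ha, d, hd, rfl⟩ := (c.innerY x hx).1 hxi
  have h3 := c.three
  obtain ⟨⟨r, s, hr⟩, ⟨r', s', hr'⟩⟩ := c.outer t ht hti hne
  have hta := c.nY h ht ha
  have htd := c.nZ h ht hd
  rw [hti.inv_eq] at hta htd
  have e1 : (t * a * t * a) * (t * d * t * d) = 1 * 1 := by
    calc (t * a * t * a) * (t * d * t * d) = (t * a * t) * (a * (t * d * t)) * d := by group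
      _ = (t * a * t) * ((t * d * t) * a) * d := by rw [c.comm_mul h ha htd]
      _ = t * a * (t * t) * d * t * a * d := by group
      _ = t * (a * d) * (t * (a * d)) := by rw [hti.sq]; group
      _ = 1 * 1 := by rw [hc, mul_one]
  obtain ⟨h1, h2⟩ := c.mul_split h (mul_mem hta ha) (mul_mem htd hd) (one_mem _) (one_mem _) e1
  obtain ⟨b1, hb1, hb1e⟩ := hr.exists_conj hti (by omega) ha (by rw [← h1]; group)
  obtain ⟨b2, hb2, hb2e⟩ := hr'.exists_conj hti (by omega) hd (by rw [← h2]; group)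
  refine ⟨b1 * b2, mul_mem hb1.1 hb2.1, (c.innerY _ (mul_mem hb1.1 hb2.1)).2 ⟨b1, hb1, b2, hb2, rfl⟩, ?_⟩
  calc b1 * b2 * t * (b1 * b2)⁻¹ = b1 * (b2 * t * b2⁻¹) * b1⁻¹ := by group
    _ = b1 * (t * d) * b1⁻¹ := by rw [hb2e]
    _ = (b1 * t * b1⁻¹) * (b1 * d * b1⁻¹) := by group
    _ = t * a * d := by rw [hb1e, c.comm_mul h hb1 hd]; group
    _ = t * (a * d) := by group

/-- elements of `X ∩ T` which are inner lie in `K y` or `K z` -/
theorem mem_of_inner (hR : LemR X K F) {x : G} (hx : x ∈ T) (hX : x ∈ X) (hxi : Inner K F y x) :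
    x ∈ K y ∨ x ∈ K z := by
  obtain ⟨a, ha, b, hb, rfl⟩ := (c.innerY x hx).1 hxi
  have hi := h.inv _ hX
  have e1 : a * a * (b * b) = 1 * 1 := by
    calc a * a * (b * b) = a * (a * b) * b := by group
      _ = a * (b * a) * b := by rw [c.comm_mul h ha hb]
      _ = a * b * (a * b) := by group
      _ = 1 * 1 := by rw [hi.sq, mul_one]
  obtain ⟨h1, h2⟩ := c.mul_split h (mul_mem ha ha) (mul_mem hb hb) (one_mem _) (one_mem _) e1
  have e2 := c.comm_mul h ha hb
  rw [e2] at hX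
  rcases hR.orth h c.yX ((c.FyKz b hb.1).2 hb.2) ha.2 h2 h1 e2.symm hX with h3 | h3
  · left; rw [h3, mul_one]; exact ha.2
  · right; rw [h3, one_mul]; exact hb.2

end tools

/-- the square of an element normalized: splitting of an involution of `T'` inner at `x` -/
theorem _root_.Cfsg.Agent.GH.TOne.LemR.inner_mem (hR : LemR X K F) (h : Sys X K F n) {x u : G} (hx : x ∈ X)
    (hu : u * u = 1) (hi : Inner K F x u) : ∃ a ∈ F x, ∃ b ∈ K x, a * a = 1 ∧ b * b = 1 ∧ a * b = b * a ∧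
      u = a * b := by
  have huc : u * x = x * u := h.inner_comm hx hi
  obtain ⟨T', hT', huT'⟩ := exists_sylC (y := x) (isPGroup_zpowers_of_sq hu) (by
    intro w hw
    obtain ⟨i, rfl⟩ := mem_zpowers_iff.1 hw
    exact ((show Commute u x from huc).zpow_left i).eq)
  obtain ⟨a, ha, b, hb, rfl⟩ := h.split_syl hx hT' (huT' (mem_zpowers u)) hi
  have hab := h.commQD hT'.two hx ha.1 hb.1 ha.2 hb.2
  have e1 : a * a = (b * b)⁻¹ := by
    rw [eq_inv_iff_mul_eq_one]
    calc a * a * (b * b) = a * (a * b) * b := by group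
      _ = a * (b * a) * b := by rw [hab]
      _ = a * b * (a * b) := by group
      _ = 1 := hu
  have e2 : a * a = 1 := h.disjQD hT'.two hx (mul_mem ha.1 ha.1) (by
    rw [e1]; exact inv_mem (mul_mem hb.2 hb.2)) (mul_mem ha.2 ha.2)
  refine ⟨a, ha.2, b, hb.2, e2, ?_, hab, rfl⟩
  rw [e2] at e1
  exact inv_eq_one.1 e1.symm

section seven

include c h

/-- the first half of (7): an element `τ` of `X ∩ (T - B)`: neither `y` nor `z` is inner at `τ` -/
theorem seven_aux (hR : LemR X K F) {τ x : G} (hτX : τ ∈ X) (hx : x ∈ X) (hxc : x * τ = τ * x)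
    (hne : ¬ Inner K F x τ) (hxτ : x * τ ∈ X) : ¬ Inner K F τ x := by
  intro hi
  obtain ⟨a, ha, b, hb, ha2, hb2, hab, rfl⟩ := hR.inner_mem h hτX (h.inv x hx).sq hi
  rcases hR.orth h hτX ha hb ha2 hb2 hab hx with h1 | h1
  · -- `x = b ∈ K τ`
    subst h1
    rw [one_mul] at hx hne hxτ hxc
    rw [hxc] at hxτ
    rcases hR.orth h hτX (h.self τ hτX) hb (h.inv τ hτX).sq hb2 hxc.symm hxτ with h2 | h2
    · exact (h.inv τ hτX).ne h2
    · exact (h.inv b hx).ne h2
  · subst h1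
    rw [mul_one] at hx hne
    exact hne (Sys.inner_of_F (h.symm hτX hx ha))

theorem seven (hR : LemR X K F) (hA : AllCfg X K F n) {τ : G} (hτ : τ ∈ T) (hX : τ ∈ X) : Inner K F y τ := by
  by_contra hne
  have hτi := h.inv τ hX
  have hyi := c.yi h
  have hzi := c.zi h
  have hyT := c.yT h
  have hzT := c.zT h
  have hyI : Inner K F y y := Sys.inner_of_F (h.self y c.yX)
  have hzI : Inner K F y z := Sys.inner_of_K c.zK
  have hyzI : Inner K F y (y * z) := h.inner_mul c.yX hyI hzI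
  have hyzc : y * z = z * y := (c.yc hzT).symm
  have hτy : τ * y = y * τ := c.yc hτ
  have hτz : τ * z = z * τ := c.zc hτ
  have hneyz : y ≠ z := by
    intro e
    exact hyi.ne (c.disj h (e ▸ c.zD h) (c.yD h))
  -- conjugates of `τ`
  have key : ∀ x ∈ T, Inner K F y x → x * x = 1 → τ * x = x * τ → τ * x ∈ X ∧
      ∃ b : G, b * τ * b⁻¹ = τ * x := by
    intro x hx hxi hxx hcx
    obtain ⟨b, -, -, hb⟩ := c.exists_conj h hτ hτi hne hx hxi (by
      calc τ * x * (τ * x) = τ * (x * τ) * x := by group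
        _ = τ * (τ * x) * x := by rw [hcx]
        _ = (τ * τ) * (x * x) := by group
        _ = 1 := by rw [hτi.sq, hxx, one_mul])
    exact ⟨hb ▸ h.conj τ hX b, b, hb⟩
  have hyzsq : y * z * (y * z) = 1 := (hyi.mul hzi hyzc hneyz).sq
  have hτyz : τ * (y * z) = y * z * τ := by
    calc τ * (y * z) = (τ * y) * z := by group
      _ = y * (τ * z) := by rw [hτy]; group
      _ = y * z * τ := by rw [hτz]; group
  have kyX := (key y hyT hyI hyi.sq hτy).1
  have kzX := (key z hzT hzI hzi.sq hτz).1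
  obtain ⟨kyzX, b0, hb0⟩ := key (y * z) (mul_mem hyT hzT) hyzI hyzsq hτyz
  -- `y`, `z` are not inner at `τ`
  have hny : ¬ Inner K F τ y := c.seven_aux h hR hX c.yX hτy.symm hne (by rw [← hτy]; exact kyX)
  have hnz : ¬ Inner K F τ z := c.seven_aux h hR hX c.zX hτz.symm (fun e => hne ((c.innYZ h hτ).2 e))
    (by rw [← hτz]; exact kzX)
  -- the group `S0 = T ⟨g⟩` and a Sylow 2-subgroup `T'` of `C(τ)` containing `C_{S0}(τ)`
  have hgn : g ∈ normalizer (T : Set G) := by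
    rw [mem_normalizer_iff]
    intro t
    refine ⟨c.norm t, fun ht => ?_⟩
    have := inv_norm c.norm _ ht
    have e : g⁻¹ * (g * t * g⁻¹) * g = t := by group
    rwa [e] at this
  have hS0 : IsPGroup 2 (T ⊔ zpowers g : Subgroup G) :=
    c.sylY.two.to_sup_of_normal_left' c.two (zpowers_le.2 hgn)
  obtain ⟨T', hT', hle⟩ := exists_sylC (y := τ) (P := (T ⊔ zpowers g) ⊓ centralizer ({τ} : Set G))
    (hS0.to_le inf_le_left) (fun x hx => mem_centralizer_singleton_iff.1 hx.2)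
  have hyT' : y ∈ T' := hle ⟨mem_sup_left hyT, mem_centralizer_singleton_iff.2 hτy.symm⟩
  have hzT' : z ∈ T' := hle ⟨mem_sup_left hzT, mem_centralizer_singleton_iff.2 hτz.symm⟩
  -- `yz` is inner at `τ`, `τ y z ∈ K τ`
  have hiyz : Inner K F τ (y * z) := h.outer_mul τ hX T' hT' y hyT' z hzT' hyi hzi hyzc hneyz hny hnz
  have hbK : τ * (y * z) ∈ K τ := by
    obtain ⟨a, ha, b, hb, ha2, hb2, hab, hyz⟩ := hR.inner_mem h hX hyzsq hiyz
    have haτ : a * τ = τ * a := h.centF τ hX a ha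
    have e1 : τ * a * (τ * a) = 1 := by
      calc τ * a * (τ * a) = τ * (a * τ) * a := by group
        _ = (τ * τ) * (a * a) := by rw [haτ]; group
        _ = 1 := by rw [hτi.sq, ha2, one_mul]
    have hbτ : b * τ = τ * b := h.centK τ hX b hb
    have e2 : τ * a * b = b * (τ * a) := by
      calc τ * a * b = τ * (a * b) := by group
        _ = τ * b * a := by rw [hab]; group
        _ = b * (τ * a) := by rw [← hbτ]; group
    have e3 : τ * a * b ∈ X := by
      have : τ * a * b = τ * (y * z) := by rw [hyz]; group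
      rw [this]; exact kyzX
    rcases hR.orth h hX (mul_mem (h.self τ hX) ha) hb e1 hb2 e2 e3 with h1 | h1
    · have : τ * (y * z) = b := by
        rw [hyz]
        calc τ * (a * b) = (τ * a) * b := by group
          _ = b := by rw [h1, one_mul]
      rw [this]; exact hb
    · exfalso
      rw [h1, mul_one] at hyz
      exact c.yzX (h.closed τ hX _ (hyz ▸ ha) (hyi.mul hzi hyzc hneyz))
  obtain ⟨z', g', c'⟩ := hA τ hX ⟨τ * (y * z), hbK, h.inv _ kyzX, b0, hb0⟩ T' hT'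
  have h3 := c.three
  obtain ⟨⟨r, s, hr⟩, ⟨r', s', hr'⟩⟩ := c'.outer y hyT' hyi hny
  have hτT' := c'.yT h
  have hyz' : y * (τ * (y * z)) = τ * (y * z) * y := by
    calc y * (τ * (y * z)) = (y * τ) * (y * z) := by group
      _ = τ * (y * (z * y)) := by rw [← hτy, ← hyzc]; group
      _ = τ * (y * z) * y := by group
  have hcr : cen r n = z' := by
    rcases hr.comm hyi (by omega) (c'.zD h) (c'.zc hyT') with h1 | h1
    · exact absurd h1 (c'.zi h).ne
    · exact h1.symm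
  have hz' : τ * (y * z) = z' := by
    rcases hr.comm hyi (by omega) ⟨mul_mem hτT' (mul_mem hyT' hzT'), hbK⟩ hyz' with h1 | h1
    · exact absurd h1 (h.inv _ kyzX).ne
    · rw [h1, hcr]
  have hcr' : cen r' n = τ := by
    rcases hr'.comm hyi (by omega) (c'.yD h) (c'.yc hyT') with h1 | h1
    · exact absurd h1 hτi.ne
    · exact h1.symm
  -- the element `g0`
  have hτ1T := c.norm τ hτ
  have hτ1ne : ¬ Inner K F y (g * τ * g⁻¹) := fun e => hne ((c.g_inner h hτ).1 e)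
  have hxI := c.mulB τ hτ _ hτ1T hne hτ1ne
  have hxe : τ * (τ * (g * τ * g⁻¹)) = g * τ * g⁻¹ := by rw [← mul_assoc, hτi.sq, one_mul]
  obtain ⟨b, hbT, hbI, hb⟩ := c.exists_conj h hτ hτi hne (mul_mem hτ hτ1T) hxI (by
    rw [hxe]; exact (hτi.conj g).sq)
  rw [hxe] at hb
  obtain ⟨g0, hg0⟩ : ∃ g0, g0 = b⁻¹ * g := ⟨_, rfl⟩
  have hg0τ : g0 * τ = τ * g0 := by
    have : g0 * τ * g0⁻¹ = τ := by
      calc g0 * τ * g0⁻¹ = b⁻¹ * (g * τ * g⁻¹) * b := by rw [hg0]; group
        _ = τ := by rw [← hb]; group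
    exact mul_inv_eq_iff_eq_mul.1 this
  have hg0y : g0 * y * g0⁻¹ = z := by
    calc g0 * y * g0⁻¹ = b⁻¹ * (g * y * g⁻¹) * b := by rw [hg0]; group
      _ = b⁻¹ * (z * b) := by rw [c.gy]; group
      _ = z := by rw [← c.zc hbT]; group
  have hg0T' : g0 ∈ T' := hle ⟨by
    rw [hg0]; exact mul_mem (mem_sup_left (inv_mem hbT)) (mem_sup_right (mem_zpowers g)),
    mem_centralizer_singleton_iff.2 hg0τ⟩
  have hg0sq : ¬ Inner K F y (g0 * g0) := by
    intro hi
    apply c.ggB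
    have hbi := h.inner_inv c.yX hbI
    have hu : Inner K F y (b⁻¹ * (g * b⁻¹ * g⁻¹)) :=
      h.inner_mul c.yX hbi ((c.g_inner h (inv_mem hbT)).2 hbi)
    have e : g * g = (b⁻¹ * (g * b⁻¹ * g⁻¹))⁻¹ * (g0 * g0) := by rw [hg0]; group
    rw [e]
    exact h.inner_mul c.yX (h.inner_inv c.yX hu) hi
  -- computation in `T'`
  have main : ∀ b1 ∈ T', Inner K F τ b1 → b1 * y * b1⁻¹ = z → ∃ a ∈ T' ⊓ K τ, ∃ d ∈ T' ⊓ K z', b1 = a * d ∧
      a * a = z' ∧ d * d = τ ∧ y * a * y = a⁻¹ ∧ y * d * y = d⁻¹ := by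
    intro b1 hb1 hb1I hb1y
    obtain ⟨a, ha, d, hd, rfl⟩ := (c'.innerY b1 hb1).1 hb1I
    have hya := c'.nY h hyT' ha
    have hyd := c'.nZ h hyT' hd
    have e1 : (y * a * y⁻¹ * a⁻¹) * (y * d * y⁻¹ * d⁻¹) = z' * τ := by
      have e2 : a⁻¹ * (y * d * y⁻¹ * d⁻¹) = (y * d * y⁻¹ * d⁻¹) * a⁻¹ :=
        c'.comm_mul h (inv_mem ha) (mul_mem hyd (inv_mem hd))
      calc (y * a * y⁻¹ * a⁻¹) * (y * d * y⁻¹ * d⁻¹) = y * a * y⁻¹ * (a⁻¹ * (y * d * y⁻¹ * d⁻¹)) := by group
        _ = y * a * y⁻¹ * ((y * d * y⁻¹ * d⁻¹) * a⁻¹) := by rw [e2]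
        _ = y * ((a * d) * y * (a * d)⁻¹)⁻¹ := by group
        _ = y * z := by rw [hb1y, hzi.inv_eq]
        _ = z' * τ := by
          rw [← hz']
          calc y * z = y * z * (τ * τ) := by rw [hτi.sq, mul_one]
            _ = (y * z * τ) * τ := by group
            _ = τ * (y * z) * τ := by rw [hτyz]
    obtain ⟨h1, h2⟩ := c'.mul_split h (mul_mem hya (inv_mem ha)) (mul_mem hyd (inv_mem hd)) (c'.zD h) (c'.yD h) e1
    have ha' : a * y * a⁻¹ = y * cen r n := by
      rw [hcr, ← h1, hyi.inv_eq]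
      calc a * y * a⁻¹ = (y * y) * (a * y * a⁻¹) := by rw [hyi.sq, one_mul]
        _ = y * (y * a * y * a⁻¹) := by group
    have hd' : d * y * d⁻¹ = y * cen r' n := by
      rw [hcr', ← h2, hyi.inv_eq]
      calc d * y * d⁻¹ = (y * y) * (d * y * d⁻¹) := by rw [hyi.sq, one_mul]
        _ = y * (y * d * y * d⁻¹) := by group
    obtain ⟨h4, h5⟩ := hr.of_comm_cen hyi h3 ha ha'
    obtain ⟨h6, h7⟩ := hr'.of_comm_cen hyi h3 hd hd'
    exact ⟨a, ha, d, hd, rfl, h4.trans hcr, h6.trans hcr', h5, h7⟩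
  by_cases hg0I : Inner K F τ g0
  · obtain ⟨a, ha, d, hd, hg, haa, hdd, -, -⟩ := main g0 hg0T' hg0I hg0y
    apply hg0sq
    have e : g0 * g0 = y * z := by
      calc g0 * g0 = a * (d * a) * d := by rw [hg]; group
        _ = (a * a) * (d * d) := by rw [← c'.comm_mul h ha hd]; group
        _ = τ * (y * z) * τ := by rw [haa, hdd, hz']
        _ = y * z * (τ * τ) := by rw [hτyz]; group
        _ = y * z := by rw [hτi.sq, mul_one]
    rw [e]; exact hyzI
  · obtain ⟨a, ha, d, hd, hg, -, -, hya, hyd⟩ := main (y * g0) (mul_mem hyT' hg0T')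
      (c'.mulB y hyT' g0 hg0T' hny hg0I) (by
        calc y * g0 * y * (y * g0)⁻¹ = y * (g0 * y * g0⁻¹) * y⁻¹ := by group
          _ = z := by rw [hg0y, hyzc]; group)
    apply hg0sq
    have e0 : g0 = y * (a * d) := by
      rw [← hg, ← mul_assoc, hyi.sq, one_mul]
    have e : g0 * g0 = 1 := by
      calc g0 * g0 = (y * a * y) * (y⁻¹ * d * y) * (a * d) := by rw [e0]; group
        _ = a⁻¹ * d⁻¹ * (a * d) := by rw [hyi.inv_eq, hya, hyd]
        _ = a⁻¹ * d⁻¹ * (d * a) := by rw [c'.comm_mul h ha hd]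
        _ = 1 := by group
    rw [e]
    exact Sys.inner_of_F (one_mem _)

end seven

end Cfg

end Cfsg.Agent.GH.TOne
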