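import Cfsg.Agent.GH.TOne.EightProof
import Cfsg.Agent.GH.TOne.Seven

/-!
# Case II, `n ≥ 3`: the configuration `Cfg` does not exist in a simple group
-/

set_option autoImplicit false

namespace Cfsg.Agent.GH.TOne

open scoped commutatorElement

variable {G : Type*} [Group G] [Finite G] [IsSimpleGroup G]
variable {X : Set G} {K F : G → Subgroup G} {n : ℕ} {T : Subgroup G} {y z g : G}

theorem no_cfg (hna : ∃ a b : G, a * b ≠ b * a) (h : Sys X K F n) (hR : LemR X K F) (hA : AllCfg X K F n)
    (c : Cfg X K F n T y z g) : False := by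
  refine EightProof.final h hR c (fun t ht hX => c.seven h hR hA ht hX) ?_
  rcases IsSimpleGroup.eq_bot_or_eq_top_of_normal (commutator G) inferInstance with h1 | h1
  · exfalso
    obtain ⟨a, b, hab⟩ := hna
    apply hab
    have h2 : ⁅a, b⁆ ∈ commutator G := Subgroup.commutator_mem_commutator (Subgroup.mem_top a) (Subgroup.mem_top b)
    rw [h1, Subgroup.mem_bot, commutatorElement_eq_one_iff_mul_comm] at h2
    exact h2
  · exact h1

end Cfsg.Agent.GH.TOne
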