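import Cfsg.Agent.GH.TOne.TwoPre

/-!
# GH-L2, `m_2(Q) = 2`, Case II: `AllCfg` for `n ≥ 3`, and `n = 2` dead
-/

set_option autoImplicit false

namespace Cfsg.Agent.GH.TOne

open Subgroup

variable {G : Type*} [Group G]

section

variable {X : Set G} {K F : G → Subgroup G} {n : ℕ} {T : Subgroup G} {y z g : G}

namespace StartC

/-- (1) and (2) -/
theorem pre [Finite G] (h : Sys X K F n) (hr : RankFour G) (h1 : AllTOne X K F) (hn : 3 ≤ n)
    (c : StartC X K F T y z g) : PreC X K F n T y z g := by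
  have hyT := StartC.yT h c
  have hzT := StartC.zT h c
  have iy := StartC.iy h c
  have iz := StartC.iz h c
  have hyK := StartC.yK h c hr h1
  have dihY : ∃ r s : G, Dih n (T ⊓ K y) r s ∧ r ^ 2 ^ (n - 2) = z := by
    obtain ⟨r, s, hd⟩ := h.dih y c.yX T c.sylY
    exact ⟨r, s, hd, (hd.eq_cen hn ⟨hzT, c.zK⟩ iz fun d hd' => (StartC.zc h c hd'.1).symm).symm⟩
  have dihZ : ∃ r s : G, Dih n (T ⊓ K z) r s ∧ r ^ 2 ^ (n - 2) = y := by
    obtain ⟨r, s, hd⟩ := h.dih z c.zX T c.sylZ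
    exact ⟨r, s, hd, (hd.eq_cen hn ⟨hyT, hyK⟩ iy fun d hd' => (StartC.yc h c hd'.1).symm).symm⟩
  have hgz : g * z * g⁻¹ = y := by
    obtain ⟨r, s, hd, hrz⟩ := dihZ
    rw [← hrz]
    refine hd.eq_cen hn (StartC.memKz h c ⟨hzT, c.zK⟩) (iz.conj g) fun d hd' => ?_
    have h3 := StartC.zc h c (c.norm' d hd'.1)
    calc g * z * g⁻¹ * d = g * (z * (g⁻¹ * d * g)) * g⁻¹ := by group
      _ = g * ((g⁻¹ * d * g) * z) * g⁻¹ := by rw [h3]
      _ = d * (g * z * g⁻¹) := by group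
  -- (2)
  have hDF : ∀ x ∈ T ⊓ K y, x ∈ F z := by
    by_contra hcon
    obtain ⟨r, s, hd, hrz⟩ := dihY
    obtain ⟨u, hu, iu, huz, huF⟩ : ∃ u ∈ T ⊓ K y, Inv u ∧ u ≠ z ∧ u ∉ F z := by
      by_contra hcon'
      push Not at hcon'
      apply hcon
      exact hd.le_of_refl hn (H := F z) fun u hu iu huz => hcon' u hu iu (by rw [← hrz]; exact huz)
    have hzD : z ∈ T ⊓ K y := ⟨hzT, c.zK⟩
    have hzu : z * u = u * z := (StartC.zc h c hu.1).symm
    -- all involutions of `T ∩ F y` lie in `K z`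
    have star : ∀ a ∈ T ⊓ F y, Inv a → a ∈ K z := by
      intro a ha ia
      by_cases hay : a = y
      · rw [hay]; exact hyK
      have p := StartC.pairY h c ha ia hay hzD hu iz iu huz.symm hzu
      have hle : four y a (StartC.iy h c) ia (StartC.yc h c ha.1).symm ⊔ four z u iz iu hzu ≤ T :=
        sup_le (four_le hyT ha.1) (four_le hzT hu.1)
      rcases lemmaR_full h hr h1 p c.zX (mem_sup_right left_mem_four) c.sylZ hle with
        h2 | ⟨-, ⟨hU, -⟩ | ⟨hU, -⟩ | ⟨-, hV, -⟩⟩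
      · exact absurd (p.VF h2) (StartC.zFy h c)
      · exact absurd (hU right_mem_four) huF
      · exact absurd (hU right_mem_four) huF
      · rcases hV a right_mem_four with h2 | h2
        · exact h2
        · -- `z a ∈ K z`
          have hza : z * a = a * z := (StartC.zc h c ha.1).symm
          have hzne : z ≠ a := fun h3 => StartC.zFy h c (by rw [h3]; exact ha.2)
          have ib : Inv (z * a) := iz.mul ia hza hzne
          have hbT : z * a ∈ T ⊓ K z := ⟨mul_mem hzT ha.1, h2⟩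
          have haX : a ∈ X := h.closed y c.yX a ha.2 ia
          have hby : y ≠ z * a := by
            intro h3
            apply StartC.yzX h c hr h1
            have : a = y * z := by
              rw [h3, hza, mul_assoc, iz.sq, mul_one]
            rw [← this]; exact haX
          obtain ⟨a0, ha0, ia0, hne0⟩ := h.exists_inv_F c.zX c.sylZ
          have p' := StartC.pairZ h c ha0 ia0 hne0 ⟨hyT, hyK⟩ hbT iy ib hby (StartC.yc h c hbT.1).symm
          have haE : a = z * (z * a) := by rw [← mul_assoc, iz.sq, one_mul]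
          have hmem : a ∈ four z a0 (StartC.iz h c) ia0 (StartC.zc h c ha0.1).symm ⊔
              four y (z * a) iy ib (StartC.yc h c hbT.1).symm :=
            (congrArg (fun w => w ∈ four z a0 (StartC.iz h c) ia0 (StartC.zc h c ha0.1).symm ⊔
              four y (z * a) iy ib (StartC.yc h c hbT.1).symm) haE).mpr
              (mul_mem (mem_sup_left left_mem_four) (mem_sup_right right_mem_four))
          rcases lemmaR h hr h1 p' haX hmem with h3 | h3
          · exfalso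
            apply ib.ne
            exact h.eq_one_FK c.zX c.sylZ ⟨hbT.1, mul_mem (h.self z c.zX) (p'.VF h3)⟩ h2
          · exact p'.UK h3
    obtain ⟨a, ha, ia, hay⟩ := h.exists_inv_F c.yX c.sylY
    have haK : a ∈ K z := star a ha ia
    -- `u₁ = a ^ g`, `a₂ = u₁ ^ g`, `v = u ^ g`
    have hu1F : g * a * g⁻¹ ∈ T ⊓ F z := StartC.memFz h c ha
    have hu1K : g * a * g⁻¹ ∈ T ⊓ K y := by
      refine ⟨hu1F.1, ?_⟩
      have := h.conjK z c.zX g a haK
      rwa [hgz] at this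
    have ha2F : g * (g * a * g⁻¹) * g⁻¹ ∈ F y := by
      have := h.conjF z c.zX g _ hu1F.2
      rwa [hgz] at this
    have ha2K : g * (g * a * g⁻¹) * g⁻¹ ∈ T ⊓ K z := StartC.memKz h c hu1K
    have hvK : g * u * g⁻¹ ∈ T ⊓ K z := StartC.memKz h c hu
    have hvF : g * u * g⁻¹ ∉ F y := by
      intro h3
      apply huF
      rw [← hgz] at h3
      exact (h.memF_conj_iff c.zX g u).1 h3
    have hinj : ∀ b b' : G, g * b * g⁻¹ = g * b' * g⁻¹ → b = b' := by
      intro b b' h3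
      calc b = g⁻¹ * (g * b * g⁻¹) * g := by group
        _ = b' := by rw [h3]; group
    have hvy : g * u * g⁻¹ ≠ y := fun h3 => huz (hinj _ _ (by rw [h3, hgz]))
    have hu1z : g * a * g⁻¹ ≠ z := fun h3 => hay (hinj _ _ (by rw [h3, c.gy]))
    have ha2y : g * (g * a * g⁻¹) * g⁻¹ ≠ y := fun h3 => hu1z (hinj _ _ (by rw [h3, hgz]))
    obtain ⟨r', s', hd', hrz'⟩ := dihZ
    have hFconj : ∀ b ∈ F y, CjC (T ⊓ K z) b (g * u * g⁻¹) → False := by
      rintro b hb ⟨d, hd1, hd2⟩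
      apply hvF
      rw [← hd2]
      exact h.conjF_self c.yX (StartC.yc h c hd1.1) hb
    rcases hd'.two_classes (by omega) ⟨ha.1, haK⟩ hvK ha2K ia (iu.conj g) ((ia.conj g).conj g)
      (by rw [hrz']; exact hay) (by rw [hrz']; exact hvy) (by rw [hrz']; exact ha2y) with h3 | h3 | h3
    · exact hFconj a ha.2 h3
    · exact hFconj _ ha2F h3.symm
    · obtain ⟨d, hd1, hd2⟩ := h3
      have hdy : d⁻¹ * y = y * d⁻¹ := StartC.yc h c (inv_mem hd1.1)
      have hdz : d⁻¹ * z = z * d⁻¹ := StartC.zc h c (inv_mem hd1.1)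
      have hdu : d⁻¹ * (g * a * g⁻¹) = g * a * g⁻¹ * d⁻¹ :=
        (h.comm_FK c.zX c.sylZ hu1F (inv_mem hd1)).symm
      refine StartC.no_swap h c h1 (a := a) (u := g * a * g⁻¹) (k := d⁻¹ * g) ha ia hay hu1K (ia.conj g) hu1z ?_ ?_ ?_ ?_
      · calc d⁻¹ * g * y * (d⁻¹ * g)⁻¹ = d⁻¹ * (g * y * g⁻¹) * d := by group
          _ = d⁻¹ * z * d := by rw [c.gy]
          _ = z := by rw [hdz]; group
      · calc d⁻¹ * g * z * (d⁻¹ * g)⁻¹ = d⁻¹ * (g * z * g⁻¹) * d := by group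
          _ = d⁻¹ * y * d := by rw [hgz]
          _ = y := by rw [hdy]; group
      · calc d⁻¹ * g * a * (d⁻¹ * g)⁻¹ = d⁻¹ * (g * a * g⁻¹) * d := by group
          _ = g * a * g⁻¹ := by rw [hdu]; group
      · calc d⁻¹ * g * (g * a * g⁻¹) * (d⁻¹ * g)⁻¹ = d⁻¹ * (g * (g * a * g⁻¹) * g⁻¹) * d := by group
          _ = a := by rw [← hd2]; group
  have hDF' : ∀ x ∈ T ⊓ K z, x ∈ F y := by
    intro x hx
    have h2 := StartC.memKy h c hx
    have h3 := h.conjF z c.zX g _ (hDF _ h2)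
    have e : g * (g⁻¹ * x * g) * g⁻¹ = x := by group
    rwa [e, hgz] at h3
  exact ⟨c, hn, hgz, hyK, hDF, hDF', dihY, dihZ⟩

/-- `g` may be replaced by an odd power, a 2-element -/
theorem exists_two [Finite G] (c : StartC X K F T y z g) (hgz : g * z * g⁻¹ = y) :
    ∃ g', StartC X K F T y z g' ∧ IsPGroup 2 (zpowers g') := by
  obtain ⟨k, m, hm, hkm⟩ : ∃ k m : ℕ, ¬ 2 ∣ m ∧ orderOf g = 2 ^ k * m :=
    Nat.exists_eq_pow_mul_and_not_dvd (orderOf_pos g).ne' 2 (by norm_num)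
  have hodd : Odd m := by rwa [← Nat.not_even_iff_odd, even_iff_two_dvd]
  obtain ⟨j, hj⟩ := hodd
  have hgg : Commute (g * g) y := by
    have h2 : g * g * y * (g * g)⁻¹ = y := by
      calc g * g * y * (g * g)⁻¹ = g * (g * y * g⁻¹) * g⁻¹ := by group
        _ = y := by rw [c.gy, hgz]
    exact mul_inv_eq_iff_eq_mul.1 h2
  have hpow : g ^ m = g * (g * g) ^ j := by
    rw [hj, pow_succ', pow_mul, pow_two]
  have hn : ∀ i : ℕ, ∀ t ∈ T, g ^ i * t * (g ^ i)⁻¹ ∈ T := by
    intro i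
    induction i with
    | zero => intro t ht; rw [pow_zero, one_mul, inv_one, mul_one]; exact ht
    | succ i ih =>
      intro t ht
      have e : g ^ (i + 1) * t * (g ^ (i + 1))⁻¹ = g * (g ^ i * t * (g ^ i)⁻¹) * g⁻¹ := by
        rw [pow_succ']; group
      rw [e]
      exact c.norm _ (ih t ht)
  refine ⟨g ^ m, ⟨c.yX, c.zX, c.sylY, c.sylZ, hn m, norm_invC (hn m), ?_, c.zK⟩, ?_⟩
  · have h2 : (g * g) ^ j * y = y * (g * g) ^ j := (hgg.pow_left j).eq
    rw [hpow]
    calc g * (g * g) ^ j * y * (g * (g * g) ^ j)⁻¹ = g * ((g * g) ^ j * y) * ((g * g) ^ j)⁻¹ * g⁻¹ := by group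
      _ = g * y * g⁻¹ := by rw [h2]; group
      _ = z := c.gy
  · have : Fact (Nat.Prime 2) := ⟨Nat.prime_two⟩
    rw [IsPGroup.iff_card, Nat.card_zpowers]
    refine ⟨k, ?_⟩
    have hm0 : 0 < m := by omega
    rw [orderOf_pow_of_dvd hm0.ne' (by rw [hkm]; exact Dvd.intro_left _ rfl), hkm, Nat.mul_div_cancel _ hm0]

end StartC

namespace PreC

/-- outer involutions are of d-type -/
theorem dtype [Finite G] (h : Sys X K F n) (hr : RankFour G) (h1 : AllTOne X K F) (p : PreC X K F n T y z g) {e : G}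
    (he : e ∈ T) (ie : Inv e) (hin : ¬ Inner K F y e) : ∃ r s : G, DType n (T ⊓ K y) e r s := by
  rcases h.outer_type y p.yX T p.sylY e he ie hin with ⟨hf, -⟩ | h2
  · exfalso
    obtain ⟨a, ha, b, hb, ia, ib, hab, -, hea, heb⟩ := hf
    have key : ∀ u ∈ T ⊓ K y, Inv u → e * u = u * e → u = z := by
      intro u hu iu heu
      by_contra huz
      refine PreC.swapY h p hr h1 he hin hu iu huz ?_
      have : e * u * e⁻¹ = u := by rw [heu]; group
      rw [this]
      exact CjC.refl _ _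
    exact hab ((key a ha ia hea).trans (key b hb ib heb).symm)
  · exact h2

/-- (1)-(5), final form -/
theorem cfg [Finite G] (h : Sys X K F n) (hr : RankFour G) (h1 : AllTOne X K F) (p : PreC X K F n T y z g)
    (h2 : IsPGroup 2 (zpowers g)) : Cfg X K F n T y z g := by
  have hgg : g * g ∈ T := by
    refine p.sylY.mem_of_normalizes ?_ ?_ ?_
    · exact h2.to_le (zpowers_le.2 (mul_mem (mem_zpowers g) (mem_zpowers g)))
    · have h3 : g * g * y * (g * g)⁻¹ = y := by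
        calc g * g * y * (g * g)⁻¹ = g * (g * y * g⁻¹) * g⁻¹ := by group
          _ = y := by rw [p.gy, p.gz]
      exact mul_inv_eq_iff_eq_mul.1 h3
    · intro t ht
      have e : g * g * t * (g * g)⁻¹ = g * (g * t * g⁻¹) * g⁻¹ := by group
      rw [e]
      exact p.norm _ (p.norm t ht)
  refine ⟨p.three, p.yX, p.zX, p.sylY, p.sylZ, h2, p.norm, p.gy, p.gz, p.zK, p.yK,
    StartC.yzX h p.toStartC hr h1, ?_, ?_, p.dihY, p.dihZ, ?_, ?_, ?_, ?_, ?_, ?_, ?_, hgg, ?_⟩
  · exact fun x hx => ⟨PreC.FyKz h p hr h1 x hx, fun hxK => p.DzFy x ⟨hx, hxK⟩⟩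
  · exact fun x hx => ⟨PreC.FyKz h p.symm hr h1 x hx, fun hxK => p.DyFz x ⟨hx, hxK⟩⟩
  · exact fun x hx => PreC.inner_iff h p hr h1 hx
  · exact fun x hx => PreC.inner_iff' h p hr h1 hx
  · -- mulB
    intro t ht t' ht' hin hin'
    by_contra hcon
    obtain ⟨r, s, hd, hrz⟩ := p.dihY
    have hsz : s ≠ z := by rw [← hrz]; exact hd.z_ne_s.symm
    have ha1 : t' * s * t'⁻¹ ∈ T ⊓ K y := h.normK p.yX p.sylY t' ht' s hd.smem
    have ha2 : t * (t' * s * t'⁻¹) * t⁻¹ ∈ T ⊓ K y := h.normK p.yX p.sylY t ht _ ha1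
    have hne : ∀ w ∈ T, ∀ b : G, b ≠ z → w * b * w⁻¹ ≠ z := by
      intro w hw b hb h3
      apply hb
      calc b = w⁻¹ * (w * b * w⁻¹) * w := by group
        _ = w⁻¹ * (z * w) := by rw [h3]; group
        _ = z := by rw [← StartC.zc h p.toStartC hw]; group
    have e : t * (t' * s * t'⁻¹) * t⁻¹ = t * t' * s * (t * t')⁻¹ := by group
    rcases hd.two_classes (by have := p.three; omega) hd.smem ha1 ha2 hd.sInv (hd.sInv.conj t')
      ((hd.sInv.conj t').conj t) (by rw [hrz]; exact hsz) (by rw [hrz]; exact hne t' ht' s hsz)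
      (by rw [hrz]; exact hne t ht _ (hne t' ht' s hsz)) with h3 | h3 | h3
    · exact PreC.swapY h p hr h1 ht' hin' hd.smem hd.sInv hsz h3
    · exact PreC.swapY h p hr h1 ht hin ha1 (hd.sInv.conj t') (hne t' ht' s hsz) h3
    · rw [e] at h3
      exact PreC.swapY h p hr h1 (mul_mem ht ht') hcon hd.smem hd.sInv hsz h3
  · intro k hk hky a ha ia hay d hd h3
    exact PreC.parity h p h1 hk hky ha ia hay ⟨d, hd, h3.symm⟩
  · intro t ht hin a ha ia hay d hd h3
    exact PreC.swapY h p.symm hr h1 ht (fun h4 => hin ((PreC.inner_yz h p hr h1 ht).2 h4)) ha ia hay ⟨d, hd, h3.symm⟩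
  · intro t ht hin a ha ia haz d hd h3
    exact PreC.swapY h p hr h1 ht hin ha ia haz ⟨d, hd, h3.symm⟩
  · intro e he ie hin
    exact ⟨PreC.dtype h hr h1 p he ie hin,
      PreC.dtype h hr h1 p.symm he ie (fun h4 => hin ((PreC.inner_yz h p hr h1 he).2 h4))⟩
  · -- ggB
    intro hin
    obtain ⟨a, ha, b, hb, e⟩ := (PreC.inner_iff h p hr h1 hgg).1 hin
    obtain ⟨r, s, hd, hrz⟩ := p.dihZ
    have hsy : s ≠ y := by rw [← hrz]; exact hd.z_ne_s.symm
    refine PreC.gg_parity h p h1 hd.smem hd.sInv hsy ⟨b, hb, ?_⟩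
    have has : a * (b * s * b⁻¹) = b * s * b⁻¹ * a :=
      PreC.comm h p ha (mul_mem (mul_mem hb hd.smem) (inv_mem hb))
    calc b * s * b⁻¹ = a * (b * s * b⁻¹) * a⁻¹ := by rw [has]; group
      _ = (a * b) * s * (a * b)⁻¹ := by group
      _ = g * g * s * (g * g)⁻¹ := by rw [e]
      _ = g * (g * s * g⁻¹) * g⁻¹ := by group

end PreC

/-- **Case II, `n ≥ 3`, parts (1)-(5)** -/
theorem allCfg [Finite G] (h : Sys X K F n) (hr : RankFour G) (h1 : AllTOne X K F) (hn : 3 ≤ n) :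
    AllCfg X K F n := by
  intro y hy hx T hT
  obtain ⟨z, g, c⟩ := exists_startC h hy hx hT
  have p := StartC.pre h hr h1 hn c
  obtain ⟨g', c', h2⟩ := c.exists_two p.gz
  exact ⟨z, g', PreC.cfg h hr h1 (StartC.pre h hr h1 hn c') h2⟩

/-- **Case II, `n = 2`** -/
theorem false_of_two [Finite G] (h : Sys X K F 2) (hr : RankFour G) (h1 : AllTOne X K F) (hy : y ∈ X)
    (hx : ∃ x ∈ K y, Inv x ∧ ∃ g : G, g * y * g⁻¹ = x) : False := by
  obtain ⟨T, hT, -⟩ := exists_sylC (y := y) (P := ⊥) IsPGroup.of_bot (by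
    intro x hx'
    rw [mem_bot.1 hx', one_mul, mul_one])
  obtain ⟨z, g, c⟩ := exists_startC h hy hx hT
  exact StartC.dead_two h hr h1 c

end

end Cfsg.Agent.GH.TOne
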