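import Cfsg.Agent.GH.TOne.CaseTwo
import Cfsg.Agent.GH.TOne.TwoCfg
import Cfsg.Agent.GH.TOne.NoCfg

/-!
# The T1 world is empty

In a simple group `G` of sectional 2-rank at most 4 some pair `(V, U)` is moved by an element of `N(V × U)`.
-/

set_option autoImplicit false

namespace Cfsg.Agent.GH.TOne

open Subgroup

variable {G : Type*} [Group G] [Finite G] {X : Set G} {K F : G → Subgroup G} {n : ℕ}

theorem lemR (h : Sys X K F n) (hr : RankFour G) (h1 : AllTOne X K F) : LemR X K F :=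
  fun _ _ _ p _ ht htE => lemmaR h hr h1 p ht htE

/-- The T1 world is empty. -/
theorem not_allTOne [IsSimpleGroup G] (hna : ∃ a b : G, a * b ≠ b * a) (h : Sys X K F n) (hr : RankFour G)
    (hS : LemS X F) (hne : X.Nonempty) : ¬ AllTOne X K F := by
  intro h1
  obtain ⟨y, hy, hx⟩ := caseI h hr h1 hS hne
  rcases Nat.lt_or_ge 2 n with hn | hn
  · have hA : AllCfg X K F n := allCfg h hr h1 hn
    obtain ⟨T, hT, -⟩ := exists_sylC (y := y) (P := ⊥) IsPGroup.of_bot (by
      intro x hx; rw [mem_bot.1 hx, one_mul, mul_one])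
    obtain ⟨z, g, c⟩ := hA y hy hx T hT
    exact no_cfg hna h (lemR h hr h1) hA c
  · have hn2 : n = 2 := le_antisymm hn h.two_le
    subst hn2
    exact caseII_two h hr h1 hy hx

/-- Some pair is moved. -/
theorem exists_moved [IsSimpleGroup G] (hna : ∃ a b : G, a * b ≠ b * a) (h : Sys X K F n) (hr : RankFour G)
    (hS : LemS X F) (hne : X.Nonempty) :
    ∃ (V U : Subgroup G) (y g : G), Pair X K F V U y ∧ (∀ x ∈ V ⊔ U, g * x * g⁻¹ ∈ V ⊔ U) ∧
      ¬ ((∀ v ∈ V, g * v * g⁻¹ ∈ V) ∧ ∀ u ∈ U, g * u * g⁻¹ ∈ U) := by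
  by_contra hc
  exact not_allTOne hna h hr hS hne fun V U y p g hg => by_contra fun h2 => hc ⟨V, U, y, g, p, hg, h2⟩

end Cfsg.Agent.GH.TOne
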