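import Cfsg.Agent.GH.TOne.Elem

/-!
# The output of parts (1)-(6) of Case II, `n ≥ 3` (interface)
-/

set_option autoImplicit false

namespace Cfsg.Agent.GH.TOne

open Subgroup

variable {G : Type*} [Group G]

/-- The configuration of Case II, `n ≥ 3`, after parts (1)-(6) of the blueprint: `T` is a Sylow 2-subgroup of
`C(y)` and of `C(z)`, `D_y = T ∩ K y = T ∩ F z`, `D_z = T ∩ K z = T ∩ F y`, `g` normalizes `T` and swaps `y`, `z`. -/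
structure Cfg (X : Set G) (K F : G → Subgroup G) (n : ℕ) (T : Subgroup G) (y z g : G) : Prop where
  three : 3 ≤ n
  yX : y ∈ X
  zX : z ∈ X
  sylY : SylC y T
  sylZ : SylC z T
  /-- `g` is a 2-element -/
  two : IsPGroup 2 (zpowers g)
  norm : ∀ t ∈ T, g * t * g⁻¹ ∈ T
  gy : g * y * g⁻¹ = z
  gz : g * z * g⁻¹ = y
  zK : z ∈ K y
  yK : y ∈ K z
  yzX : y * z ∉ X
  FyKz : ∀ x ∈ T, x ∈ F y ↔ x ∈ K z
  FzKy : ∀ x ∈ T, x ∈ F z ↔ x ∈ K y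
  dihY : ∃ r s : G, Dih n (T ⊓ K y) r s ∧ r ^ 2 ^ (n - 2) = z
  dihZ : ∃ r s : G, Dih n (T ⊓ K z) r s ∧ r ^ 2 ^ (n - 2) = y
  innerY : ∀ x ∈ T, Inner K F y x ↔ ∃ a ∈ T ⊓ K y, ∃ b ∈ T ⊓ K z, x = a * b
  innerZ : ∀ x ∈ T, Inner K F z x ↔ ∃ a ∈ T ⊓ K y, ∃ b ∈ T ⊓ K z, x = a * b
  /-- `|T : B| ≤ 2` -/
  mulB : ∀ t ∈ T, ∀ t' ∈ T, ¬ Inner K F y t → ¬ Inner K F y t' → Inner K F y (t * t')
  /-- parity -/
  parity : ∀ h : G, (∀ t ∈ T, h * t * h⁻¹ ∈ T) → h * y * h⁻¹ = z → ∀ a ∈ T ⊓ K z, Inv a → a ≠ y →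
    ∀ d ∈ T ⊓ K z, h * (h * a * h⁻¹) * h⁻¹ ≠ d * a * d⁻¹
  swapZ : ∀ t ∈ T, ¬ Inner K F y t → ∀ a ∈ T ⊓ K z, Inv a → a ≠ y → ∀ d ∈ T ⊓ K z, t * a * t⁻¹ ≠ d * a * d⁻¹
  swapY : ∀ t ∈ T, ¬ Inner K F y t → ∀ a ∈ T ⊓ K y, Inv a → a ≠ z → ∀ d ∈ T ⊓ K y, t * a * t⁻¹ ≠ d * a * d⁻¹
  /-- involutions of `T - B` are of d-type at `y` and at `z` -/
  outer : ∀ e ∈ T, Inv e → ¬ Inner K F y e → (∃ r s : G, DType n (T ⊓ K y) e r s) ∧ ∃ r s : G, DType n (T ⊓ K z) e r s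
  gg : g * g ∈ T
  ggB : ¬ Inner K F y (g * g)

/-- every `y ∈ X` such that `K y` contains a conjugate of `y`, and every Sylow 2-subgroup `T` of `C(y)` give
such a configuration -/
def AllCfg (X : Set G) (K F : G → Subgroup G) (n : ℕ) : Prop :=
  ∀ y ∈ X, (∃ x ∈ K y, Inv x ∧ ∃ g : G, g * y * g⁻¹ = x) → ∀ T : Subgroup G, SylC y T →
    ∃ z g : G, Cfg X K F n T y z g

/-- the conclusion of Lemma R: no element of `X` in `V × U` outside of `V ∪ U` -/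
def LemR (X : Set G) (K F : G → Subgroup G) : Prop :=
  ∀ (V U : Subgroup G) (y : G), Pair X K F V U y → ∀ t ∈ X, t ∈ V ⊔ U → t ∈ V ∨ t ∈ U

end Cfsg.Agent.GH.TOne
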