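import Cfsg.Agent.GH.TOne.LemmaR
import Cfsg.Agent.GH.TOne.Struct

/-!
# Lemma INNER and Case I
-/

set_option autoImplicit false

namespace Cfsg.Agent.GH.TOne

open Subgroup

variable {G : Type*} [Group G] [Finite G] {X : Set G} {K F : G → Subgroup G} {n : ℕ}

omit [Finite G] in
theorem isPGroup_four {a b : G} (ha : Inv a) (hb : Inv b) (hc : a * b = b * a) : IsPGroup 2 (four a b ha hb hc) := by
  rintro ⟨x, hx⟩
  refine ⟨1, Subtype.ext ?_⟩
  rw [pow_one, pow_two]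
  exact four_sq x hx

omit [Finite G] in
theorem four_comm {a b x : G} {ha : Inv a} {hb : Inv b} {hc : a * b = b * a} (h1 : a * x = x * a) (h2 : b * x = x * b) :
    ∀ u ∈ four a b ha hb hc, u * x = x * u := by
  rintro u (rfl | rfl | rfl | rfl)
  · rw [one_mul, mul_one]
  · exact h1
  · exact h2
  · rw [mul_assoc, h2, ← mul_assoc, h1, mul_assoc]

/-- a Sylow 2-subgroup of `C(t)` containing two commuting involutions of `C(t)` -/
theorem exists_sylC_two {t a b : G} (ha : Inv a) (hb : Inv b) (hc : a * b = b * a) (h1 : a * t = t * a)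
    (h2 : b * t = t * b) : ∃ T, SylC t T ∧ a ∈ T ∧ b ∈ T := by
  obtain ⟨T, hT, hle⟩ := exists_sylC (isPGroup_four ha hb hc) (four_comm (x := t) h1 h2)
  exact ⟨T, hT, hle left_mem_four, hle right_mem_four⟩

/-- **Lemma INNER** -/
theorem inner_pair (h : Sys X K F n) {Y : Set G} (hYX : Y ⊆ X) (hYc : ∀ y ∈ Y, ∀ g : G, g * y * g⁻¹ ∈ Y)
    (hYcl : ∀ y ∈ Y, ∀ t ∈ F y, Inv t → t ∈ Y) {y t : G} (hy : y ∈ Y) (ht : t ∈ Y) (hc : y * t = t * y)
    (htF : t ∉ F y) : ∃ y ∈ Y, ∃ t ∈ Y, y * t = t * y ∧ t ∉ F y ∧ Inner K F y t := by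
  by_contra hcon
  push Not at hcon
  have hcon' : ∀ y ∈ Y, ∀ t ∈ Y, y * t = t * y → Inner K F y t → t ∈ F y := by
    intro y hy t ht hc hin
    by_contra hn
    exact hcon y hy t ht hc hn hin
  clear hcon
  have hyX := hYX hy
  have htX := hYX ht
  have iy := h.inv y hyX
  have it := h.inv t htX
  have hyF : y ∉ F t := fun h2 => htF (h.symm htX hyX h2)
  have hyI : ¬ Inner K F t y := fun h2 => hyF (hcon' t ht y hy hc.symm h2)
  obtain ⟨T, hT, hyT, htT⟩ := exists_sylC_two iy it hc rfl hc.symm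
  -- (2)
  have huniq : ∀ a ∈ T ⊓ F y, a * t = t * a → a * a = 1 → a = 1 ∨ a = y := by
    intro a ha hat ha2
    by_contra hne
    push Not at hne
    obtain ⟨ha1, hay⟩ := hne
    have ia : Inv a := ⟨ha2, ha1⟩
    have haF := (mem_inf.1 ha).2
    have hay' : a * y = y * a := h.centF y hyX a haF
    have haY : a ∈ Y := hYcl y hy a haF ia
    have hya : y * a = a * y := hay'.symm
    have haX := hYX haY
    have haFt : a ∉ F t := by
      intro h2
      have h3 : t ∈ F a := h.symm htX haX h2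
      have h4 : y ∈ F a := h.symm hyX haX haF
      exact htF (h.trans hyX haX h4 h3 hc.symm)
    have haI : ¬ Inner K F t a := fun h2 => haFt (hcon' t ht a haY hat.symm h2)
    have iya : Inv (y * a) := iy.mul ia hya (Ne.symm hay)
    have hyaF : y * a ∈ F y := mul_mem (h.self y hyX) haF
    have hyaY : y * a ∈ Y := hYcl y hy _ hyaF iya
    have hyaX := hYX hyaY
    have hyat : y * a * t = t * (y * a) := by rw [mul_assoc, hat, ← mul_assoc, hc, mul_assoc]
    have hyaFt : y * a ∉ F t := by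
      intro h2
      have h3 : t ∈ F (y * a) := h.symm htX hyaX h2
      have h4 : y ∈ F (y * a) := h.symm hyX hyaX hyaF
      exact htF (h.trans hyX hyaX h4 h3 hc.symm)
    obtain ⟨T', hT', hyT', haT'⟩ := exists_sylC_two iy ia hya hc hat
    have h5 := h.outer_mul t htX T' hT' y hyT' a haT' iy ia hya (Ne.symm hay) hyI haI
    exact hyaFt (hcon' t ht _ hyaY hyat.symm h5)
  obtain ⟨w, hw, hwt⟩ := lemmaN hT.two (inf_le_left : T ⊓ F y ≤ T) (h.normF hyX hT) htT it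
    (fun h2 => htF (mem_inf.1 h2).2) huniq (by
      obtain ⟨a, ha, ia, hay⟩ := h.exists_inv_F hyX hT
      exact ⟨a, ha, ia.sq, ia.ne, hay⟩)
  have hty : t * y ∈ Y := hwt ▸ hYc t ht w
  obtain ⟨v, hvK, iv, hvt, k, hkK, hk⟩ := h.zstar y hyX t it hc.symm htF
  have htv : t * v ∈ Y := hk ▸ hYc t ht k
  have hvy : v * y = y * v := h.centK y hyX v hvK
  have htyv : t * (v * y) ∈ Y := by
    have h2 := hYc _ hty k
    have h3 : k * (t * y) * k⁻¹ = t * (v * y) := by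
      calc k * (t * y) * k⁻¹ = (k * t * k⁻¹) * (k * y * k⁻¹) := by group
        _ = t * v * y := by rw [hk, Sys.conj_self (h.centK y hyX k hkK)]
        _ = t * (v * y) := by group
    rwa [h3] at h2
  have hvF : v ∉ F y := fun h2 => h.disj_inv hyX hvK h2 iv
  have hvne : v ≠ y := fun e => hvF (e ▸ h.self y hyX)
  have ivy : Inv (v * y) := iv.mul iy hvy hvne
  -- `v` is not inner at `t`
  have hvI : ¬ Inner K F t v := by
    intro h2
    have h3 : Inner K F t (t * v) := h.inner_mul htX (Sys.inner_of_F (h.self t htX)) h2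
    have h4 := hcon' t ht _ htv (by rw [mul_assoc, ← hvt]) h3
    have h5 : v ∈ F t := by
      have := mul_mem (inv_mem (h.self t htX)) h4
      rwa [inv_mul_cancel_left] at this
    have h6 : v ∈ Y := hYcl t ht v h5 iv
    exact hvF (hcon' y hy v h6 hvy.symm (Sys.inner_of_K hvK))
  have hvyt : v * y * t = t * (v * y) := by rw [mul_assoc, hc, ← mul_assoc, hvt, mul_assoc]
  have hvyI : ¬ Inner K F t (v * y) := by
    intro h2
    have h3 : Inner K F t (t * (v * y)) := h.inner_mul htX (Sys.inner_of_F (h.self t htX)) h2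
    have h4 := hcon' t ht _ htyv (by rw [mul_assoc, hvyt]) h3
    have h5 : v * y ∈ F t := by
      have := mul_mem (inv_mem (h.self t htX)) h4
      rwa [inv_mul_cancel_left] at this
    have h6 : v * y ∈ Y := hYcl t ht _ h5 ivy
    have h7 : v * y ∈ F y := hcon' y hy _ h6 (by rw [← mul_assoc, ← hvy, mul_assoc])
      (h.inner_mul hyX (Sys.inner_of_K hvK) (Sys.inner_of_F (h.self y hyX)))
    have h8 := mul_mem h7 (inv_mem (h.self y hyX))
    rw [mul_inv_cancel_right] at h8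
    exact hvF h8
  obtain ⟨T', hT', hvT', hyT'⟩ := exists_sylC_two iv iy hvy hvt hc
  exact hvyI (h.outer_mul t htX T' hT' v hvT' y hyT' iv iy hvy hvne hvI hyI)

/-- an inner element `t = a b` -/
theorem inner_dec (h : Sys X K F n) {y t : G} (hy : y ∈ X) (it : Inv t) (hin : Inner K F y t) (htF : t ∉ F y) :
    ∃ T, SylC y T ∧ t ∈ T ∧ ∃ a ∈ T ⊓ F y, ∃ b ∈ T ⊓ K y, a * a = 1 ∧ Inv b ∧ t = a * b := by
  have hc := h.inner_comm hy hin
  obtain ⟨T, hT, hle⟩ := exists_sylC (isPGroup_zpowers_of_sq it.sq) (y := y) (by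
    intro x hx
    obtain ⟨m, rfl⟩ := mem_zpowers_iff.1 hx
    exact ((show Commute t y from hc).zpow_left m).eq)
  have htT := hle (mem_zpowers t)
  obtain ⟨a, ha, b, hb, rfl⟩ := h.split y hy T hT t htT hin
  obtain ⟨h1, h2⟩ := h.dec_sq hy hT ha hb it.sq
  refine ⟨T, hT, htT, a, ha, b, hb, h1, ⟨h2, fun e => htF ?_⟩, rfl⟩
  rw [e, mul_one]; exact (mem_inf.1 ha).2

/-- four-groups of `T ∩ F y` containing a given involution -/
theorem exists_VF (h : Sys X K F n) {y : G} {T : Subgroup G} (hy : y ∈ X) (hT : SylC y T) {a : G}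
    (ha : a ∈ T ⊓ F y) : ∃ V : Subgroup G, V ≤ T ⊓ F y ∧ Nat.card V = 4 ∧ (∀ v ∈ V, v * v = 1) ∧ y ∈ V ∧
      (a * a = 1 → a ∈ V) := by
  have iy := h.inv y hy
  have hyT : y ∈ T ⊓ F y := mem_inf.2 ⟨h.mem_T hy hT, h.self y hy⟩
  by_cases hex : a * a = 1 ∧ a ≠ 1 ∧ a ≠ y
  · obtain ⟨h1, h2, h3⟩ := hex
    have hc : y * a = a * y := (h.centF y hy a (mem_inf.1 ha).2).symm
    exact ⟨four y a iy ⟨h1, h2⟩ hc, four_le hyT ha, card_four (Ne.symm h3), four_sq, left_mem_four,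
      fun _ => right_mem_four⟩
  · obtain ⟨b, hb, ib, hby⟩ := h.exists_inv_F hy hT
    have hc : y * b = b * y := (h.centF y hy b (mem_inf.1 hb).2).symm
    refine ⟨four y b iy ib hc, four_le hyT hb, card_four (Ne.symm hby), four_sq, left_mem_four, fun ha2 => ?_⟩
    push Not at hex
    by_cases ha1 : a = 1
    · rw [ha1]; exact one_mem _
    · rw [hex ha2 ha1]; exact left_mem_four

omit [Finite G] in
/-- four-groups of a dihedral group containing a given involution and the centre -/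
theorem exists_UD {D : Subgroup G} {r s : G} (d : Dih n D r s) (hn : 2 ≤ n) (b : G) (hb : b ∈ D) :
    ∃ U : Subgroup G, U ≤ D ∧ Nat.card U = 4 ∧ (∀ u ∈ U, u * u = 1) ∧ r ^ 2 ^ (n - 2) ∈ U ∧
      (b * b = 1 → b ∈ U) := by
  by_cases hex : b * b = 1 ∧ b ≠ 1 ∧ b ≠ r ^ 2 ^ (n - 2)
  · obtain ⟨h1, h2, h3⟩ := hex
    exact ⟨four _ b (d.zInv hn) ⟨h1, h2⟩ (d.z_comm hn hb), four_le d.z_mem hb, card_four (Ne.symm h3), four_sq,
      left_mem_four, fun _ => right_mem_four⟩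
  · refine ⟨four _ s (d.zInv hn) d.sInv (d.z_comm hn d.smem), four_le d.z_mem d.smem, card_four d.z_ne_s,
      four_sq, left_mem_four, fun hb2 => ?_⟩
    push Not at hex
    by_cases hb1 : b = 1
    · rw [hb1]; exact one_mem _
    · rw [hex hb2 hb1]; exact left_mem_four

/-- **Case I** -/
theorem caseI (h : Sys X K F n) (hr : RankFour G) (h1 : AllTOne X K F) (hS : LemS X F) (hne : X.Nonempty) :
    ∃ y ∈ X, ∃ x ∈ K y, Inv x ∧ ∃ g : G, g * y * g⁻¹ = x := by
  obtain ⟨y₀, hy₀⟩ := hne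
  obtain ⟨T₀, hT₀, -⟩ := exists_sylC (y := y₀) (P := ⊥) IsPGroup.of_bot (by
    intro x hx; rw [mem_bot.1 hx, one_mul, mul_one])
  obtain ⟨x₀, hx₀, -, -, ix₀, -⟩ := h.exists_four_K hy₀ hT₀
  let Y : Set G := {t | t ∈ X ∧ ∃ x ∈ K t, Inv x ∧ ∃ g : G, g * x₀ * g⁻¹ = x}
  have hYX : Y ⊆ X := fun t ht => ht.1
  have hall : ∀ t ∈ Y, ∀ x ∈ K t, Inv x → ∃ g : G, g * x₀ * g⁻¹ = x := by
    rintro t ⟨ht, x, hx, ix, g, rfl⟩ x' hx' ix'
    obtain ⟨k, -, rfl⟩ := h.one t ht _ hx _ hx' ix ix'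
    exact ⟨k * g, by group⟩
  have hYc : ∀ y ∈ Y, ∀ g : G, g * y * g⁻¹ ∈ Y := by
    rintro y ⟨hy, x, hx, ix, c, rfl⟩ g
    exact ⟨h.conj y hy g, _, h.conjK y hy g _ hx, ix.conj g, g * c, by group⟩
  have hYcl : ∀ y ∈ Y, ∀ t ∈ F y, Inv t → t ∈ Y := by
    intro y hy t htF it
    have hyX := hYX hy
    have htX := h.closed y hyX t htF it
    have hty : t * y = y * t := h.centF y hyX t htF
    obtain ⟨T, hT, hle⟩ := exists_sylC (isPGroup_zpowers_of_sq it.sq) (y := y) (by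
      intro x hx
      obtain ⟨m, rfl⟩ := mem_zpowers_iff.1 hx
      exact ((show Commute t y from hty).zpow_left m).eq)
    have htT := hle (mem_zpowers t)
    obtain ⟨a, ha, -, -, ia, -⟩ := h.exists_four_K hyX hT
    have hat : a * t = t * a := (h.comm_FK hyX hT (mem_inf.2 ⟨htT, htF⟩) ha).symm
    have haK : a ∈ K t := h.shareK y hyX t htX htF a (h.centK y hyX a (mem_inf.1 ha).2) hat
      (isPGroup_zpowers_of_sq ia.sq) (mem_inf.1 ha).2
    exact ⟨htX, a, haK, ia, hall y hy a (mem_inf.1 ha).2 ia⟩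
  obtain ⟨y, hy, t, ht, hyt, htF⟩ := hS Y hYX ⟨y₀, hy₀, x₀, (mem_inf.1 hx₀).2, ix₀, 1, by group⟩ hYc hYcl
  obtain ⟨y, hy, t, ht, hyt, htF, hin⟩ := inner_pair h hYX hYc hYcl hy ht hyt htF
  have hyX := hYX hy
  obtain ⟨T, hT, htT, a, ha, b, hb, ha2, ib, rfl⟩ := inner_dec h hyX (h.inv t (hYX ht)) hin htF
  have hbY : b ∉ Y → False := by
    intro hbY
    have ha1 : a ≠ 1 := fun e => hbY (by rw [e, one_mul] at ht; exact ht)
    obtain ⟨V, hV, hV4, hV2, hyV, haV⟩ := exists_VF h hyX hT ha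
    obtain ⟨r, s, d⟩ := h.dih y hyX T hT
    obtain ⟨U, hU, hU4, hU2, -, hbU⟩ := exists_UD d h.two_le b hb
    have p : Pair X K F V U y := ⟨hyX, hyV, fun v hv => (mem_inf.1 (hV hv)).2, fun u hu => (mem_inf.1 (hU hu)).2,
      hV4, hU4, hV2, hU2, fun v hv u hu => h.comm_FK hyX hT (hV hv) (hU hu)⟩
    rcases lemmaR h hr h1 p (hYX ht) (mul_mem (mem_sup_left (haV ha2)) (mem_sup_right (hbU ib.sq))) with h2 | h2
    · exact htF (p.VF h2)
    · apply ha1
      apply h.eq_one_FK hyX hT ha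
      have h3 := mul_mem (p.UK h2) (inv_mem (mem_inf.1 hb).2)
      rwa [mul_inv_cancel_right] at h3
  have hbY : b ∈ Y := by
    by_contra hcon
    exact hbY hcon
  obtain ⟨hbX, x, hx, ix, g, hg⟩ := hbY
  obtain ⟨c, hc⟩ := hall y hy b (mem_inf.1 hb).2 ib
  refine ⟨b, hbX, x, hx, ix, g * c⁻¹, ?_⟩
  rw [← hg, ← hc]; group

end Cfsg.Agent.GH.TOne
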