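import Cfsg.Agent.GH.TOne.Elem

/-!
# Lemma P of `blueprints/GH-L2-T1.md` and the rank argument behind it
-/

set_option autoImplicit false

namespace Cfsg.Agent.GH.TOne

open Subgroup
open Cfsg.Agent.TwoFusion.SectionalRank

variable {G : Type*} [Group G]

namespace LemP

/-- `h` commutes with `g` modulo `⟨z⟩` (and with `z`). -/
def cmod (z g : G) (hz : z * z = 1) : Subgroup G where
  carrier := {h | h * z = z * h ∧ (g * h = h * g ∨ g * h = h * g * z)}
  one_mem' := ⟨by rw [one_mul, mul_one], Or.inl (by rw [one_mul, mul_one])⟩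
  mul_mem' := by
    rintro a b ⟨ha, ha'⟩ ⟨hb, hb'⟩
    refine ⟨by rw [mul_assoc, hb, ← mul_assoc, ha, mul_assoc], ?_⟩
    have hza : z * a = a * z := ha.symm
    rcases ha' with ha' | ha' <;> rcases hb' with hb' | hb'
    · left
      rw [← mul_assoc, ha', mul_assoc, hb', ← mul_assoc]
    · right
      rw [← mul_assoc, ha', mul_assoc, hb', ← mul_assoc, ← mul_assoc]
    · right
      calc g * (a * b) = (g * a) * b := by group
        _ = a * g * (z * b) := by rw [ha']; group
        _ = a * (g * b) * z := by rw [← hb]; group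
        _ = a * b * g * z := by rw [hb']; group
    · left
      calc g * (a * b) = (g * a) * b := by group
        _ = a * g * (z * b) := by rw [ha']; group
        _ = a * (g * b) * z := by rw [← hb]; group
        _ = a * b * g * (z * z) := by rw [hb']; group
        _ = a * b * g := by rw [hz, mul_one]
  inv_mem' := by
    rintro a ⟨ha, ha'⟩
    have hza : a⁻¹ * z = z * a⁻¹ := by
      rw [inv_mul_eq_iff_eq_mul, ← mul_assoc, ha]; group
    refine ⟨hza, ?_⟩
    rcases ha' with ha' | ha'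
    · left
      calc g * a⁻¹ = a⁻¹ * (a * g) * a⁻¹ := by group
        _ = a⁻¹ * g := by rw [← ha']; group
    · right
      have h1 : g * a * z = a * g := by
        rw [ha', mul_assoc, hz, mul_one]
      calc g * a⁻¹ = a⁻¹ * (a * g) * a⁻¹ := by group
        _ = a⁻¹ * g * a * (z * a⁻¹) := by rw [← h1]; group
        _ = a⁻¹ * g * z := by rw [← hza]; group

/-- A subgroup generated by elements which commute with each other modulo `⟨z⟩` and square into `⟨z⟩`. -/
theorem elemSection_closure {z : G} (hz : z * z = 1) {S : Set G} (hzS : z ∈ S)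
    (hc : ∀ x ∈ S, x * z = z * x) (hcc : ∀ x ∈ S, ∀ y ∈ S, x * y = y * x ∨ x * y = y * x * z)
    (hsq : ∀ x ∈ S, x * x = 1 ∨ x * x = z) : ElemSection 2 (closure S) (zpowers z) := by
  have hcz : ∀ x ∈ closure S, x * z = z * x := by
    intro x hx
    have h1 : closure S ≤ centralizer {z} := by
      rw [closure_le]
      intro y hy
      exact mem_centralizer_singleton_iff.2 (hc y hy)
    exact mem_centralizer_singleton_iff.1 (h1 hx)
  have h1 : ∀ x ∈ S, ∀ y ∈ closure S, x * y = y * x ∨ x * y = y * x * z := by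
    intro x hx y hy
    have hle : closure S ≤ cmod z x hz := by
      rw [closure_le]
      intro w hw
      exact ⟨hc w hw, hcc x hx w hw⟩
    exact (hle hy).2
  have h2 : ∀ x ∈ closure S, ∀ y ∈ closure S, y * x = x * y ∨ y * x = x * y * z := by
    intro x hx y hy
    have hle : closure S ≤ cmod z y hz := by
      rw [closure_le]
      intro w hw
      refine ⟨hc w hw, ?_⟩
      rcases h1 w hw y hy with h | h
      · left; exact h.symm
      · right
        rw [h, mul_assoc, hz, mul_one]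
    exact (hle hx).2
  have hmz : ∀ x : G, x = 1 ∨ x = z → x ∈ zpowers z := by
    rintro x (rfl | rfl)
    · exact one_mem _
    · exact mem_zpowers _
  have h3 : ∀ x ∈ closure S, x * x = 1 ∨ x * x = z := by
    intro x hx
    induction hx using closure_induction with
    | mem x hx => exact hsq x hx
    | one => left; exact one_mul _
    | mul a b ha hb iha ihb =>
      have hab := h2 a ha b hb
      have e : a * b * (a * b) = a * (b * a) * b := by group
      have hzb : z * b = b * z := (hcz b hb).symm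
      rcases hab with h | h
      · rw [e, h]
        have e2 : a * (a * b) * b = (a * a) * (b * b) := by group
        rw [e2]
        rcases iha with h1 | h1 <;> rcases ihb with h2 | h2 <;> rw [h1, h2] <;> simp [hz]
      · rw [e, h]
        have e2 : a * (a * b * z) * b = (a * a) * (b * b) * z := by
          calc a * (a * b * z) * b = (a * a) * b * (z * b) := by group
            _ = (a * a) * (b * b) * z := by rw [hzb]; group
        rw [e2]
        rcases iha with h1 | h1 <;> rcases ihb with h2 | h2 <;> rw [h1, h2] <;> simp [hz]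
    | inv a ha iha =>
      have e : a⁻¹ * a⁻¹ = (a * a)⁻¹ := by group
      rw [e]
      rcases iha with h1 | h1
      · left; rw [h1, inv_one]
      · right; rw [h1]; exact inv_eq_of_mul_eq_one_left hz
  refine ⟨?_, ?_, ?_⟩
  · rw [zpowers_le]; exact subset_closure hzS
  · intro a ha b hb
    rcases h2 b hb a ha with h | h
    · have : a * b * a⁻¹ * b⁻¹ = 1 := by rw [h]; group
      rw [this]; exact one_mem _
    · have : a * b * a⁻¹ * b⁻¹ = z := by
        rw [h]
        calc b * a * z * a⁻¹ * b⁻¹ = b * (a * z) * a⁻¹ * b⁻¹ := by group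
          _ = (b * z) * a * a⁻¹ * b⁻¹ := by rw [hcz a ha]; group
          _ = z := by rw [hcz b hb]; group
      rw [this]; exact mem_zpowers _
  · intro a ha
    rw [pow_two]
    exact hmz _ (h3 a ha)

theorem two_mul_card_le [Finite G] {Y Z : Subgroup G} (h : Y ≤ Z) {x : G} (hx : x ∈ Z) (hxY : x ∉ Y) :
    2 * Nat.card Y ≤ Nat.card Z := by
  have h1 := relIndex_mul_relIndex ⊥ Y Z bot_le h
  rw [relIndex_bot_left, relIndex_bot_left] at h1
  have h2 : Y.relIndex Z ≠ 1 := by
    intro h3
    rw [relIndex_eq_one] at h3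
    exact hxY (h3 hx)
  have h3 : Y.relIndex Z ≠ 0 := by
    intro h4
    rw [h4, mul_zero] at h1
    exact (Nat.card_pos (α := Z)).ne h1
  rw [← h1, mul_comm]
  exact Nat.mul_le_mul_left _ (by omega)

/-- five independent elements modulo `⟨z⟩` -/
theorem kill_five [Finite G] (hr : RankFour G) {z x₁ x₂ x₃ x₄ x₅ : G} (hz : z * z = 1)
    (hc : ∀ x ∈ ({x₁, x₂, x₃, x₄, x₅} : Set G), x * z = z * x)
    (hcc : ∀ x ∈ ({x₁, x₂, x₃, x₄, x₅} : Set G), ∀ y ∈ ({x₁, x₂, x₃, x₄, x₅} : Set G),
      x * y = y * x ∨ x * y = y * x * z)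
    (hsq : ∀ x ∈ ({x₁, x₂, x₃, x₄, x₅} : Set G), x * x = 1 ∨ x * x = z)
    {H₀ H₁ H₂ H₃ H₄ : Subgroup G} (h₀ : z ∈ H₀) (h₀₁ : H₀ ≤ H₁) (h₁ : x₁ ∈ H₁) (h₁₂ : H₁ ≤ H₂)
    (h₂ : x₂ ∈ H₂) (h₂₃ : H₂ ≤ H₃) (h₃ : x₃ ∈ H₃) (h₃₄ : H₃ ≤ H₄) (h₄ : x₄ ∈ H₄)
    (n₁ : x₁ ∉ H₀) (n₂ : x₂ ∉ H₁) (n₃ : x₃ ∉ H₂) (n₄ : x₄ ∉ H₃) (n₅ : x₅ ∉ H₄) : False := by
  have key : ElemSection 2 (closure (insert z ({x₁, x₂, x₃, x₄, x₅} : Set G))) (zpowers z) := by
    refine elemSection_closure hz (Set.mem_insert _ _) ?_ ?_ ?_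
    · rintro x (rfl | hx)
      · rfl
      · exact hc x hx
    · rintro x (rfl | hx) y (rfl | hy)
      · left; rfl
      · left; exact (hc y hy).symm
      · left; exact hc x hx
      · exact hcc x hx y hy
    · rintro x (rfl | hx)
      · left; exact hz
      · exact hsq x hx
  have h5 := hr _ _ key
  set E := closure (insert z ({x₁, x₂, x₃, x₄, x₅} : Set G)) with hE
  have mz : z ∈ E := subset_closure (Set.mem_insert _ _)
  have m1 : x₁ ∈ E := subset_closure (by simp)
  have m2 : x₂ ∈ E := subset_closure (by simp)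
  have m3 : x₃ ∈ E := subset_closure (by simp)
  have m4 : x₄ ∈ E := subset_closure (by simp)
  have m5 : x₅ ∈ E := subset_closure (by simp)
  have c0 : Nat.card (zpowers z) ≤ Nat.card (H₀ ⊓ E : Subgroup G) :=
    card_le_of_le (zpowers_le.2 ⟨h₀, mz⟩)
  have c1 := two_mul_card_le (inf_le_inf_right E h₀₁) (x := x₁) ⟨h₁, m1⟩ (fun h => n₁ h.1)
  have c2 := two_mul_card_le (inf_le_inf_right E h₁₂) (x := x₂) ⟨h₂, m2⟩ (fun h => n₂ h.1)
  have c3 := two_mul_card_le (inf_le_inf_right E h₂₃) (x := x₃) ⟨h₃, m3⟩ (fun h => n₃ h.1)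
  have c4 := two_mul_card_le (inf_le_inf_right E h₃₄) (x := x₄) ⟨h₄, m4⟩ (fun h => n₄ h.1)
  have c5 := two_mul_card_le (inf_le_right : H₄ ⊓ E ≤ E) (x := x₅) m5 (fun h => n₅ h.1)
  have cp : 0 < Nat.card (zpowers z) := Nat.card_pos
  omega

end LemP

end Cfsg.Agent.GH.TOne
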