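import Cfsg.Agent.GH.TOne.Inst
import Cfsg.Agent.GH.LemmaS

/-!
# The field `LemS` of the T1 theorem from Lemma S
-/

set_option autoImplicit false

namespace Cfsg.Agent.GH.TOne.LemSInst

open Subgroup Cfsg.Agent.GH.XSet Cfsg.Agent.GH.TOne

variable {G : Type*} [Group G] [Finite G]

theorem lemS {X : Set G} [IsSimpleGroup G] (hna : ∃ a b : G, a * b ≠ b * a)
    (h1173 : Cfsg.oddCore G = ⊥ → ∀ (S : Sylow 2 G) (T : Subgroup G),
      Cfsg.IsStronglyClosed T (S : Subgroup G) →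
      ((⨅ n : ℕ, derivedSeries ↥(centralizer (T : Set G)) n).map
        (centralizer (T : Set G)).subtype).Normal)
    (h : XBase X) : LemS X FF := by
  intro Y hYX hne hconj hclosed
  have hb : XBase Y := by
    refine ⟨fun y hy => h.inv y (hYX hy), fun y hy => h.comp y (hYX hy), hconj, ?_⟩
    intro y hy u hu hc hf
    refine hclosed y hy u (mem_FF.2 ⟨hf, hc.eq⟩) ⟨?_, ?_⟩
    · rw [← pow_two, ← hu, pow_orderOf_eq_one]
    · rintro rfl
      rw [orderOf_one] at hu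
      omega
  obtain ⟨y, hy, t, ht, hyt, hf⟩ := Cfsg.Agent.GH.LemmaS.lemmaS hna h1173 hb hne
  exact ⟨y, hy, t, ht, hyt.eq, fun h2 => hf (mem_FF.1 h2).1⟩

end Cfsg.Agent.GH.TOne.LemSInst
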