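import Cfsg.Agent.GH.TOne.Loc

/-!
# Lemma R
-/

set_option autoImplicit false

namespace Cfsg.Agent.GH.TOne

open Subgroup

variable {G : Type*} [Group G]

/-! ### facts on pairs -/

namespace Pair

variable {X : Set G} {K F : G → Subgroup G} {n : ℕ} {V U : Subgroup G} {y : G}

theorem disj (p : Pair X K F V U y) (h : Sys X K F n) : ∀ x ∈ V, x ∈ U → x = 1 := fun x hx hx' =>
  h.disj y p.yX x (p.UK hx') (p.VF hx) (p.eV x hx)

theorem mem (p : Pair X K F V U y) {x : G} : x ∈ V ⊔ U ↔ ∃ v ∈ V, ∃ u ∈ U, x = v * u := mem_sup_comm p.comm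

theorem sq (p : Pair X K F V U y) : ∀ x ∈ V ⊔ U, x * x = 1 := elem_sup p.comm p.eV p.eU

theorem card (p : Pair X K F V U y) (h : Sys X K F n) : Nat.card (V ⊔ U : Subgroup G) = 16 := by
  rw [card_sup_comm p.comm (p.disj h), p.cV, p.cU]

theorem ecomm (p : Pair X K F V U y) {a b : G} (ha : a ∈ V ⊔ U) (hb : b ∈ V ⊔ U) : a * b = b * a :=
  comm_of_sq p.sq ha hb

theorem vX (p : Pair X K F V U y) (h : Sys X K F n) {v : G} (hv : v ∈ V) (hv1 : v ≠ 1) : v ∈ X :=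
  h.closed y p.yX v (p.VF hv) ⟨p.eV v hv, hv1⟩

theorem vF (p : Pair X K F V U y) (h : Sys X K F n) {v v' : G} (hv : v ∈ V) (hv1 : v ≠ 1) (hv' : v' ∈ V) :
    v' ∈ F v :=
  h.share y p.yX v (p.vX h hv hv1) (p.VF hv) v' (comm_of_sq p.eV hv' p.yV) (comm_of_sq p.eV hv' hv) (p.VF hv')

theorem uK (p : Pair X K F V U y) (h : Sys X K F n) {v u : G} (hv : v ∈ V) (hv1 : v ≠ 1) (hu : u ∈ U) :
    u ∈ K v :=
  h.shareK y p.yX v (p.vX h hv hv1) (p.VF hv) u (p.comm y p.yV u hu).symm (p.comm v hv u hu).symm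
    (isPGroup_zpowers_of_sq (p.eU u hu)) (p.UK hu)

theorem change (p : Pair X K F V U y) (h : Sys X K F n) {v : G} (hv : v ∈ V) (hv1 : v ≠ 1) :
    Pair X K F V U v :=
  ⟨p.vX h hv hv1, hv, fun _ hx => p.vF h hv hv1 hx, fun _ hx => p.uK h hv hv1 hx, p.cV, p.cU, p.eV, p.eU, p.comm⟩

/-- `F v ∩ (V × U) = V` -/
theorem mem_V (p : Pair X K F V U y) (h : Sys X K F n) {v x : G} (hv : v ∈ V) (hv1 : v ≠ 1) (hx : x ∈ V ⊔ U)
    (hF : x ∈ F v) : x ∈ V := by
  obtain ⟨v', hv', u, hu, rfl⟩ := p.mem.1 hx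
  have h1 : u ∈ F v := by
    have := mul_mem (inv_mem (p.vF h hv hv1 hv')) hF
    rwa [inv_mul_cancel_left] at this
  have h2 : u = 1 := h.disj v (p.vX h hv hv1) u (p.uK h hv hv1 hu) h1 (p.eU u hu)
  rw [h2, mul_one]; exact hv'

theorem isPGroup_V (p : Pair X K F V U y) : IsPGroup 2 V := by
  rintro ⟨x, hx⟩
  refine ⟨1, Subtype.ext ?_⟩
  rw [pow_one, pow_two]
  exact p.eV x hx

theorem isPGroup (p : Pair X K F V U y) : IsPGroup 2 (V ⊔ U : Subgroup G) := by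
  rintro ⟨x, hx⟩
  refine ⟨1, Subtype.ext ?_⟩
  rw [pow_one, pow_two]
  exact p.sq x hx

/-- the element `ρ_U` -/
theorem rho (p : Pair X K F V U y) (h : Sys X K F n) : ∃ c : G, (∀ v ∈ V, c * v = v * c) ∧
    (∀ u ∈ U, c * u * c⁻¹ ∈ U) ∧ (∀ u ∈ U, u ≠ 1 → u ≠ c * u * c⁻¹) := by
  obtain ⟨a, ha, ha1, -⟩ := exists_ne_of_card_four p.cU 1
  obtain ⟨b, hb, hb1, hba⟩ := exists_ne_of_card_four p.cU a
  have ia : Inv a := ⟨p.eU a ha, ha1⟩
  have ib : Inv b := ⟨p.eU b hb, hb1⟩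
  have hc := comm_of_sq p.eU ha hb
  have hU := eq_four p.cU ia ib hc ha hb hba.symm
  obtain ⟨c, h1, h2, h3⟩ := h.rho y p.yX a (p.UK ha) b (p.UK hb) ia ib hba.symm hc V p.isPGroup_V p.VF
    (fun v hv => ⟨p.comm v hv a ha, p.comm v hv b hb⟩)
  have h4 : c * (a * b) * c⁻¹ = a := by
    calc c * (a * b) * c⁻¹ = (c * a * c⁻¹) * (c * b * c⁻¹) := by group
      _ = b * (a * b) := by rw [h1, h2]
      _ = a := by rw [hc, ← mul_assoc, ib.sq, one_mul]
  refine ⟨c, h3, ?_, ?_⟩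
  · intro u hu
    rw [← hU] at hu ⊢
    rcases hu with rfl | rfl | rfl | rfl
    · rw [mul_one, mul_inv_cancel]; exact one_mem _
    · rw [h1]; exact right_mem_four
    · rw [h2]; exact mul_mem left_mem_four right_mem_four
    · rw [h4]; exact left_mem_four
  · intro u hu hu1
    rw [← hU] at hu
    rcases hu with rfl | rfl | rfl | rfl
    · exact absurd rfl hu1
    · rw [h1]; exact hba.symm
    · rw [h2]; intro e; exact ia.ne (mul_eq_right.1 e.symm)
    · rw [h4]; intro e; exact ib.ne (mul_eq_left.1 e)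

/-- a subgroup of order four of `V × U` invariant under `ρ` is `V` or `U` -/
theorem inv_four (p : Pair X K F V U y) {c : G} (hcV : ∀ v ∈ V, c * v = v * c) (hcU : ∀ u ∈ U, c * u * c⁻¹ ∈ U)
    (hcU' : ∀ u ∈ U, u ≠ 1 → u ≠ c * u * c⁻¹) {M : Subgroup G} (hM : M ≤ V ⊔ U) (hM4 : Nat.card M = 4)
    (hMc : ∀ m ∈ M, c * m * c⁻¹ ∈ M) : M = V ∨ M = U := by
  have hfin : Finite U := Nat.finite_of_card_ne_zero (by rw [p.cU]; norm_num)
  have hfinV : Finite V := Nat.finite_of_card_ne_zero (by rw [p.cV]; norm_num)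
  have hfinM : Finite M := Nat.finite_of_card_ne_zero (by rw [hM4]; norm_num)
  by_cases hex : ∃ m ∈ M, m ∉ V
  · right
    obtain ⟨m, hm, hmV⟩ := hex
    obtain ⟨v, hv, u, hu, rfl⟩ := p.mem.1 (hM hm)
    have hu1 : u ≠ 1 := fun e => hmV (by rw [e, mul_one]; exact hv)
    have h1 : c * (v * u) * c⁻¹ = v * (c * u * c⁻¹) := by
      calc c * (v * u) * c⁻¹ = (c * v) * u * c⁻¹ := by group
        _ = v * (c * u * c⁻¹) := by rw [hcV v hv]; group
    have h2 : u * (c * u * c⁻¹) ∈ M := by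
      have h3 := mul_mem hm (hMc _ hm)
      rw [h1] at h3
      have h4 : v * u * (v * (c * u * c⁻¹)) = u * (c * u * c⁻¹) := by
        calc v * u * (v * (c * u * c⁻¹)) = v * (u * v) * (c * u * c⁻¹) := by group
          _ = (v * v) * u * (c * u * c⁻¹) := by rw [← p.comm v hv u hu]; group
          _ = u * (c * u * c⁻¹) := by rw [p.eV v hv, one_mul]
      rwa [h4] at h3
    set w := u * (c * u * c⁻¹) with hw
    have hwU : w ∈ U := mul_mem hu (hcU u hu)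
    have hw1 : w ≠ 1 := by
      intro e
      apply hcU' u hu hu1
      have := eq_inv_of_mul_eq_one_left e
      rwa [inv_eq_of_sq (p.eU _ (hcU u hu))] at this
    have hw2 : c * w * c⁻¹ ∈ U := hcU w hwU
    have hw3 : c * w * c⁻¹ ≠ 1 := by
      intro e
      apply hw1
      calc w = c⁻¹ * (c * w * c⁻¹) * c := by group
        _ = 1 := by rw [e]; group
    have i1 : Inv w := ⟨p.eU w hwU, hw1⟩
    have i2 : Inv (c * w * c⁻¹) := ⟨p.eU _ hw2, hw3⟩
    have hU := eq_four p.cU i1 i2 (comm_of_sq p.eU hwU hw2) hwU hw2 (hcU' w hwU hw1)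
    have hle : U ≤ M := by
      rw [← hU]
      exact four_le h2 (hMc _ h2)
    exact (eq_of_le_of_card_ge hle (by rw [hM4, p.cU])).symm
  · left
    push Not at hex
    exact eq_of_le_of_card_ge hex (by rw [hM4, p.cV])

/-- a transvection of `V × U` (with axis `E₀` and centre `z`) -/
theorem transv (p : Pair X K F V U y) (h : Sys X K F n) (h1 : AllTOne X K F) {E₀ : Subgroup G} {w z e : G}
    (hz : z ∈ V ⊔ U) (hz1 : z ≠ 1) (he : e ∈ V ⊔ U) (heE : e ∉ E₀) (hw1 : ∀ x ∈ V ⊔ U, x ∈ E₀ → w * x = x * w)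
    (hw2 : ∀ x ∈ V ⊔ U, x ∉ E₀ → w * x * w⁻¹ = x * z) :
    (z ∈ V ∧ U ≤ E₀ ∧ ∀ v ∈ V, v ∈ E₀ → v = 1 ∨ v = z) ∨ (z ∈ U ∧ V ≤ E₀ ∧ ∀ u ∈ U, u ∈ E₀ → u = 1 ∨ u = z) := by
  have hno : ¬ (V ≤ E₀ ∧ U ≤ E₀) := fun hc => heE ((sup_le hc.1 hc.2) he)
  have hnorm : ∀ x ∈ V ⊔ U, w * x * w⁻¹ ∈ V ⊔ U := by
    intro x hx
    by_cases hx0 : x ∈ E₀
    · rw [hw1 x hx hx0]; simpa using hx
    · rw [hw2 x hx hx0]; exact mul_mem hx hz
  obtain ⟨hV, hU⟩ := h1 V U y p w hnorm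
  have hiz : Inv z := ⟨p.sq z hz, hz1⟩
  by_cases hzV : z ∈ V
  · left
    have hUE : U ≤ E₀ := by
      intro u hu
      by_contra hcon
      have h2 := hU u hu
      rw [hw2 u (mem_sup_right hu) hcon] at h2
      have h3 : z ∈ U := by
        have := mul_mem (inv_mem hu) h2
        rwa [inv_mul_cancel_left] at this
      exact hz1 (p.disj h z hzV h3)
    refine ⟨hzV, hUE, fun v hv hvE => ?_⟩
    by_contra hcon
    push Not at hcon
    refine hno ⟨?_, hUE⟩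
    have h2 := eq_four p.cV hiz ⟨p.eV v hv, hcon.1⟩ (comm_of_sq p.eV hzV hv) hzV hv (Ne.symm hcon.2)
    have hzE : z ∈ E₀ := by
      -- otherwise `z` is not centralized by `w`
      by_contra hzE
      have h3 := hw2 z hz hzE
      rw [hiz.sq] at h3
      exact (hiz.conj w).ne h3
    rw [← h2]
    exact four_le hzE hvE
  · right
    have hVE : V ≤ E₀ := by
      intro v hv
      by_contra hcon
      have h2 := hV v hv
      rw [hw2 v (mem_sup_left hv) hcon] at h2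
      apply hzV
      have := mul_mem (inv_mem hv) h2
      rwa [inv_mul_cancel_left] at this
    have hzU : z ∈ U := by
      by_contra hzU
      refine hno ⟨hVE, fun u hu => ?_⟩
      by_contra hcon
      have h2 := hU u hu
      rw [hw2 u (mem_sup_right hu) hcon] at h2
      apply hzU
      have := mul_mem (inv_mem hu) h2
      rwa [inv_mul_cancel_left] at this
    refine ⟨hzU, hVE, fun u hu huE => ?_⟩
    by_contra hcon
    push Not at hcon
    refine hno ⟨hVE, ?_⟩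
    have h2 := eq_four p.cU hiz ⟨p.eU u hu, hcon.1⟩ (comm_of_sq p.eU hzU hu) hzU hu (Ne.symm hcon.2)
    have hzE : z ∈ E₀ := by
      by_contra hzE
      have h3 := hw2 z hz hzE
      rw [hiz.sq] at h3
      exact (hiz.conj w).ne h3
    rw [← h2]
    exact four_le hzE huE

end Pair

/-! ### Lemma R -/

section main

variable {X : Set G} {K F : G → Subgroup G} {n : ℕ} {V U T : Subgroup G} {y t : G}

/-- (R1) -/
def R1 (K F : G → Subgroup G) (V U : Subgroup G) (t : G) : Prop := U ≤ F t ∧ V ≤ K t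

/-- (R2) -/
def R2 (K F : G → Subgroup G) (V U T : Subgroup G) (t : G) : Prop :=
  U ≤ F t ∧ ∃ v₁ ∈ V, Inv v₁ ∧ v₁ ∈ K t ∧ ∃ w ∈ T ⊓ K t, (∀ u ∈ U, w * u = u * w) ∧ w * v₁ = v₁ * w ∧
    ∀ v ∈ V, v ≠ 1 → v ≠ v₁ → w * v * w⁻¹ = v * v₁

/-- (R3) -/
def R3 (K F : G → Subgroup G) (n : ℕ) (V U : Subgroup G) (t : G) : Prop :=
  3 ≤ n ∧ (∀ v ∈ V, v ∈ K t ∨ t * v ∈ K t) ∧ ∀ u ∈ U, u ≠ 1 → u ≠ t → ¬ Inner K F t u

variable [Finite G]

/-- Case 1: everything inner -/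
theorem lemmaR_inner (h : Sys X K F n) (hr : RankFour G) (h1 : AllTOne X K F) (p : Pair X K F V U y)
    (ht : t ∈ X) (htE : t ∈ V ⊔ U) (hT : SylC t T) (hE : V ⊔ U ≤ T) (hin : ∀ x ∈ V ⊔ U, Inner K F t x) :
    t ∈ V ∨ (t ∈ U ∧ R1 K F V U t) := by
  obtain ⟨Q, D, hQ, hD, hQ2, hD2, -, -, hA, -⟩ := h.proj ht hT hE p.sq hin
  have cQ := h.card_F hr ht hT hQ hQ2
  have cD := h.card_K hr ht hT hD hD2
  have hcard : Nat.card Q * Nat.card D ≤ Nat.card (V ⊔ U : Subgroup G) := by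
    rw [p.card h]
    exact Nat.mul_le_mul cQ cD
  obtain ⟨hQE, hDE, hc⟩ := h.proj_le ht hT hQ hD hA hcard
  rw [p.card h] at hc
  have cQ4 : Nat.card Q = 4 := by nlinarith
  have cD4 : Nat.card D = 4 := by rw [cQ4] at hc; omega
  have htQ : t ∈ Q := by
    obtain ⟨q, hq, d, hd, e⟩ := hA t htE
    have h2 : d = 1 := by
      apply h.eq_one_FK ht hT _ (hD hd).2
      have h3 : d = q⁻¹ * t := by rw [e]; group
      rw [h3]
      exact mul_mem (inv_mem (hQ hq)) (mem_inf.2 ⟨h.mem_T ht hT, h.self t ht⟩)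
    rw [e, h2, mul_one]; exact hq
  have p' : Pair X K F Q D t :=
    ⟨ht, htQ, fun q hq => (hQ hq).2, fun d hd => (hD hd).2, cQ4, cD4, hQ2, hD2,
      fun q hq d hd => h.comm_FK ht hT (hQ hq) (hD hd)⟩
  have hsup : Q ⊔ D = V ⊔ U := eq_of_le_of_card_ge (sup_le hQE hDE) (by rw [p.card h, p'.card h])
  obtain ⟨c, hcV, hcU, hcU'⟩ := p.rho h
  have hnorm : ∀ x ∈ V ⊔ U, c * x * c⁻¹ ∈ V ⊔ U := by
    intro x hx
    obtain ⟨v, hv, u, hu, rfl⟩ := p.mem.1 hx
    have : c * (v * u) * c⁻¹ = v * (c * u * c⁻¹) := by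
      calc c * (v * u) * c⁻¹ = (c * v) * u * c⁻¹ := by group
        _ = v * (c * u * c⁻¹) := by rw [hcV v hv]; group
    rw [this]
    exact mul_mem (mem_sup_left hv) (mem_sup_right (hcU u hu))
  obtain ⟨h2, h3⟩ := h1 Q D t p' c (by rw [hsup]; exact hnorm)
  rcases p.inv_four hcV hcU hcU' hQE cQ4 h2 with h4 | h4
  · left; rw [← h4]; exact htQ
  · rcases p.inv_four hcV hcU hcU' hDE cD4 h3 with h5 | h5
    · right
      refine ⟨h4 ▸ htQ, ?_, ?_⟩
      · rw [← h4]; exact fun q hq => (hQ hq).2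
      · rw [← h5]; exact fun d hd => (hD hd).2
    · exfalso
      have h6 : t = 1 := p'.disj h t htQ (by rw [h5, ← h4]; exact htQ)
      exact (h.inv t ht).ne h6

omit [Finite G] in
/-- the subgroup of inner elements has index 2 -/
theorem card_half (h : Sys X K F n) (p : Pair X K F V U y) (ht : t ∈ X) (hT : SylC t T) (hE : V ⊔ U ≤ T) {e : G}
    (he : e ∈ V ⊔ U) (hin : ¬ Inner K F t e) :
    Nat.card ((V ⊔ U : Subgroup G) ⊓ h.inn ht : Subgroup G) = 8 ∧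
      ∀ x ∈ V ⊔ U, ¬ Inner K F t x → Inner K F t (e * x) := by
  have h2 : ∀ x ∈ V ⊔ U, ¬ Inner K F t x → Inner K F t (e * x) := by
    intro x hx hxn
    have he1 : e ≠ 1 := fun e' => hin (by rw [e']; exact Sys.inner_of_F (one_mem _))
    have hx1 : x ≠ 1 := fun e' => hxn (by rw [e']; exact Sys.inner_of_F (one_mem _))
    by_cases hex : e = x
    · rw [← hex, p.sq e he]; exact Sys.inner_of_F (one_mem _)
    · exact h.outer_mul t ht T hT e (hE he) x (hE hx) ⟨p.sq e he, he1⟩ ⟨p.sq x hx, hx1⟩ (p.ecomm he hx) hex hin hxn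
  refine ⟨?_, h2⟩
  set E₀ : Subgroup G := (V ⊔ U : Subgroup G) ⊓ h.inn ht with hE₀
  have hz : ∀ x ∈ zpowers e, x = 1 ∨ x = e := by
    intro x hx
    obtain ⟨m, rfl⟩ := mem_zpowers_iff.1 hx
    rcases Int.even_or_odd' m with ⟨k, rfl | rfl⟩
    · left; rw [zpow_mul, zpow_ofNat, pow_two, p.sq e he, one_zpow]
    · right; rw [zpow_add, zpow_mul, zpow_ofNat, pow_two, p.sq e he, one_zpow, one_mul, zpow_one]
  have hcomm : ∀ a ∈ E₀, ∀ b ∈ zpowers e, a * b = b * a := by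
    intro a ha b hb
    rcases hz b hb with rfl | rfl
    · rw [mul_one, one_mul]
    · exact p.ecomm (mem_inf.1 ha).1 he
  have h3 := card_sup_comm hcomm (by
    intro x hx hx'
    rcases hz x hx' with h4 | rfl
    · exact h4
    · exact absurd (mem_inf.1 hx).2 hin)
  have h4 : E₀ ⊔ zpowers e = V ⊔ U := by
    apply le_antisymm
    · exact sup_le inf_le_left (zpowers_le.2 he)
    · intro x hx
      by_cases hxn : Inner K F t x
      · exact mem_sup_left (mem_inf.2 ⟨hx, hxn⟩)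
      · have h5 := h2 x hx hxn
        have h6 : x = (e * x) * e := by
          rw [mul_assoc, p.ecomm hx he, ← mul_assoc, p.sq e he, one_mul]
        rw [h6]
        exact mul_mem (mem_sup_left (mem_inf.2 ⟨mul_mem he hx, h5⟩)) (mem_sup_right (mem_zpowers e))
  have h5 : Nat.card (zpowers e) = 2 := by
    rw [Nat.card_zpowers]
    refine orderOf_eq_prime (by rw [pow_two]; exact p.sq e he) ?_
    intro e'
    exact hin (by rw [e']; exact Sys.inner_of_F (one_mem _))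
  rw [h4, p.card h, h5] at h3
  omega

/-- Case 2: `e` of d-type -/
theorem lemmaR_dtype (h : Sys X K F n) (hr : RankFour G) (h1 : AllTOne X K F) (p : Pair X K F V U y)
    (ht : t ∈ X) (htE : t ∈ V ⊔ U) (hT : SylC t T) (hE : V ⊔ U ≤ T) {e r s : G} (he : e ∈ V ⊔ U)
    (hin : ¬ Inner K F t e) (hd : DType n (T ⊓ K t) e r s) :
    t ∈ V ∨ (t ∈ U ∧ R2 K F V U T t) := by
  have ie : Inv e := ⟨p.sq e he, fun e' => hin (by rw [e']; exact Sys.inner_of_F (one_mem _))⟩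
  obtain ⟨hc8, hmul⟩ := card_half h p ht hT hE he hin
  obtain ⟨z, iz, hzD, hCD, hze, w, hwD, hwe, hwz⟩ := hd.exists h.two_le ie
  set E₀ : Subgroup G := (V ⊔ U : Subgroup G) ⊓ h.inn ht with hE₀
  have hE₀le : E₀ ≤ V ⊔ U := inf_le_left
  have heE₀ : e ∉ E₀ := fun h2 => hin (mem_inf.1 h2).2
  obtain ⟨Q, D, hQ, hD, hQ2, hD2, -, -, hA, hcm⟩ := h.proj ht hT (hE₀le.trans hE) (fun x hx => p.sq x (hE₀le hx))
    (fun x hx => (mem_inf.1 hx).2)
  obtain ⟨hQe, hDe⟩ := hcm e (hE he) (fun a ha => p.ecomm he (hE₀le ha))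
  have hDz : ∀ d ∈ D, d = 1 ∨ d = z := fun d hd' => hCD d (hD hd') (hDe d hd').symm
  have cD : Nat.card D ≤ 2 := by
    have hle : D ≤ zpowers z := by
      intro d hd'
      rcases hDz d hd' with rfl | rfl
      · exact one_mem _
      · exact mem_zpowers _
    have h2 := card_le_of_le hle
    rwa [Nat.card_zpowers, orderOf_eq_prime (by rw [pow_two]; exact iz.sq) iz.ne] at h2
  have cQ := h.card_F hr ht hT hQ hQ2
  obtain ⟨hQE, hDE, hc⟩ := h.proj_le ht hT hQ hD hA (by rw [hc8]; exact Nat.mul_le_mul cQ cD)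
  rw [hc8] at hc
  have cQ4 : Nat.card Q = 4 := by nlinarith
  have cD2 : Nat.card D = 2 := by rw [cQ4] at hc; omega
  have hzE₀ : z ∈ E₀ := by
    have hfin : Finite D := inferInstance
    have h2 : D ≠ ⊥ := fun h3 => by rw [h3, card_bot] at cD2; omega
    obtain ⟨⟨d, hd'⟩, hd1⟩ := ne_bot_iff_exists_ne_one.1 h2
    rcases hDz d hd' with h3 | h3
    · exact absurd (Subtype.ext h3) hd1
    · exact hDE (h3 ▸ hd')
  -- `w` centralizes `E₀`
  have hw1 : ∀ x ∈ V ⊔ U, x ∈ E₀ → w * x = x * w := by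
    intro x _ hx
    obtain ⟨q, hq, d, hd', rfl⟩ := hA x hx
    have h2 : w * q = q * w := (h.comm_FK ht hT (hQ hq) hwD).symm
    have h3 : w * d = d * w := by
      rcases hDz d hd' with rfl | rfl
      · rw [mul_one, one_mul]
      · exact hwz
    rw [← mul_assoc, h2, mul_assoc, h3, mul_assoc]
  have hw2 : ∀ x ∈ V ⊔ U, x ∉ E₀ → w * x * w⁻¹ = x * z := by
    intro x hx hx0
    have hxn : ¬ Inner K F t x := fun h2 => hx0 (mem_inf.2 ⟨hx, h2⟩)
    have h2 : e * x ∈ E₀ := mem_inf.2 ⟨mul_mem he hx, hmul x hx hxn⟩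
    have h3 : x = e * (e * x) := by rw [← mul_assoc, ie.sq, one_mul]
    have h4 : w * (e * x) * w⁻¹ = e * x := by rw [hw1 _ (hE₀le h2) h2]; group
    calc w * x * w⁻¹ = w * (e * (e * x)) * w⁻¹ := by rw [← h3]
      _ = (w * e * w⁻¹) * (w * (e * x) * w⁻¹) := by group
      _ = e * z * (e * x) := by rw [hwe, h4]
      _ = e * (z * (e * x)) := by group
      _ = e * (e * x * z) := by rw [p.ecomm (hE₀le hzE₀) (mul_mem he hx)]
      _ = e * (e * x) * z := by group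
      _ = x * z := by rw [← h3]
  have hQF : ∀ x ∈ E₀, x ∈ F t → x ∈ Q := by
    intro x hx hxF
    obtain ⟨q, hq, d, hd', e'⟩ := hA x hx
    have h2 : d = 1 := by
      apply h.eq_one_FK ht hT _ (hD hd').2
      have h3 : d = q⁻¹ * x := by rw [e']; group
      rw [h3]
      exact mul_mem (inv_mem (hQ hq)) (mem_inf.2 ⟨hE (hE₀le hx), hxF⟩)
    rw [e', h2, mul_one]; exact hq
  have htE₀ : t ∈ E₀ := mem_inf.2 ⟨htE, Sys.inner_of_F (h.self t ht)⟩
  have htQ : t ∈ Q := hQF t htE₀ (h.self t ht)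
  rcases p.transv h h1 (hE₀le hzE₀) iz.ne he heE₀ hw1 hw2 with ⟨hzV, hUE, hVE⟩ | ⟨hzU, hVE, -⟩
  · obtain ⟨c, hcV, hcU, hcU'⟩ := p.rho h
    have hcE : ∀ x ∈ E₀, c * x * c⁻¹ ∈ E₀ := by
      intro x hx
      obtain ⟨v, hv, u, hu, rfl⟩ := p.mem.1 (hE₀le hx)
      have h2 : c * (v * u) * c⁻¹ = v * (c * u * c⁻¹) := by
        calc c * (v * u) * c⁻¹ = (c * v) * u * c⁻¹ := by group
          _ = v * (c * u * c⁻¹) := by rw [hcV v hv]; group
      rw [h2]
      have h3 : v ∈ E₀ := by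
        have := mul_mem hx (inv_mem (hUE hu))
        rwa [mul_inv_cancel_right] at this
      exact mul_mem h3 (hUE (hcU u hu))
    -- `Q` and its conjugate meet
    have hle : Q.map (MulAut.conj c).toMonoidHom ≤ E₀ := by
      rintro _ ⟨q, hq, rfl⟩
      exact hcE q (hQE hq)
    obtain ⟨x, hxQ, hxQ', hx1⟩ := exists_inf hQE hle (by rw [card_conj, cQ4, hc8]; norm_num)
    rw [mem_map_conj] at hxQ'
    have ix : Inv x := ⟨hQ2 x hxQ, hx1⟩
    have hxX : x ∈ X := h.closed t ht x (mem_inf.1 (hQ hxQ)).2 ix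
    set t' := c * t * c⁻¹ with ht'
    have ht'X : t' ∈ X := h.conj t ht c
    have ht'E : t' ∈ V ⊔ U := hE₀le (hcE t htE₀)
    have hxF' : x ∈ F t' := by
      have h2 := h.conjF t ht c _ (mem_inf.1 (hQ hxQ')).2
      have h3 : c * (c⁻¹ * x * c) * c⁻¹ = x := by group
      rwa [h3] at h2
    have h3 : t ∈ F x := h.symm ht hxX (mem_inf.1 (hQ hxQ)).2
    have h4 : t' ∈ F x := h.symm ht'X hxX hxF'
    have h5 : t' ∈ F t := h.trans ht hxX h3 h4 (p.ecomm ht'E htE)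
    have hcQ : ∀ q ∈ Q, c * q * c⁻¹ ∈ Q := by
      intro q hq
      have h6 := hcE q (hQE hq)
      apply hQF _ h6
      have h7 : c * q * c⁻¹ ∈ F t' := h.conjF t ht c q (mem_inf.1 (hQ hq)).2
      exact (h.share_iff ht ht'X h5 (p.ecomm (hE₀le h6) htE) (p.ecomm (hE₀le h6) ht'E)).2 h7
    rcases p.inv_four hcV hcU hcU' (hQE.trans hE₀le) cQ4 hcQ with h6 | h6
    · left; rw [← h6]; exact htQ
    · right
      refine ⟨h6 ▸ htQ, ?_, z, hzV, iz, (mem_inf.1 hzD).2, w, hwD, ?_, hwz, ?_⟩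
      · rw [← h6]; exact fun q hq => (mem_inf.1 (hQ hq)).2
      · exact fun u hu => hw1 u (mem_sup_right hu) (hUE hu)
      · intro v hv hv1 hvz
        refine hw2 v (mem_sup_left hv) fun h7 => ?_
        rcases hVE v hv h7 with h8 | h8
        · exact hv1 h8
        · exact hvz h8
  · left
    obtain ⟨x, hxV, hxQ, hx1⟩ := exists_inf hVE hQE (by rw [p.cV, cQ4, hc8]; norm_num)
    have ix : Inv x := ⟨hQ2 x hxQ, hx1⟩
    have hxX : x ∈ X := h.closed t ht x (mem_inf.1 (hQ hxQ)).2 ix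
    exact p.mem_V h hxV hx1 htE (h.symm ht hxX (mem_inf.1 (hQ hxQ)).2)

/-- Case 3: `e` of f-type -/
theorem lemmaR_ftype (h : Sys X K F n) (hr : RankFour G) (h1 : AllTOne X K F) (p : Pair X K F V U y)
    (ht : t ∈ X) (htE : t ∈ V ⊔ U) (hT : SylC t T) (hE : V ⊔ U ≤ T) {e : G} (he : e ∈ V ⊔ U)
    (hin : ¬ Inner K F t e) (hf : FType (T ⊓ K t) e) (hn : 3 ≤ n) :
    t ∈ V ∨ (t ∈ U ∧ R3 K F n V U t) := by
  have ie : Inv e := ⟨p.sq e he, fun e' => hin (by rw [e']; exact Sys.inner_of_F (one_mem _))⟩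
  have it := h.inv t ht
  have htT := h.mem_T ht hT
  have htF : t ∈ T ⊓ F t := mem_inf.2 ⟨htT, h.self t ht⟩
  obtain ⟨hc8, hmul⟩ := card_half h p ht hT hE he hin
  set E₀ : Subgroup G := (V ⊔ U : Subgroup G) ⊓ h.inn ht with hE₀
  have hE₀le : E₀ ≤ V ⊔ U := inf_le_left
  have heE₀ : e ∉ E₀ := fun h2 => hin (mem_inf.1 h2).2
  obtain ⟨Q, D, hQ, hD, hQ2, hD2, -, -, hA, hcm⟩ := h.proj ht hT (hE₀le.trans hE) (fun x hx => p.sq x (hE₀le hx))
    (fun x hx => (mem_inf.1 hx).2)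
  obtain ⟨hQe, -⟩ := hcm e (hE he) (fun a ha => p.ecomm he (hE₀le ha))
  have hte : t * e = e * t := p.ecomm htE he
  have huniq : ∀ a ∈ T ⊓ F t, a * e = e * a → a * a = 1 → a = 1 ∨ a = t := by
    intro a ha hae ha2
    by_cases ha1 : a = 1
    · exact Or.inl ha1
    · exact Or.inr (h.ftype_unique hr ht hT ie hin hf ha htF ⟨ha2, ha1⟩ it (h.centF t ht a (mem_inf.1 ha).2) hae hte)
  have hQt : ∀ q ∈ Q, q = 1 ∨ q = t := fun q hq => huniq q (hQ hq) (hQe q hq).symm (hQ2 q hq)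
  have cQ : Nat.card Q ≤ 2 := by
    have hle : Q ≤ zpowers t := by
      intro d hd'
      rcases hQt d hd' with rfl | rfl
      · exact one_mem _
      · exact mem_zpowers _
    have h2 := card_le_of_le hle
    rwa [Nat.card_zpowers, orderOf_eq_prime (by rw [pow_two]; exact it.sq) it.ne] at h2
  have cD := h.card_K hr ht hT hD hD2
  obtain ⟨hQE, hDE, hc⟩ := h.proj_le ht hT hQ hD hA (by rw [hc8]; exact Nat.mul_le_mul cQ cD)
  obtain ⟨w, hwQ, hwe⟩ := lemmaN hT.two (inf_le_left : T ⊓ F t ≤ T) (h.normF ht hT) (hE he) ie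
    (fun h2 => hin (Sys.inner_of_F (mem_inf.1 h2).2)) huniq (by
      obtain ⟨a, ha, ia, hat⟩ := h.exists_inv_F ht hT
      exact ⟨a, ha, ia.sq, ia.ne, hat⟩)
  have hwt : w * t = t * w := h.centF t ht w (mem_inf.1 hwQ).2
  have hw1 : ∀ x ∈ V ⊔ U, x ∈ E₀ → w * x = x * w := by
    intro x _ hx
    obtain ⟨q, hq, d, hd', rfl⟩ := hA x hx
    have h3 : w * d = d * w := h.comm_FK ht hT hwQ (hD hd')
    have h2 : w * q = q * w := by
      rcases hQt q hq with rfl | rfl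
      · rw [mul_one, one_mul]
      · exact hwt
    rw [← mul_assoc, h2, mul_assoc, h3, mul_assoc]
  have hw2 : ∀ x ∈ V ⊔ U, x ∉ E₀ → w * x * w⁻¹ = x * t := by
    intro x hx hx0
    have hxn : ¬ Inner K F t x := fun h2 => hx0 (mem_inf.2 ⟨hx, h2⟩)
    have h2 : e * x ∈ E₀ := mem_inf.2 ⟨mul_mem he hx, hmul x hx hxn⟩
    have h3 : x = e * (e * x) := by rw [← mul_assoc, ie.sq, one_mul]
    have h4 : w * (e * x) * w⁻¹ = e * x := by rw [hw1 _ (hE₀le h2) h2]; group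
    calc w * x * w⁻¹ = w * (e * (e * x)) * w⁻¹ := by rw [← h3]
      _ = (w * e * w⁻¹) * (w * (e * x) * w⁻¹) := by group
      _ = e * t * (e * x) := by rw [hwe, h4]
      _ = e * (t * (e * x)) := by group
      _ = e * (e * x * t) := by rw [p.ecomm htE (mul_mem he hx)]
      _ = e * (e * x) * t := by group
      _ = x * t := by rw [← h3]
  rcases p.transv h h1 htE it.ne he heE₀ hw1 hw2 with ⟨htV, -, -⟩ | ⟨htU, hVE, hUE⟩
  · exact Or.inl htV
  · right
    refine ⟨htU, hn, ?_, ?_⟩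
    · intro v hv
      obtain ⟨q, hq, d, hd', e'⟩ := hA v (hVE hv)
      rcases hQt q hq with h2 | h2
      · left; rw [e', h2, one_mul]; exact (mem_inf.1 (hD hd')).2
      · right; rw [e', h2, ← mul_assoc, it.sq, one_mul]; exact (mem_inf.1 (hD hd')).2
    · intro u hu hu1 hut hin'
      rcases hUE u hu (mem_inf.2 ⟨mem_sup_right hu, hin'⟩) with h2 | h2
      · exact hu1 h2
      · exact hut h2

/-- **Lemma R** -/
theorem lemmaR_full (h : Sys X K F n) (hr : RankFour G) (h1 : AllTOne X K F) (p : Pair X K F V U y)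
    (ht : t ∈ X) (htE : t ∈ V ⊔ U) (hT : SylC t T) (hE : V ⊔ U ≤ T) :
    t ∈ V ∨ (t ∈ U ∧ (R1 K F V U t ∨ R2 K F V U T t ∨ R3 K F n V U t)) := by
  by_cases hin : ∀ x ∈ V ⊔ U, Inner K F t x
  · rcases lemmaR_inner h hr h1 p ht htE hT hE hin with h2 | ⟨h2, h3⟩
    · exact Or.inl h2
    · exact Or.inr ⟨h2, Or.inl h3⟩
  · push Not at hin
    obtain ⟨e, he, hin⟩ := hin
    have ie : Inv e := ⟨p.sq e he, fun e' => hin (by rw [e']; exact Sys.inner_of_F (one_mem _))⟩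
    rcases h.outer_type t ht T hT e (hE he) ie hin with ⟨hf, hn⟩ | ⟨r, s, hd⟩
    · rcases lemmaR_ftype h hr h1 p ht htE hT hE he hin hf hn with h2 | ⟨h2, h3⟩
      · exact Or.inl h2
      · exact Or.inr ⟨h2, Or.inr (Or.inr h3)⟩
    · rcases lemmaR_dtype h hr h1 p ht htE hT hE he hin hd with h2 | ⟨h2, h3⟩
      · exact Or.inl h2
      · exact Or.inr ⟨h2, Or.inr (Or.inl h3)⟩

/-- a Sylow 2-subgroup of `C(t)` containing `V × U` -/
theorem Pair.exists_sylC (p : Pair X K F V U y) (htE : t ∈ V ⊔ U) : ∃ T, SylC t T ∧ V ⊔ U ≤ T :=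
  TOne.exists_sylC p.isPGroup fun _ hx => p.ecomm hx htE

/-- **Lemma R**, first part -/
theorem lemmaR (h : Sys X K F n) (hr : RankFour G) (h1 : AllTOne X K F) (p : Pair X K F V U y)
    (ht : t ∈ X) (htE : t ∈ V ⊔ U) : t ∈ V ∨ t ∈ U := by
  obtain ⟨T, hT, hE⟩ := p.exists_sylC htE
  rcases lemmaR_full h hr h1 p ht htE hT hE with h2 | h2
  · exact Or.inl h2
  · exact Or.inr h2.1

end main

end Cfsg.Agent.GH.TOne
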