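import Cfsg.Agent.GH.TOne.Elem

/-!
# Local facts in a Sylow 2-subgroup `T` of `C(t)`
-/

set_option autoImplicit false

namespace Cfsg.Agent.GH.TOne

open Subgroup

variable {G : Type*} [Group G]

/-! ### dihedral groups -/

namespace Dih

variable {n : ℕ} {D : Subgroup G} {r s : G}

theorem pow_ne (d : Dih n D r s) (hn : 2 ≤ n) {i : ℕ} (hi : i % 2 = 1) : r ^ i ≠ 1 := by
  intro h1
  have h2 : orderOf r ∣ i := orderOf_dvd_of_pow_eq_one h1
  rw [d.ord] at h2
  have h3 : 2 ∣ 2 ^ (n - 1) := dvd_pow_self 2 (by omega)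
  have := h3.trans h2
  omega

/-- the central involution -/
theorem zInv (d : Dih n D r s) (hn : 2 ≤ n) : Inv (r ^ 2 ^ (n - 2)) := by
  refine ⟨?_, ?_⟩
  · rw [← pow_add, ← two_mul, ← pow_succ', show n - 2 + 1 = n - 1 by omega, ← d.ord]
    exact pow_orderOf_eq_one r
  · intro h1
    have h2 := orderOf_dvd_of_pow_eq_one h1
    rw [d.ord] at h2
    have h3 := Nat.le_of_dvd (by positivity) h2
    have h4 : 2 ^ (n - 2) < 2 ^ (n - 1) := Nat.pow_lt_pow_right (by norm_num) (by omega)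
    omega

theorem sInv (d : Dih n D r s) : Inv s := ⟨d.sq, fun e => d.notMem (by rw [e]; exact one_mem _)⟩

theorem s_pow (d : Dih n D r s) (i : ℕ) : s * r ^ i * s = (r ^ i)⁻¹ := by
  have h1 : s * r ^ i * s = (s * r * s) ^ i := by
    induction i with
    | zero => simp [d.sq]
    | succ i ih =>
      rw [pow_succ (s * r * s), ← ih, pow_succ]
      calc s * (r ^ i * r) * s = s * r ^ i * (s * s) * r * s := by rw [d.sq]; group
        _ = s * r ^ i * s * (s * r * s) := by group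
  rw [h1, d.rel, inv_pow]

theorem s_mul_pow (d : Dih n D r s) (i : ℕ) : s * r ^ i = (r ^ i)⁻¹ * s := by
  calc s * r ^ i = s * r ^ i * (s * s) := by rw [d.sq, mul_one]
    _ = (s * r ^ i * s) * s := by group
    _ = (r ^ i)⁻¹ * s := by rw [d.s_pow]

theorem z_s (d : Dih n D r s) (hn : 2 ≤ n) : r ^ 2 ^ (n - 2) * s = s * r ^ 2 ^ (n - 2) := by
  rw [d.s_mul_pow, (d.zInv hn).inv_eq]

theorem z_ne_s (d : Dih n D r s) : r ^ 2 ^ (n - 2) ≠ s := fun e =>
  d.notMem (by rw [← e]; exact npow_mem_zpowers r _)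

theorem z_mem (d : Dih n D r s) : r ^ 2 ^ (n - 2) ∈ D := pow_mem d.rmem _

/-- `z` is central -/
theorem z_comm (d : Dih n D r s) (hn : 2 ≤ n) {x : G} (hx : x ∈ D) : r ^ 2 ^ (n - 2) * x = x * r ^ 2 ^ (n - 2) := by
  obtain ⟨i, rfl | rfl⟩ := d.exh x hx
  · rw [← pow_add, ← pow_add, add_comm]
  · rw [← mul_assoc, ← pow_add, add_comm, pow_add, mul_assoc, d.z_s hn, mul_assoc]

/-- four-groups in `D` -/
theorem exists_four_z (d : Dih n D r s) (hn : 2 ≤ n) :
    ∃ a ∈ D, ∃ b ∈ D, Inv a ∧ Inv b ∧ a ≠ b ∧ a * b = b * a :=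
  ⟨_, d.z_mem, s, d.smem, d.zInv hn, d.sInv, d.z_ne_s, d.z_s hn⟩

end Dih

/-- the outer involution `e` of a dihedral group -/
theorem DType.exists {n : ℕ} {D : Subgroup G} {e r s : G} (d : DType n D e r s) (hn : 2 ≤ n) (he : Inv e) :
    ∃ z, Inv z ∧ z ∈ D ∧ (∀ x ∈ D, x * e = e * x → x = 1 ∨ x = z) ∧ z * e = e * z ∧
      ∃ w ∈ D, w * e * w⁻¹ = e * z ∧ w * z = z * w := by
  have dd := d.dih
  have her : ∀ i : ℕ, e * r ^ i * e = (r ^ i)⁻¹ := by
    intro i
    have h1 : e * r ^ i * e = (e * r * e) ^ i := by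
      induction i with
      | zero => simp [he.sq]
      | succ i ih =>
        rw [pow_succ (e * r * e), ← ih, pow_succ]
        calc e * (r ^ i * r) * e = e * r ^ i * (e * e) * r * e := by rw [he.sq]; group
          _ = e * r ^ i * e * (e * r * e) := by group
    rw [h1, d.er, inv_pow]
  have her' : ∀ i : ℕ, e * r ^ i = (r ^ i)⁻¹ * e := by
    intro i
    calc e * r ^ i = e * r ^ i * (e * e) := by rw [he.sq, mul_one]
      _ = (e * r ^ i * e) * e := by group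
      _ = (r ^ i)⁻¹ * e := by rw [her]
  refine ⟨r ^ 2 ^ (n - 2), dd.zInv hn, dd.z_mem, ?_, ?_, ?_⟩
  · intro x hx hxe
    obtain ⟨i, rfl | rfl⟩ := dd.exh x hx
    · have h1 : r ^ (2 * i) = 1 := by
        rw [her' i] at hxe
        have h2 : r ^ i = (r ^ i)⁻¹ := mul_right_cancel hxe
        rw [two_mul, pow_add]
        nth_rewrite 1 [h2]
        exact inv_mul_cancel _
      have h2 := orderOf_dvd_of_pow_eq_one h1
      rw [dd.ord, show n - 1 = n - 2 + 1 by omega, pow_succ', Nat.mul_dvd_mul_iff_left (by norm_num)] at h2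
      obtain ⟨k, rfl⟩ := h2
      rcases Nat.even_or_odd' k with ⟨m, rfl | rfl⟩
      · left
        rw [show 2 ^ (n - 2) * (2 * m) = (2 ^ (n - 2) + 2 ^ (n - 2)) * m by ring, pow_mul, pow_add,
          (dd.zInv hn).sq, one_pow]
      · right
        rw [show 2 ^ (n - 2) * (2 * m + 1) = (2 ^ (n - 2) + 2 ^ (n - 2)) * m + 2 ^ (n - 2) by ring, pow_add,
          pow_mul, pow_add, (dd.zInv hn).sq, one_pow, one_mul]
    · exfalso
      have h1 : e * (r ^ i * s) * e = r ^ i * s := by rw [← hxe, mul_assoc, he.sq, mul_one]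
      have sr : s * r = r⁻¹ * s := by simpa using dd.s_mul_pow 1
      have h2 : e * (r ^ i * s) * e = (r ^ i)⁻¹ * r⁻¹ * s := by
        calc e * (r ^ i * s) * e = (e * r ^ i * e) * (e * s * e) := by
              have : (e * r ^ i * e) * (e * s * e) = e * r ^ i * (e * e) * s * e := by group
              rw [this, he.sq, mul_one]; group
          _ = (r ^ i)⁻¹ * (r⁻¹ * s) := by rw [her, d.es, sr]
          _ = (r ^ i)⁻¹ * r⁻¹ * s := by group
      have h3 : (r ^ i)⁻¹ * r⁻¹ = r ^ i := mul_right_cancel (h2.symm.trans h1)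
      have h4 : r ^ (2 * i + 1) = 1 := by
        rw [pow_succ, two_mul, pow_add]
        nth_rewrite 1 [← h3]
        group
      exact dd.pow_ne hn (by omega) h4
  · rw [her', (dd.zInv hn).inv_eq]
  · rcases Nat.lt_or_ge 2 n with h3 | h3
    · refine ⟨r ^ 2 ^ (n - 3), pow_mem dd.rmem _, ?_, by rw [← pow_add, ← pow_add, add_comm]⟩
      have h4 : r ^ 2 ^ (n - 3) * r ^ 2 ^ (n - 3) = r ^ 2 ^ (n - 2) := by
        rw [← pow_add, ← two_mul, ← pow_succ', show n - 3 + 1 = n - 2 by omega]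
      have h5 : r ^ 2 ^ (n - 3) * e = e * (r ^ 2 ^ (n - 3))⁻¹ := by
        have := her' (2 ^ (n - 3))
        rw [eq_mul_inv_iff_mul_eq]
        rw [mul_assoc, this]
        group
      rw [h5, mul_assoc, ← mul_inv_rev, h4, (dd.zInv hn).inv_eq]
    · have hn2 : n = 2 := by omega
      subst hn2
      refine ⟨s, dd.smem, ?_, ?_⟩
      · simp only [Nat.sub_self, pow_zero, pow_one]
        have h6 : r * r = 1 := by
          have := (dd.zInv hn).sq
          simpa using this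
        have h7 : s * e = e * (s * r) := by
          calc s * e = (e * e) * s * e := by rw [he.sq, one_mul]
            _ = e * (e * s * e) := by group
            _ = e * (s * r) := by rw [d.es]
        have h8 : s * r = r * s := by
          have := dd.rel
          calc s * r = s * r * (s * s) := by rw [dd.sq, mul_one]
            _ = (s * r * s) * s := by group
            _ = r * s := by rw [this, inv_eq_of_sq h6]
        rw [h7, h8, inv_eq_of_sq dd.sq, mul_assoc, mul_assoc, dd.sq, mul_one]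
      · simpa using (dd.z_s hn).symm

/-! ### `T` Sylow in `C(t)` -/

namespace Sys

variable {X : Set G} {K F : G → Subgroup G} {n : ℕ} (h : Sys X K F n)
include h

section

variable {t : G} {T : Subgroup G}

theorem mem_T [Finite G] (ht : t ∈ X) (hT : SylC t T) : t ∈ T := by
  apply hT.mem_of_normalizes (isPGroup_zpowers_of_sq (h.inv t ht).sq) rfl
  intro x hx
  rw [← hT.cent x hx]
  simpa using hx

theorem normF (ht : t ∈ X) (hT : SylC t T) : ∀ p ∈ T, ∀ q ∈ T ⊓ F t, p * q * p⁻¹ ∈ T ⊓ F t :=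
  fun p hp _ hq => mem_inf.2 ⟨T.mul_mem (T.mul_mem hp (mem_inf.1 hq).1) (T.inv_mem hp),
    h.conjF_self ht (hT.cent p hp) (mem_inf.1 hq).2⟩

theorem normK (ht : t ∈ X) (hT : SylC t T) : ∀ p ∈ T, ∀ q ∈ T ⊓ K t, p * q * p⁻¹ ∈ T ⊓ K t :=
  fun p hp _ hq => mem_inf.2 ⟨T.mul_mem (T.mul_mem hp (mem_inf.1 hq).1) (T.inv_mem hp),
    h.conjK_self ht (hT.cent p hp) (mem_inf.1 hq).2⟩

theorem comm_FK (ht : t ∈ X) (hT : SylC t T) {q d : G} (hq : q ∈ T ⊓ F t) (hd : d ∈ T ⊓ K t) : q * d = d * q :=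
  h.commQD hT.two ht hq.1 hd.1 hq.2 hd.2

theorem eq_one_FK (ht : t ∈ X) (hT : SylC t T) {q : G} (hq : q ∈ T ⊓ F t) (hd : q ∈ K t) : q = 1 :=
  h.disjQD hT.two ht hq.1 hd hq.2

theorem dec_comm (ht : t ∈ X) (hT : SylC t T) {x q d : G} (hx : x ∈ T) (hq : q ∈ T ⊓ F t) (hd : d ∈ T ⊓ K t)
    (hc : x * (q * d) = q * d * x) : x * q = q * x ∧ x * d = d * x := by
  have h1 : q⁻¹ * (x * q * x⁻¹) = d * (x * d * x⁻¹)⁻¹ := by
    have h2 : (x * q * x⁻¹) * (x * d * x⁻¹) = q * d := by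
      calc (x * q * x⁻¹) * (x * d * x⁻¹) = x * (q * d) * x⁻¹ := by group
        _ = q * d := by rw [hc]; group
    rw [eq_mul_inv_iff_mul_eq, mul_assoc, h2]; group
  have h3 : q⁻¹ * (x * q * x⁻¹) = 1 := by
    apply h.eq_one_FK ht hT (mul_mem (inv_mem hq) (h.normF ht hT x hx q hq))
    rw [h1]
    exact (mul_mem hd (inv_mem (h.normK ht hT x hx d hd)) : _ ∈ T ⊓ K t).2
  have h4 : d * (x * d * x⁻¹)⁻¹ = 1 := by rw [← h1, h3]
  constructor
  · have := inv_mul_eq_one.1 h3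
    exact (mul_inv_eq_iff_eq_mul.1 this.symm)
  · have := mul_inv_eq_one.1 h4
    exact (mul_inv_eq_iff_eq_mul.1 this.symm)

theorem dec_sq (ht : t ∈ X) (hT : SylC t T) {q d : G} (hq : q ∈ T ⊓ F t) (hd : d ∈ T ⊓ K t)
    (hc : q * d * (q * d) = 1) : q * q = 1 ∧ d * d = 1 := by
  have h0 := h.comm_FK ht hT hq hd
  have h1 : q * q = (d * d)⁻¹ := by
    rw [eq_inv_iff_mul_eq_one]
    calc q * q * (d * d) = q * (q * d) * d := by group
      _ = q * (d * q) * d := by rw [h0]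
      _ = q * d * (q * d) := by group
      _ = 1 := hc
  have h3 : q * q = 1 := by
    apply h.eq_one_FK ht hT (mul_mem hq hq)
    rw [h1]
    exact (inv_mem (mul_mem hd hd) : _ ∈ T ⊓ K t).2
  refine ⟨h3, ?_⟩
  rw [h3] at h1
  exact (inv_eq_one.1 h1.symm)

theorem exists_four_K (ht : t ∈ X) (hT : SylC t T) :
    ∃ a ∈ T ⊓ K t, ∃ b ∈ T ⊓ K t, Inv a ∧ Inv b ∧ a ≠ b ∧ a * b = b * a := by
  obtain ⟨r, s, d⟩ := h.dih t ht T hT
  exact d.exists_four_z h.two_le

theorem exists_inv_F [Finite G] (ht : t ∈ X) (hT : SylC t T) : ∃ a ∈ T ⊓ F t, Inv a ∧ a ≠ t := by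
  obtain ⟨u, huF, hu, hne⟩ := h.rich t ht
  have hc : u * t = t * u := h.centF t ht u huF
  obtain ⟨T', hT', hle⟩ := exists_sylC (y := t) (P := zpowers u) (isPGroup_zpowers_of_sq hu.sq) (by
    intro x hx
    obtain ⟨m, rfl⟩ := mem_zpowers_iff.1 hx
    exact ((show Commute u t from hc).zpow_left m).eq)
  obtain ⟨c, hc', hcT⟩ := hT'.exists_conj hT
  refine ⟨c * u * c⁻¹, mem_inf.2 ⟨?_, h.conjF_self ht hc' huF⟩, hu.conj c, ?_⟩
  · rw [← hcT, mem_map_conj]
    have := hle (mem_zpowers u)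
    simpa [mul_assoc] using this
  · intro e
    apply hne
    calc u = c⁻¹ * (c * u * c⁻¹) * c := by group
      _ = c⁻¹ * (t * c) := by rw [e]; group
      _ = t := by rw [← hc']; group

/-- `m_2(T ∩ F t) ≤ 2` -/
theorem rank_F [Finite G] (hr : RankFour G) (ht : t ∈ X) (hT : SylC t T) {a b c : G} (ha : a ∈ T ⊓ F t)
    (hb : b ∈ T ⊓ F t) (hc : c ∈ T ⊓ F t) (ia : Inv a) (ib : Inv b) (hab : a * b = b * a) (hne : a ≠ b)
    (hc2 : c * c = 1) (hca : c * a = a * c) (hcb : c * b = b * c) : c ∈ four a b ia ib hab := by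
  by_contra hcon
  obtain ⟨u, hu, v, hv, iu, iv, huv, huv'⟩ := h.exists_four_K ht hT
  have hc1 : c ≠ 1 := fun e => hcon (Or.inl e)
  have hV : four a b ia ib hab ≤ T ⊓ F t := four_le ha hb
  have hU : four u v iu iv huv' ≤ T ⊓ K t := four_le hu hv
  refine no_rank_five hr (V := four a b ia ib hab) (U := four u v iu iv huv') (e := c) (card_four hne)
    (card_four huv) four_sq four_sq ⟨hc2, hc1⟩ (fun x hx y hy => h.comm_FK ht hT (hV hx) (hU hy)) ?_ ?_ ?_ ?_
  · rintro x (rfl | rfl | rfl | rfl)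
    · rw [one_mul, mul_one]
    · exact hca.symm
    · exact hcb.symm
    · rw [mul_assoc, ← hcb, ← mul_assoc, ← hca, mul_assoc]
  · intro x hx
    exact (h.comm_FK ht hT hc (hU hx)).symm
  · intro x hx hx'
    exact h.eq_one_FK ht hT (hV hx) (hU hx').2
  · intro x hx y hy e
    apply hcon
    have h1 : y = 1 := by
      have h2 : y = x⁻¹ * c := by rw [e]; group
      have h3 : y ∈ T ⊓ F t := by rw [h2]; exact mul_mem (inv_mem (hV hx)) hc
      exact h.eq_one_FK ht hT h3 (hU hy).2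
    rw [e, h1, mul_one]
    exact hx

theorem card_F [Finite G] (hr : RankFour G) (ht : t ∈ X) (hT : SylC t T) {A : Subgroup G} (hA : A ≤ T ⊓ F t)
    (hA2 : ∀ a ∈ A, a * a = 1) : Nat.card A ≤ 4 := by
  obtain ⟨u, hu, v, hv, iu, iv, huv, huv'⟩ := h.exists_four_K ht hT
  have hU : four u v iu iv huv' ≤ T ⊓ K t := four_le hu hv
  have hcomm : ∀ a ∈ A, ∀ b ∈ four u v iu iv huv', a * b = b * a := fun a ha b hb =>
    h.comm_FK ht hT (hA ha) (hU hb)
  have h1 := card_sup_comm hcomm (fun x hx hx' => h.eq_one_FK ht hT (hA hx) (hU hx').2)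
  rw [card_four huv] at h1
  have h2 := card_le_of_elem hr (elem_sup hcomm hA2 four_sq)
  omega

theorem card_K [Finite G] (hr : RankFour G) (ht : t ∈ X) (hT : SylC t T) {A : Subgroup G} (hA : A ≤ T ⊓ K t)
    (hA2 : ∀ a ∈ A, a * a = 1) : Nat.card A ≤ 4 := by
  obtain ⟨u, hu, iu, hut⟩ := h.exists_inv_F ht hT
  have ht' : t ∈ T ⊓ F t := ⟨h.mem_T ht hT, h.self t ht⟩
  have hc : t * u = u * t := (h.centF t ht u hu.2).symm
  have hU : four t u (h.inv t ht) iu hc ≤ T ⊓ F t := four_le ht' hu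
  have hcomm : ∀ a ∈ A, ∀ b ∈ four t u (h.inv t ht) iu hc, a * b = b * a := fun a ha b hb =>
    (h.comm_FK ht hT (hU hb) (hA ha)).symm
  have h1 := card_sup_comm hcomm (fun x hx hx' => h.eq_one_FK ht hT (hU hx') (hA hx).2)
  rw [card_four hut.symm] at h1
  have h2 := card_le_of_elem hr (elem_sup hcomm hA2 four_sq)
  omega

/-- an involution `e` of f-type commutes with at most one involution of `T ∩ F t` -/
theorem ftype_unique [Finite G] (hr : RankFour G) (ht : t ∈ X) (hT : SylC t T) {e a b : G} (ie : Inv e)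
    (hin : ¬ Inner K F t e) (hf : FType (T ⊓ K t) e) (ha : a ∈ T ⊓ F t) (hb : b ∈ T ⊓ F t) (ia : Inv a) (ib : Inv b)
    (hab : a * b = b * a) (hae : a * e = e * a) (hbe : b * e = e * b) : a = b := by
  by_contra hne
  obtain ⟨u, hu, v, hv, iu, iv, huv, huv', heu, hev⟩ := hf
  have hV : four a b ia ib hab ≤ T ⊓ F t := four_le ha hb
  have hU : four u v iu iv huv' ≤ T ⊓ K t := four_le hu hv
  refine no_rank_five hr (V := four a b ia ib hab) (U := four u v iu iv huv') (e := e) (card_four hne)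
    (card_four huv) four_sq four_sq ie (fun x hx y hy => h.comm_FK ht hT (hV hx) (hU hy)) ?_ ?_ ?_ ?_
  · rintro x (rfl | rfl | rfl | rfl)
    · rw [one_mul, mul_one]
    · exact hae
    · exact hbe
    · rw [mul_assoc, hbe, ← mul_assoc, hae, mul_assoc]
  · rintro x (rfl | rfl | rfl | rfl)
    · rw [one_mul, mul_one]
    · exact heu.symm
    · exact hev.symm
    · rw [mul_assoc, ← hev, ← mul_assoc, ← heu, mul_assoc]
  · intro x hx hx'
    exact h.eq_one_FK ht hT (hV hx) (hU hx').2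
  · intro x hx y hy e'
    exact hin ⟨x, (hV hx).2, y, (hU hy).2, e'⟩

/-- projections of an elementary abelian subgroup of inner elements -/
theorem proj (ht : t ∈ X) (hT : SylC t T) {A : Subgroup G} (hA : A ≤ T) (hA2 : ∀ a ∈ A, a * a = 1)
    (hin : ∀ a ∈ A, Inner K F t a) :
    ∃ Q D : Subgroup G, Q ≤ T ⊓ F t ∧ D ≤ T ⊓ K t ∧ (∀ q ∈ Q, q * q = 1) ∧ (∀ d ∈ D, d * d = 1) ∧
      (∀ q ∈ Q, ∃ d ∈ D, q * d ∈ A) ∧ (∀ d ∈ D, ∃ q ∈ Q, q * d ∈ A) ∧ (∀ a ∈ A, ∃ q ∈ Q, ∃ d ∈ D, a = q * d) ∧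
      (∀ x ∈ T, (∀ a ∈ A, x * a = a * x) → (∀ q ∈ Q, x * q = q * x) ∧ (∀ d ∈ D, x * d = d * x)) := by
  let Q : Subgroup G :=
    { carrier := {q | q ∈ T ⊓ F t ∧ ∃ d ∈ T ⊓ K t, q * d ∈ A}
      one_mem' := ⟨one_mem _, 1, one_mem _, by rw [one_mul]; exact one_mem _⟩
      mul_mem' := by
        rintro x y ⟨hx, d, hd, hxd⟩ ⟨hy, d', hd', hyd⟩
        refine ⟨mul_mem hx hy, d * d', mul_mem hd hd', ?_⟩
        have : x * y * (d * d') = (x * d) * (y * d') := by
          calc x * y * (d * d') = x * (y * d) * d' := by group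
            _ = x * (d * y) * d' := by rw [h.comm_FK ht hT hy hd]
            _ = (x * d) * (y * d') := by group
        rw [this]; exact mul_mem hxd hyd
      inv_mem' := by
        rintro x ⟨hx, d, hd, hxd⟩
        refine ⟨inv_mem hx, d⁻¹, inv_mem hd, ?_⟩
        have : x⁻¹ * d⁻¹ = (x * d)⁻¹ := by rw [h.comm_FK ht hT hx hd, mul_inv_rev]
        rw [this]; exact inv_mem hxd }
  let D : Subgroup G :=
    { carrier := {d | d ∈ T ⊓ K t ∧ ∃ q ∈ T ⊓ F t, q * d ∈ A}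
      one_mem' := ⟨one_mem _, 1, one_mem _, by rw [one_mul]; exact one_mem _⟩
      mul_mem' := by
        rintro d d' ⟨hd, x, hx, hxd⟩ ⟨hd', y, hy, hyd⟩
        refine ⟨mul_mem hd hd', x * y, mul_mem hx hy, ?_⟩
        have : x * y * (d * d') = (x * d) * (y * d') := by
          calc x * y * (d * d') = x * (y * d) * d' := by group
            _ = x * (d * y) * d' := by rw [h.comm_FK ht hT hy hd]
            _ = (x * d) * (y * d') := by group
        rw [this]; exact mul_mem hxd hyd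
      inv_mem' := by
        rintro d ⟨hd, x, hx, hxd⟩
        refine ⟨inv_mem hd, x⁻¹, inv_mem hx, ?_⟩
        have : x⁻¹ * d⁻¹ = (x * d)⁻¹ := by rw [h.comm_FK ht hT hx hd, mul_inv_rev]
        rw [this]; exact inv_mem hxd }
  refine ⟨Q, D, fun q hq => hq.1, fun d hd => hd.1, ?_, ?_, ?_, ?_, ?_, ?_⟩
  · rintro q ⟨hq, d, hd, hqd⟩
    exact (h.dec_sq ht hT hq hd (hA2 _ hqd)).1
  · rintro d ⟨hd, q, hq, hqd⟩
    exact (h.dec_sq ht hT hq hd (hA2 _ hqd)).2
  · rintro q ⟨hq, d, hd, hqd⟩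
    exact ⟨d, ⟨hd, q, hq, hqd⟩, hqd⟩
  · rintro d ⟨hd, q, hq, hqd⟩
    exact ⟨q, ⟨hq, d, hd, hqd⟩, hqd⟩
  · intro a ha
    obtain ⟨q, hq, d, hd, rfl⟩ := h.split t ht T hT a (hA ha) (hin a ha)
    exact ⟨q, ⟨hq, d, hd, ha⟩, d, ⟨hd, q, hq, ha⟩, rfl⟩
  · intro x hx hxA
    constructor
    · rintro q ⟨hq, d, hd, hqd⟩
      exact (h.dec_comm ht hT hx hq hd (hxA _ hqd)).1
    · rintro d ⟨hd, q, hq, hqd⟩
      exact (h.dec_comm ht hT hx hq hd (hxA _ hqd)).2

/-- if the projections are not larger than `A`, they lie in `A` -/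
theorem proj_le [Finite G] (ht : t ∈ X) (hT : SylC t T) {A Q D : Subgroup G} (hQ : Q ≤ T ⊓ F t) (hD : D ≤ T ⊓ K t)
    (hA : ∀ a ∈ A, ∃ q ∈ Q, ∃ d ∈ D, a = q * d) (hc : Nat.card Q * Nat.card D ≤ Nat.card A) :
    Q ≤ A ∧ D ≤ A ∧ Nat.card Q * Nat.card D = Nat.card A := by
  have hcomm : ∀ q ∈ Q, ∀ d ∈ D, q * d = d * q := fun q hq d hd => h.comm_FK ht hT (hQ hq) (hD hd)
  have h1 := card_sup_comm hcomm (fun x hx hx' => h.eq_one_FK ht hT (hQ hx) (hD hx').2)
  have hle : A ≤ Q ⊔ D := fun a ha => (mem_sup_comm hcomm).2 (hA a ha)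
  have heq : A = Q ⊔ D := eq_of_le_of_card_ge hle (by rw [h1]; exact hc)
  rw [heq]
  exact ⟨le_sup_left, le_sup_right, h1.symm⟩

end

end Sys

end Cfsg.Agent.GH.TOne
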