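import Cfsg.Agent.GH.TOne.Struct
import Mathlib.GroupTheory.Focal

/-!
# Case II, `n ≥ 3`, parts (9) and (10): no fusion from `T - B` to `B`, transfer
-/

set_option autoImplicit false

namespace Cfsg.Agent.GH.TOne.NineTen

open Subgroup
open Cfsg.Agent.GH.TOne
open scoped commutatorElement

variable {G : Type*} [Group G] [Finite G]
variable {X : Set G} {K F : G → Subgroup G} {n : ℕ} {T : Subgroup G} {y z g : G}

/-- The output of (8): `S = T⟨g⟩` is a Sylow 2-subgroup of `G` and `X ∩ S ⊆ D_y ∪ D_z`. -/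
structure Eight (X : Set G) (K : G → Subgroup G) (T : Subgroup G) (y z g : G) (S : Sylow 2 G) : Prop where
  mem : ∀ x, x ∈ S ↔ x ∈ T ∨ g * x ∈ T
  inX : ∀ s ∈ S, s ∈ X → s ∈ T ⊓ K y ∨ s ∈ T ⊓ K z

omit [Finite G] in
theorem innerYZ (c : Cfg X K F n T y z g) {x : G} (hx : x ∈ T) : Inner K F z x ↔ Inner K F y x := by
  rw [c.innerY x hx, c.innerZ x hx]

omit [Finite G] in
theorem norm_inv (c : Cfg X K F n T y z g) {t : G} (ht : t ∈ T) : g⁻¹ * t * g ∈ T := by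
  have h1 := c.norm _ (mul_mem (mul_mem (inv_mem c.gg) ht) c.gg)
  have e : g * ((g * g)⁻¹ * t * (g * g)) * g⁻¹ = g⁻¹ * t * g := by group
  rwa [e] at h1

omit [Finite G] in
theorem KyKz (h : Sys X K F n) (c : Cfg X K F n T y z g) {x : G} (hx : x ∈ T) (h1 : x ∈ K y)
    (h2 : x ∈ K z) : x = 1 :=
  h.disjQD c.sylY.two c.yX hx h1 ((c.FyKz x hx).2 h2)

omit [Finite G] in
/-- an element of `S` commuting with an element of `X ∩ S` lies in `T` and is inner there iff it is inner at `y` -/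
theorem inner_iff (h : Sys X K F n) (c : Cfg X K F n T y z g) {S : Sylow 2 G} (e : Eight X K T y z g S)
    {u β : G} (hu : u ∈ S) (huX : u ∈ X) (hβ : β ∈ S) (hc : β * u = u * β) :
    β ∈ T ∧ (Inner K F u β ↔ Inner K F y β) := by
  have hu1 : u ≠ 1 := (h.inv u huX).ne
  have hT : β ∈ T := by
    rcases (e.mem β).1 hβ with hT | hT
    · exact hT
    · exfalso
      set t := g * β with ht
      have hβ' : β = g⁻¹ * t := by rw [ht]; group
      have hcomm : g⁻¹ * (t * u * t⁻¹) * g = u := by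
        calc g⁻¹ * (t * u * t⁻¹) * g = β * u * β⁻¹ := by rw [hβ']; group
          _ = u := by rw [hc]; group
      have hgy : g⁻¹ * y * g⁻¹⁻¹ = z := by rw [← c.gz]; group
      have hgz : g⁻¹ * z * g⁻¹⁻¹ = y := by rw [← c.gy]; group
      rcases e.inX u hu huX with ⟨huT, huK⟩ | ⟨huT, huK⟩
      · have h1 : t * u * t⁻¹ ∈ K y := h.conjK_self c.yX (c.sylY.cent t hT) huK
        have h2 := h.conjK y c.yX g⁻¹ _ h1
        rw [hgy, _root_.inv_inv, hcomm] at h2
        exact hu1 (KyKz h c huT huK h2)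
      · have h1 : t * u * t⁻¹ ∈ K z := h.conjK_self c.zX (c.sylZ.cent t hT) huK
        have h2 := h.conjK z c.zX g⁻¹ _ h1
        rw [hgz, _root_.inv_inv, hcomm] at h2
        exact hu1 (KyKz h c huT h2 huK)
  refine ⟨hT, ?_⟩
  rcases e.inX u hu huX with ⟨huT, huK⟩ | ⟨huT, huK⟩
  · have hF : u ∈ F z := (c.FzKy u huT).2 huK
    rw [← h.shareI_iff c.zX huX hF (c.sylZ.cent β hT) hc]
    exact innerYZ c hT
  · have hF : u ∈ F y := (c.FyKz u huT).2 huK
    exact (h.shareI_iff c.yX huX hF (c.sylY.cent β hT) hc).symm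

/-- (9): no outer element of `T` is conjugate to an inner one -/
theorem nine (h : Sys X K F n) (c : Cfg X K F n T y z g) {S : Sylow 2 G} (e : Eight X K T y z g S)
    {σ m : G} (hσ : σ ∈ T) (hσo : ¬ Inner K F y σ) (hm : m * σ * m⁻¹ ∈ T)
    (hmi : Inner K F y (m * σ * m⁻¹)) : False := by
  set β := m * σ * m⁻¹ with hβ
  -- two Sylow 2-subgroups of `C(β)`
  have hyβ : y * β = β * y := (c.sylY.cent β hm).symm
  have hy'β : (m * y * m⁻¹) * β = β * (m * y * m⁻¹) := by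
    have := c.sylY.cent σ hσ
    calc (m * y * m⁻¹) * β = m * (y * σ) * m⁻¹ := by rw [hβ]; group
      _ = m * (σ * y) * m⁻¹ := by rw [this]
      _ = β * (m * y * m⁻¹) := by rw [hβ]; group
  have hyI := h.inv y c.yX
  have hcz : ∀ {a : G}, a * β = β * a → ∀ x ∈ zpowers a, x * β = β * x := by
    intro a ha x hx
    obtain ⟨i, rfl⟩ := mem_zpowers_iff.1 hx
    exact ((Commute.zpow_left (show Commute a β from ha)) i).eq
  obtain ⟨R, hR, hyR⟩ := exists_sylC (isPGroup_zpowers_of_sq hyI.sq) (hcz hyβ)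
  obtain ⟨R', hR', hyR'⟩ := exists_sylC (isPGroup_zpowers_of_sq (hyI.conj m).sq) (hcz hy'β)
  obtain ⟨d, hdβ, hd⟩ := hR'.exists_conj hR
  have h1 : d * (m * y * m⁻¹) * d⁻¹ ∈ R := by
    rw [← hd, mem_map_conj]
    have e1 : d⁻¹ * (d * (m * y * m⁻¹) * d⁻¹) * d = m * y * m⁻¹ := by group
    rw [e1]
    exact hyR' (mem_zpowers _)
  have hβR : β ∈ R := hR.mem_of_normalizes (isPGroup_zpowers_of_mem c.sylY.two hm) rfl (fun t ht => by
    have e1 : β * t * β⁻¹ = t := by rw [← hR.cent t ht]; group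
    rwa [e1])
  obtain ⟨P, hP⟩ := hR.two.exists_le_sylow
  obtain ⟨k, hk⟩ := MulAction.exists_smul_eq G P S
  have hkR : ∀ r ∈ R, k * r * k⁻¹ ∈ S := by
    intro r hr
    rw [← hk]
    exact ⟨r, hP hr, rfl⟩
  set y2 := (d * m) * y * (d * m)⁻¹ with hy2
  have h1' : y2 ∈ R := by
    have e1 : y2 = d * (m * y * m⁻¹) * d⁻¹ := by rw [hy2]; group
    rw [e1]; exact h1
  have hβ2 : (d * m) * σ * (d * m)⁻¹ = β := by
    calc (d * m) * σ * (d * m)⁻¹ = d * β * d⁻¹ := by rw [hβ]; group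
      _ = β := by rw [hdβ]; group
  have hyR2 : y ∈ R := hyR (mem_zpowers _)
  have hc1 : ∀ r ∈ R, (k * β * k⁻¹) * (k * r * k⁻¹) = (k * r * k⁻¹) * (k * β * k⁻¹) := by
    intro r hr
    calc (k * β * k⁻¹) * (k * r * k⁻¹) = k * (β * r) * k⁻¹ := by group
      _ = k * (r * β) * k⁻¹ := by rw [hR.cent r hr]
      _ = (k * r * k⁻¹) * (k * β * k⁻¹) := by group
  have hy2X : y2 ∈ X := h.conj y c.yX _
  obtain ⟨hβT, i1⟩ := inner_iff h c e (hkR y hyR2) (h.conj y c.yX k) (hkR β hβR) (hc1 y hyR2)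
  obtain ⟨-, i2⟩ := inner_iff h c e (hkR y2 h1') (h.conj y2 hy2X k) (hkR β hβR) (hc1 y2 h1')
  rw [h.inner_conj_iff c.yX] at i1
  rw [h.inner_conj_iff hy2X] at i2
  have h3 : Inner K F y2 β := i2.2 (i1.1 hmi)
  rw [← hβ2, hy2, h.inner_conj_iff c.yX] at h3
  exact hσo h3

omit [Finite G] in
/-- squares of elements of `S - T` are outer -/
theorem sq_outer (h : Sys X K F n) (c : Cfg X K F n T y z g) {s : G} (hsn : ∀ t ∈ T, s * t * s⁻¹ ∈ T)
    (hs : s * y * s⁻¹ = z) (hss : s * s ∈ T) : ¬ Inner K F y (s * s) := by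
  intro hi
  obtain ⟨a, ha, b, hb, hab⟩ := (c.innerY _ hss).1 hi
  obtain ⟨r, s0, hd, hr⟩ := c.dihZ
  have hs1 : Inv s0 := ⟨hd.sq, fun h1 => hd.notMem (h1 ▸ one_mem _)⟩
  have hsy : s0 ≠ y := by
    intro h1
    apply hd.notMem
    rw [h1, ← hr]
    exact pow_mem (mem_zpowers r) _
  apply c.parity s hsn hs s0 hd.smem hs1 hsy b hb
  -- `a ∈ T ∩ K y = T ∩ F z` commutes with `T ∩ K z`
  have haz : a ∈ F z := (c.FzKy a ha.1).2 ha.2
  have hm : b * s0 * b⁻¹ ∈ T ⊓ K z := mul_mem (mul_mem hb hd.smem) (inv_mem hb)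
  have h2 : a * (b * s0 * b⁻¹) = (b * s0 * b⁻¹) * a :=
    h.commQD c.sylY.two c.zX ha.1 hm.1 haz hm.2
  calc s * (s * s0 * s⁻¹) * s⁻¹ = (s * s) * s0 * (s * s)⁻¹ := by group
    _ = a * (b * s0 * b⁻¹) * a⁻¹ := by rw [hab]; group
    _ = b * s0 * b⁻¹ := by rw [h2]; group

/-- (10) -/
theorem ten (h : Sys X K F n) (c : Cfg X K F n T y z g) {S : Sylow 2 G} (e : Eight X K T y z g S)
    (hG : commutator G = ⊤) : False := by
  have hgS : g ∈ S := (e.mem g).2 (Or.inr c.gg)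
  have hTS : T ≤ S := fun t ht => (e.mem t).2 (Or.inl ht)
  have hg1 : g ∉ T := by
    intro hg
    have h1 := c.sylY.cent g hg
    have h2 : z = y := by rw [← c.gy, h1]; group
    exact h.disj_inv c.yX c.zK (h2 ▸ h.self y c.yX) (h2 ▸ h.inv y c.yX)
  -- elements of `S - T`
  have hout : ∀ s ∈ S, s ∉ T → (∀ t ∈ T, s * t * s⁻¹ ∈ T) ∧ s * y * s⁻¹ = z ∧ s * s ∈ T := by
    intro s hs hsT
    rcases (e.mem s).1 hs with h1 | h1
    · exact absurd h1 hsT
    · set t := g * s with ht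
      have hs' : s = g⁻¹ * t := by rw [ht]; group
      refine ⟨fun x hx => ?_, ?_, ?_⟩
      · have e1 : s * x * s⁻¹ = g⁻¹ * (t * x * t⁻¹) * g := by rw [hs']; group
        rw [e1]
        exact norm_inv c (mul_mem (mul_mem h1 hx) (inv_mem h1))
      · have e1 : s * y * s⁻¹ = g⁻¹ * (t * y * t⁻¹) * g := by rw [hs']; group
        rw [e1, c.sylY.cent t h1]
        have e2 : g⁻¹ * (y * t * t⁻¹) * g = g⁻¹ * y * g := by group
        rw [e2, ← c.gz]; group
      · have e1 : s * s = (g⁻¹ * t * g) * (g * g)⁻¹ * t := by rw [hs']; group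
        rw [e1]
        exact mul_mem (mul_mem (norm_inv c h1) (inv_mem c.gg)) h1
  -- no fusion from `S - T` into `T`
  have hfus : ∀ s ∈ S, s ∉ T → ∀ m : G, m * s * m⁻¹ ∈ T → False := by
    intro s hs hsT m hm
    obtain ⟨a1, a2, a3⟩ := hout s hs hsT
    have a4 := sq_outer h c a1 a2 a3
    have e1 : m * (s * s) * m⁻¹ = (m * s * m⁻¹) * (m * s * m⁻¹) := by group
    apply nine h c e (σ := s * s) (m := m) a3 a4
    · rw [e1]; exact mul_mem hm hm
    · rw [e1]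
      by_cases hx : Inner K F y (m * s * m⁻¹)
      · exact h.inner_mul c.yX hx hx
      · exact c.mulB _ hm _ hm hx hx
  -- transfer
  have hfoc := Subgroup.commutator_inf_eq_focalSubgroup S
  rw [hG, top_inf_eq] at hfoc
  have hle : focalSubgroup (S : Subgroup G) ≤ T := by
    rw [focalSubgroup_def, closure_le]
    rintro x ⟨hxS, a, haS, u, rfl⟩
    have hb : u * a⁻¹ * u⁻¹ ∈ S := by
      have e1 : u * a⁻¹ * u⁻¹ = a⁻¹ * ⁅a, u⁆ := by rw [commutatorElement_def]; group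
      rw [e1]; exact mul_mem (inv_mem haS) hxS
    have e2 : ⁅a, u⁆ = a * (u * a⁻¹ * u⁻¹) := by rw [commutatorElement_def]; group
    rw [SetLike.mem_coe, e2]
    by_cases haT : a ∈ T
    · by_cases hbT : u * a⁻¹ * u⁻¹ ∈ T
      · exact mul_mem haT hbT
      · exfalso
        apply hfus _ hb hbT u⁻¹
        have e3 : u⁻¹ * (u * a⁻¹ * u⁻¹) * u⁻¹⁻¹ = a⁻¹ := by group
        rw [e3]; exact inv_mem haT
    · by_cases hbT : u * a⁻¹ * u⁻¹ ∈ T
      · exfalso
        exact hfus a⁻¹ (inv_mem haS) (fun h1 => haT (by simpa using inv_mem h1)) u hbT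
      · -- both outside
        have h1 : g * a ∈ T := ((e.mem a).1 haS).resolve_left haT
        have h2 : g * (u * a⁻¹ * u⁻¹) ∈ T := ((e.mem _).1 hb).resolve_left hbT
        have e3 : a * (u * a⁻¹ * u⁻¹) = (g⁻¹ * (g * a) * g) * (g * g)⁻¹ * (g * (u * a⁻¹ * u⁻¹)) := by group
        rw [e3]
        exact mul_mem (mul_mem (norm_inv c h1) (inv_mem c.gg)) h2
  rw [← hfoc] at hle
  exact hg1 (hle hgS)

end Cfsg.Agent.GH.TOne.NineTen
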