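import Cfsg.Agent.GH.TOne.PreDefs
import Cfsg.Agent.GH.TOne.LemPDih
import Cfsg.Agent.GH.TOne.CfgTools

/-!
# Case II, `n ≥ 3`, parts (4)-(6): `Pre → Cfg`
-/

set_option autoImplicit false

namespace Cfsg.Agent.GH.TOne

open Subgroup

variable {G : Type*} [Group G]

/-! ### conjugacy under a subgroup -/

/-- `b` is a `D`-conjugate of `a` -/
def CjD (D : Subgroup G) (a b : G) : Prop := ∃ d ∈ D, b = d * a * d⁻¹

namespace CjD

variable {D D' : Subgroup G} {a b c t : G}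

theorem refl (D : Subgroup G) (a : G) : CjD D a a := ⟨1, one_mem _, by group⟩

theorem symm (h : CjD D a b) : CjD D b a := by
  obtain ⟨d, hd, rfl⟩ := h
  exact ⟨d⁻¹, inv_mem hd, by group⟩

theorem trans (h : CjD D a b) (h' : CjD D b c) : CjD D a c := by
  obtain ⟨d, hd, rfl⟩ := h
  obtain ⟨d', hd', rfl⟩ := h'
  exact ⟨d' * d, mul_mem hd' hd, by group⟩

theorem conj (h : CjD D a b) (hn : ∀ d ∈ D, t * d * t⁻¹ ∈ D') : CjD D' (t * a * t⁻¹) (t * b * t⁻¹) := by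
  obtain ⟨d, hd, rfl⟩ := h
  exact ⟨t * d * t⁻¹, hn d hd, by group⟩

end CjD

namespace Dih

variable {n : ℕ} {D : Subgroup G} {r s : G} (h : Dih n D r s)
include h

theorem refl_of (hn : 2 ≤ n) {x : G} (hx : x ∈ D) (hi : Inv x) (hne : x ≠ cen r n) : ∃ i : ℤ, x = r ^ i * s := by
  obtain ⟨i, hi' | hi'⟩ := h.exh' hx
  · exfalso
    rw [hi'] at hi hne
    rcases h.rot_sq hn hi.sq with h1 | h1
    · exact hi.ne h1
    · exact hne h1
  · exact ⟨i, hi'⟩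

theorem cjD_refl {i j : ℤ} (hij : 2 ∣ j - i) : CjD D (r ^ i * s) (r ^ j * s) := by
  obtain ⟨k, hk⟩ := hij
  refine ⟨r ^ k, h.zpow_mem k, ?_⟩
  have h1 : s * r ^ (-k) = r ^ k * s := by rw [h.s_zpow, neg_neg]
  calc r ^ j * s = r ^ (k + i + k) * s := by congr 2; linarith
    _ = r ^ k * r ^ i * (r ^ k * s) := by rw [zpow_add, zpow_add]; group
    _ = r ^ k * (r ^ i * s) * (r ^ k)⁻¹ := by rw [← h1, zpow_neg]; group

/-- there are at most two classes of noncentral involutions -/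
theorem pre_classes (hn : 2 ≤ n) {a b c : G} (ha : a ∈ D) (ia : Inv a) (ha' : a ≠ cen r n) (hb : b ∈ D) (ib : Inv b)
    (hb' : b ≠ cen r n) (hc : c ∈ D) (ic : Inv c) (hc' : c ≠ cen r n) : CjD D a b ∨ CjD D b c ∨ CjD D a c := by
  obtain ⟨i, rfl⟩ := h.refl_of hn ha ia ha'
  obtain ⟨j, rfl⟩ := h.refl_of hn hb ib hb'
  obtain ⟨k, rfl⟩ := h.refl_of hn hc ic hc'
  by_cases h1 : 2 ∣ j - i
  · exact Or.inl (h.cjD_refl h1)
  · by_cases h2 : 2 ∣ k - j
    · exact Or.inr (Or.inl (h.cjD_refl h2))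
    · exact Or.inr (Or.inr (h.cjD_refl (by omega)))

theorem s_inv' : Inv s := ⟨h.sq, by rintro rfl; exact h.notMem (one_mem _)⟩

theorem s_ne_cen : s ≠ cen r n := by
  intro e
  apply h.notMem
  rw [e, cen_eq]
  exact Subgroup.zpow_mem _ (mem_zpowers r) _

end Dih

/-! ### small group theory -/

theorem exists_lastPow {P D : Subgroup G} (hP : IsPGroup 2 P) {x : G} (hx : x ∈ P) {C : G → Prop} (hC1 : C 1)
    (hC : ¬ C x) : ∃ k : ℕ, ¬ C (x ^ 2 ^ k) ∧ C (x ^ 2 ^ k * x ^ 2 ^ k) := by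
  classical
  obtain ⟨m, hm⟩ := hP ⟨x, hx⟩
  have hm' : x ^ 2 ^ m = 1 := congrArg Subtype.val hm
  have hex : ∃ m, C (x ^ 2 ^ m) := ⟨m, by rw [hm']; exact hC1⟩
  have h1 := Nat.find_spec hex
  have h2 : Nat.find hex ≠ 0 := by
    intro e
    rw [e] at h1
    simp only [pow_zero, pow_one] at h1
    exact hC h1
  obtain ⟨k, hk⟩ := Nat.exists_eq_succ_of_ne_zero h2
  refine ⟨k, Nat.find_min hex (by omega), ?_⟩
  rw [← pow_add, ← two_mul, ← pow_succ', ← Nat.succ_eq_add_one, ← hk]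
  exact h1

/-- `D ∪ p⁻¹ D` -/
def dbl (D : Subgroup G) (p : G) (hn : ∀ d ∈ D, p * d * p⁻¹ ∈ D) (hpp : p * p ∈ D) : Subgroup G where
  carrier := {x | x ∈ D ∨ p * x ∈ D}
  one_mem' := Or.inl (one_mem _)
  mul_mem' := by
    rintro a b (ha | ha) (hb | hb)
    · exact Or.inl (mul_mem ha hb)
    · right
      have := mul_mem (hn a ha) hb
      have e : p * a * p⁻¹ * (p * b) = p * (a * b) := by group
      rwa [e] at this
    · right
      rw [← mul_assoc]; exact mul_mem ha hb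
    · left
      have h1 := hn _ ha
      have h2 := mul_mem h1 hb
      have h3 := mul_mem (inv_mem hpp) h2
      have e : (p * p)⁻¹ * (p * (p * a) * p⁻¹ * (p * b)) = a * b := by group
      rwa [e] at h3
  inv_mem' := by
    rintro a (ha | ha)
    · exact Or.inl (inv_mem ha)
    · right
      have h1 := mul_mem (inv_mem ha) hpp
      have h2 := hn _ h1
      have e : p * ((p * a)⁻¹ * (p * p)) * p⁻¹ = p * a⁻¹ := by group
      rwa [e] at h2

theorem mem_dbl {D : Subgroup G} {p : G} {hn : ∀ d ∈ D, p * d * p⁻¹ ∈ D} {hpp : p * p ∈ D} {x : G} :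
    x ∈ dbl D p hn hpp ↔ x ∈ D ∨ p * x ∈ D := Iff.rfl

theorem exists_odd_pow [Finite G] (g : G) : ∃ m : ℕ, Odd m ∧ IsPGroup 2 (zpowers (g ^ m)) := by
  obtain ⟨k, m, hm, hk⟩ := Nat.exists_eq_two_pow_mul_odd (orderOf_pos g).ne'
  refine ⟨m, hm, ?_⟩
  rintro ⟨y, hy⟩
  obtain ⟨i, rfl⟩ := mem_zpowers_iff.1 hy
  refine ⟨k, Subtype.ext ?_⟩
  simp only [SubmonoidClass.mk_pow, OneMemClass.coe_one]
  rw [← zpow_natCast, ← zpow_mul, mul_comm i, zpow_mul, zpow_natCast, ← pow_mul, mul_comm m, ← hk,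
    pow_orderOf_eq_one, one_zpow]

/-! ### the configuration `Pre` -/

namespace Pre

variable {X : Set G} {K F : G → Subgroup G} {n : ℕ} {T : Subgroup G} {y z g : G}
  (c : Pre X K F n T y z g) (h : Sys X K F n)
include c

theorem yc {t : G} (ht : t ∈ T) : t * y = y * t := c.sylY.cent t ht

theorem zc {t : G} (ht : t ∈ T) : t * z = z * t := c.sylZ.cent t ht

include h

theorem nY {t a : G} (ht : t ∈ T) (ha : a ∈ T ⊓ K y) : t * a * t⁻¹ ∈ T ⊓ K y :=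
  ⟨T.mul_mem (T.mul_mem ht ha.1) (T.inv_mem ht), h.conjK_self c.yX (c.yc ht) ha.2⟩

theorem nZ {t a : G} (ht : t ∈ T) (ha : a ∈ T ⊓ K z) : t * a * t⁻¹ ∈ T ⊓ K z :=
  ⟨T.mul_mem (T.mul_mem ht ha.1) (T.inv_mem ht), h.conjK_self c.zX (c.zc ht) ha.2⟩

theorem gY {a : G} (ha : a ∈ T ⊓ K y) : g * a * g⁻¹ ∈ T ⊓ K z := by
  refine ⟨c.norm a ha.1, ?_⟩
  have := h.conjK y c.yX g a ha.2
  rwa [c.gy] at this

theorem gZ {a : G} (ha : a ∈ T ⊓ K z) : g * a * g⁻¹ ∈ T ⊓ K y := by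
  refine ⟨c.norm a ha.1, ?_⟩
  have := h.conjK z c.zX g a ha.2
  rwa [c.gz] at this

theorem comm_mul {a b : G} (ha : a ∈ T ⊓ K y) (hb : b ∈ T ⊓ K z) : a * b = b * a :=
  (h.commQD c.sylY.two c.yX hb.1 ha.1 (c.KzF b hb.1 hb.2) ha.2).symm

theorem disj {x : G} (ha : x ∈ T ⊓ K y) (hb : x ∈ T ⊓ K z) : x = 1 :=
  h.disjQD c.sylY.two c.yX ha.1 ha.2 (c.KzF x hb.1 hb.2)

variable [Finite G]

theorem yT : y ∈ T :=
  c.sylY.mem_of_normalizes (isPGroup_zpowers_of_sq (h.inv y c.yX).sq) rfl (by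
    intro t ht
    rw [← c.yc ht]; simpa [mul_assoc] using ht)

theorem zT : z ∈ T :=
  c.sylZ.mem_of_normalizes (isPGroup_zpowers_of_sq (h.inv z c.zX).sq) rfl (by
    intro t ht
    rw [← c.zc ht]; simpa [mul_assoc] using ht)

theorem dihY : ∃ r s : G, Dih n (T ⊓ K y) r s ∧ cen r n = z := by
  obtain ⟨r, s, hD⟩ := h.dih y c.yX T c.sylY
  exact ⟨r, s, hD, (hD.eq_cen c.three ⟨c.zT h, c.zK⟩ (h.inv z c.zX) (fun d hd => (c.zc hd.1).symm)).symm⟩

theorem dihZ : ∃ r s : G, Dih n (T ⊓ K z) r s ∧ cen r n = y := by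
  obtain ⟨r, s, hD⟩ := h.dih z c.zX T c.sylZ
  exact ⟨r, s, hD, (hD.eq_cen c.three ⟨c.yT h, c.yK⟩ (h.inv y c.yX) (fun d hd => (c.yc hd.1).symm)).symm⟩

/-- an element of `T` fixing a class of noncentral involutions of `D_y` fixes the classes of `D_z` -/
theorem fixZ {q u a : G} (hq : q ∈ T) (hu : u ∈ T ⊓ K y) (iu : Inv u) (hune : u ≠ z)
    (hqu : CjD (T ⊓ K y) u (q * u * q⁻¹)) (ha : a ∈ T ⊓ K z) (ia : Inv a) (hane : a ≠ y) :
    CjD (T ⊓ K z) a (q * a * q⁻¹) := by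
  obtain ⟨r1, s1, hD1, hr1⟩ := c.dihY h
  obtain ⟨r2, s2, hD2, hr2⟩ := c.dihZ h
  have h3 := c.three
  have hn2 : 2 ≤ n := by omega
  have hq' : q⁻¹ ∈ T := inv_mem hq
  obtain ⟨u1, hu1⟩ : ∃ u1, u1 = g * a * g⁻¹ := ⟨_, rfl⟩
  have hu1D : u1 ∈ T ⊓ K y := hu1 ▸ c.gZ h ha
  have iu1 : Inv u1 := hu1 ▸ ia.conj g
  have hu1ne : u1 ≠ z := by
    intro e
    apply hane
    calc a = g⁻¹ * (g * a * g⁻¹) * g := by group
      _ = g⁻¹ * (g * y * g⁻¹) * g := by rw [← hu1, e, c.gy]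
      _ = y := by group
  have hne : ∀ t ∈ T, ∀ v : G, v ≠ z → t * v * t⁻¹ ≠ z := by
    intro t ht v hv e
    apply hv
    calc v = t⁻¹ * (t * v * t⁻¹) * t := by group
      _ = t⁻¹ * (z * t) := by rw [e]; group
      _ = z := by rw [← c.zc ht]; group
  have hne' : ∀ t ∈ T, ∀ v : G, v ≠ y → t * v * t⁻¹ ≠ y := by
    intro t ht v hv e
    apply hv
    calc v = t⁻¹ * (t * v * t⁻¹) * t := by group
      _ = t⁻¹ * (y * t) := by rw [e]; group
      _ = y := by rw [← c.yc ht]; group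
  -- `q` fixes the class of `u1`
  have key1 : CjD (T ⊓ K y) u u1 → CjD (T ⊓ K y) u1 (q * u1 * q⁻¹) := by
    intro h1
    have h2 := h1.conj (t := q) (D' := T ⊓ K y) (fun d hd => c.nY h hq hd)
    exact (h1.symm.trans hqu).trans h2
  have hqu1 : CjD (T ⊓ K y) u1 (q * u1 * q⁻¹) := by
    rcases hD1.pre_classes hn2 hu iu (by rw [hr1]; exact hune) hu1D iu1 (by rw [hr1]; exact hu1ne)
      (c.nY h hq hu1D) (iu1.conj q) (by rw [hr1]; exact hne q hq u1 hu1ne) with h1 | h1 | h1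
    · exact key1 h1
    · exact h1
    · apply key1
      have h2 := (hqu.symm.trans h1).conj (t := q⁻¹) (D' := T ⊓ K y) (fun d hd => c.nY h hq' hd)
      have e1 : q⁻¹ * (q * u * q⁻¹) * q⁻¹⁻¹ = u := by group
      have e2 : q⁻¹ * (q * u1 * q⁻¹) * q⁻¹⁻¹ = u1 := by group
      rwa [e1, e2] at h2
  -- transport to `D_z` by `g`
  have h4 := hqu1.conj (t := g) (D' := T ⊓ K z) (fun d hd => c.gY h hd)
  obtain ⟨A, hA⟩ : ∃ A, A = g * u1 * g⁻¹ := ⟨_, rfl⟩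
  have hAD : A ∈ T ⊓ K z := hA ▸ c.gY h hu1D
  have iA : Inv A := hA ▸ iu1.conj g
  have hAne : A ≠ y := by
    intro e
    apply hu1ne
    calc u1 = g⁻¹ * (g * u1 * g⁻¹) * g := by group
      _ = g⁻¹ * (g * z * g⁻¹) * g := by rw [← hA, e, c.gz]
      _ = z := by group
  rw [← hA] at h4
  have par1 : ¬ CjD (T ⊓ K z) a A := by
    rintro ⟨d, hd, e⟩
    apply c.parity g c.norm c.gy a ha ia hane d hd
    rw [← e, hA, hu1]
  have par2 : ¬ CjD (T ⊓ K z) a (q * A * q⁻¹) := by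
    intro h5
    have h6 := h5.trans (h4.conj (t := q) (D' := T ⊓ K z) (fun d hd => c.nZ h hq hd))
    obtain ⟨d, hd, e⟩ := h6
    apply c.parity (q * g) ?_ ?_ a ha ia hane d hd
    · rw [← e, hu1]; group
    · intro t ht
      have := mul_mem (mul_mem hq (c.norm t ht)) hq'
      have e : q * (g * t * g⁻¹) * q⁻¹ = q * g * t * (q * g)⁻¹ := by group
      rwa [e] at this
    · calc q * g * y * (q * g)⁻¹ = q * (g * y * g⁻¹) * q⁻¹ := by group
        _ = z := by rw [c.gy, c.zc hq]; group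
  have hqA := c.nZ h hq hAD
  have hqa := c.nZ h hq ha
  rcases hD2.pre_classes hn2 ha ia (by rw [hr2]; exact hane) hAD iA (by rw [hr2]; exact hAne)
    hqa (ia.conj q) (by rw [hr2]; exact hne' q hq a hane) with h5 | h5 | h5
  · exact absurd h5 par1
  · exfalso
    rcases hD2.pre_classes hn2 ha ia (by rw [hr2]; exact hane) hAD iA (by rw [hr2]; exact hAne)
      hqA (iA.conj q) (by rw [hr2]; exact hne' q hq A hAne) with h6 | h6 | h6
    · exact par1 h6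
    · have h7 := (h5.symm.trans h6).conj (t := q⁻¹) (D' := T ⊓ K z) (fun d hd => c.nZ h hq' hd)
      have e1 : q⁻¹ * (q * a * q⁻¹) * q⁻¹⁻¹ = a := by group
      have e2 : q⁻¹ * (q * A * q⁻¹) * q⁻¹⁻¹ = A := by group
      rw [e1, e2] at h7
      exact par1 h7
    · exact par2 h6
  · exact h5

/-- common part of (4) and (5): `p` centralizes `D_y`, `p² ∈ D_z`, `p ∉ D_z`, `D_z⟨p⟩` meets no `D_y`-involution -/
theorem false_of_cent (hr : RankFour G) {p : G} (hp : p ∈ T) (hpD : ∀ x ∈ T ⊓ K y, p * x = x * p)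
    (hpp : p * p ∈ T ⊓ K z) (hpn : ∀ x ∈ T ⊓ K y, ∀ w ∈ T ⊓ K z, p ≠ x * w) : False := by
  obtain ⟨r1, s1, hD1, hr1⟩ := c.dihY h
  obtain ⟨r2, s2, hD2, hr2⟩ := c.dihZ h
  have h3 := c.three
  have hn2 : 2 ≤ n := by omega
  have hs1 := hD1.s_inv'
  have hs2 := hD2.s_inv'
  have hs1z : s1 ≠ z := hr1 ▸ hD1.s_ne_cen
  have hs2y : s2 ≠ y := hr2 ▸ hD2.s_ne_cen
  obtain ⟨d, hd, e⟩ := c.fixZ h hp hD1.smem hs1 hs1z (by
    rw [hpD s1 hD1.smem, mul_inv_cancel_right]; exact CjD.refl _ _) hD2.smem hs2 hs2y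
  obtain ⟨p', hp'⟩ : ∃ p', p' = d⁻¹ * p := ⟨_, rfl⟩
  have hp'T : p' ∈ T := hp' ▸ mul_mem (inv_mem hd.1) hp
  have hp'n : ∀ x ∈ T ⊓ K y, ∀ w ∈ T ⊓ K z, p' ≠ x * w := by
    intro x hx w hw e'
    apply hpn x hx (d * w) (mul_mem hd hw)
    calc p = d * p' := by rw [hp']; group
      _ = (d * x) * w := by rw [e']; group
      _ = x * (d * w) := by rw [← c.comm_mul h hx hd]; group
  have hp'c : ∀ x ∈ T ⊓ K y, p' * x = x * p' := by
    intro x hx
    have h1 := c.comm_mul h hx (inv_mem hd)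
    calc p' * x = d⁻¹ * (p * x) := by rw [hp']; group
      _ = (d⁻¹ * x) * p := by rw [hpD x hx]; group
      _ = x * p' := by rw [← h1, hp']; group
  have hnorm : ∀ x ∈ T ⊓ K z, p' * x * p'⁻¹ ∈ T ⊓ K z := fun x hx => c.nZ h hp'T hx
  have hpp' : p' * p' ∈ T ⊓ K z := by
    have h1 := mul_mem (mul_mem (inv_mem hd) (c.nZ h hp (inv_mem hd))) hpp
    have e' : d⁻¹ * (p * d⁻¹ * p⁻¹) * (p * p) = p' * p' := by rw [hp']; group
    rwa [e'] at h1
  have hps : p' * s2 = s2 * p' := by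
    rw [← mul_inv_eq_iff_eq_mul]
    calc p' * s2 * p'⁻¹ = d⁻¹ * (p * s2 * p⁻¹) * d := by rw [hp']; group
      _ = s2 := by rw [e]; group
  have hzc : z * s1 = s1 * z := by rw [← hr1]; exact (hD1.cen_comm hn2 hD1.smem).symm
  have hzD : z ∈ T ⊓ K y := ⟨c.zT h, c.zK⟩
  have hcomm : ∀ x ∈ T ⊓ K y, ∀ q ∈ dbl (T ⊓ K z) p' hnorm hpp', x * q = q * x := by
    rintro x hx q (hq | hq)
    · exact c.comm_mul h hx hq
    · have h1 := c.comm_mul h hx hq
      have h2 := hp'c x hx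
      have h4 : p'⁻¹ * x = x * p'⁻¹ := (Commute.inv_left (show Commute p' x from h2)).eq
      calc x * q = (x * p'⁻¹) * (p' * q) := by group
        _ = p'⁻¹ * (x * (p' * q)) := by rw [← h4]; group
        _ = q * x := by rw [h1]; group
  have hnot : ∀ x ∈ T ⊓ K y, Inv x → x ∉ dbl (T ⊓ K z) p' hnorm hpp' := by
    rintro x hx ix (h1 | h1)
    · exact ix.ne (c.disj h hx h1)
    · apply hp'n x⁻¹ (inv_mem hx) _ h1
      have h2 := c.comm_mul h (inv_mem hx) h1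
      rw [h2]; group
  have hzi := h.inv z c.zX
  have hzs : z ≠ s1 := fun e => hs1z e.symm
  refine DihP.false_of_fix hr h3 hD2 (Q := dbl (T ⊓ K z) p' hnorm hpp') (fun x hx => Or.inl hx) (p := p')
    (Or.inr hpp') hnorm ?_ hpp' hps hzi hs1 hzs hzc (hcomm z hzD) (hcomm s1 hD1.smem)
    ⟨hnot z hzD hzi, hnot s1 hD1.smem hs1, hnot _ (mul_mem hzD hD1.smem) (hzi.mul hs1 hzc hzs)⟩
  intro h1
  exact hp'n 1 (one_mem _) p' h1 (by rw [one_mul])

/-- (4) `Q_y = D_z` -/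
theorem FyK (hr : RankFour G) {x : G} (hx : x ∈ T) (hxF : x ∈ F y) : x ∈ K z := by
  by_contra hxK
  obtain ⟨k, hk1, hk2⟩ := exists_lastPow (D := T) c.sylY.two hx (C := fun w => w ∈ K z) (one_mem _) hxK
  have hpT : x ^ 2 ^ k ∈ T := pow_mem hx _
  have hpF : x ^ 2 ^ k ∈ F y := pow_mem hxF _
  refine c.false_of_cent h hr hpT (fun w hw => h.commQD c.sylY.two c.yX hpT hw.1 hpF hw.2) ⟨mul_mem hpT hpT, hk2⟩ ?_
  intro u hu w hw e
  have h1 : u ∈ F y := by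
    have : u = x ^ 2 ^ k * w⁻¹ := by rw [e]; group
    rw [this]; exact mul_mem hpF (inv_mem (c.KzF w hw.1 hw.2))
  have h2 : u = 1 := h.disjQD c.sylY.two c.yX hu.1 hu.2 h1
  rw [h2, one_mul] at e
  exact hk1 (e ▸ hw.2)

theorem FzK (hr : RankFour G) {x : G} (hx : x ∈ T) (hxF : x ∈ F z) : x ∈ K y := by
  have hgz' : g⁻¹ * z * g⁻¹⁻¹ = y := by rw [← c.gy]; group
  have h1 := h.conjF z c.zX g⁻¹ x hxF
  rw [hgz'] at h1
  have h2 : g⁻¹ * x * g⁻¹⁻¹ ∈ T := by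
    have h3 : T.map (MulAut.conj g).toMonoidHom ≤ T := by
      rintro _ ⟨t, ht, rfl⟩
      exact c.norm t ht
    have h4 : T.map (MulAut.conj g).toMonoidHom = T := eq_of_le_of_card_ge h3 (card_conj g T).ge
    have h5 := hx
    rw [← h4, mem_map_conj] at h5
    rwa [_root_.inv_inv]
  have h3 := c.FyK h hr h2 h1
  have h4 := h.conjK z c.zX g _ h3
  have e : g * (g⁻¹ * x * g⁻¹⁻¹) * g⁻¹ = x := by group
  rwa [c.gz, e] at h4

theorem innerY (hr : RankFour G) {x : G} (hx : x ∈ T) : Inner K F y x ↔ ∃ a ∈ T ⊓ K y, ∃ b ∈ T ⊓ K z, x = a * b := by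
  constructor
  · intro hi
    obtain ⟨q, hq, d, hd, rfl⟩ := h.split_syl c.yX c.sylY hx hi
    have hq' : q ∈ T ⊓ K z := ⟨hq.1, c.FyK h hr hq.1 hq.2⟩
    exact ⟨d, hd, q, hq', (c.comm_mul h hd hq').symm⟩
  · rintro ⟨a, ha, b, hb, rfl⟩
    exact ⟨b, c.KzF b hb.1 hb.2, a, ha.2, c.comm_mul h ha hb⟩

theorem innerZ (hr : RankFour G) {x : G} (hx : x ∈ T) : Inner K F z x ↔ ∃ a ∈ T ⊓ K y, ∃ b ∈ T ⊓ K z, x = a * b := by
  constructor
  · intro hi
    obtain ⟨q, hq, d, hd, rfl⟩ := h.split_syl c.zX c.sylZ hx hi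
    exact ⟨q, ⟨hq.1, c.FzK h hr hq.1 hq.2⟩, d, hd, rfl⟩
  · rintro ⟨a, ha, b, hb, rfl⟩
    exact ⟨a, c.KyF a ha.1 ha.2, b, hb.2, rfl⟩

/-- (5) elements of `T - B` swap the classes of noncentral involutions of `D_y` -/
theorem swapY (hr : RankFour G) {t a : G} (ht : t ∈ T) (hne : ¬ Inner K F y t) (ha : a ∈ T ⊓ K y) (ia : Inv a)
    (hane : a ≠ z) : ¬ CjD (T ⊓ K y) a (t * a * t⁻¹) := by
  intro hta
  obtain ⟨r1, s1, hD1, hr1⟩ := c.dihY h
  have h3 := c.three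
  have hpow : ∀ k : ℕ, CjD (T ⊓ K y) a (t ^ k * a * (t ^ k)⁻¹) := by
    intro k
    induction k with
    | zero => rw [pow_zero, one_mul, inv_one, mul_one]; exact CjD.refl _ _
    | succ k ih =>
      have h1 := hta.trans (ih.conj (t := t) (D' := T ⊓ K y) (fun d hd => c.nY h ht hd))
      have e : t * (t ^ k * a * (t ^ k)⁻¹) * t⁻¹ = t ^ (k + 1) * a * (t ^ (k + 1))⁻¹ := by
        rw [pow_succ']; group
      rwa [e] at h1
  obtain ⟨k, hk1, hk2⟩ := exists_lastPow (D := T) c.sylY.two ht (C := fun w => Inner K F y w)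
    (Sys.inner_of_F (one_mem _)) hne
  have hpT : t ^ 2 ^ k ∈ T := pow_mem ht _
  obtain ⟨b, hb, hbc, hbF⟩ := h.outer_field h3 y c.yX T c.sylY _ hpT hk1 hk2 ⟨a, ha, ia, by
    by_contra hcon
    push Not at hcon
    apply hane
    rw [← hr1]
    exact hD1.eq_cen h3 ha ia (fun d hd => (hcon d hd).symm), by
    obtain ⟨d, hd, e⟩ := hpow (2 ^ k)
    exact ⟨d, hd, e⟩⟩
  have hpbT : t ^ 2 ^ k * b ∈ T := mul_mem hpT hb.1
  refine c.false_of_cent h hr hpbT hbc ⟨mul_mem hpbT hpbT, c.FyK h hr (mul_mem hpbT hpbT) hbF⟩ ?_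
  intro u hu w hw e
  apply hk1
  rw [c.innerY h hr hpT]
  refine ⟨u * b⁻¹, mul_mem hu (inv_mem hb), w, hw, ?_⟩
  calc t ^ 2 ^ k = (t ^ 2 ^ k * b) * b⁻¹ := by group
    _ = u * (w * b⁻¹) := by rw [e]; group
    _ = u * b⁻¹ * w := by rw [← c.comm_mul h (inv_mem hb) hw]; group

theorem innerG {x : G} (hx : x ∈ T) (hr : RankFour G) : Inner K F y (g * x * g⁻¹) ↔ Inner K F y x := by
  rw [c.innerY h hr (c.norm x hx), ← c.innerZ h hr (c.norm x hx)]
  have := h.inner_conj_iff c.yX g x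
  rwa [c.gy] at this

theorem swapZ (hr : RankFour G) {t a : G} (ht : t ∈ T) (hne : ¬ Inner K F y t) (ha : a ∈ T ⊓ K z) (ia : Inv a)
    (hane : a ≠ y) : ¬ CjD (T ⊓ K z) a (t * a * t⁻¹) := by
  intro hta
  have h1 := hta.conj (t := g) (D' := T ⊓ K y) (fun d hd => c.gZ h hd)
  refine c.swapY h hr (c.norm t ht) (fun e => hne ((c.innerG h ht hr).1 e)) (c.gZ h ha) (ia.conj g) ?_ ?_
  · intro e
    apply hane
    calc a = g⁻¹ * (g * a * g⁻¹) * g := by group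
      _ = g⁻¹ * (g * y * g⁻¹) * g := by rw [e, c.gy]
      _ = y := by group
  · have e : g * t * g⁻¹ * (g * a * g⁻¹) * (g * t * g⁻¹)⁻¹ = g * (t * a * t⁻¹) * g⁻¹ := by group
    rw [e]; exact h1

theorem mulB (hr : RankFour G) {t t' : G} (ht : t ∈ T) (ht' : t' ∈ T) (hne : ¬ Inner K F y t)
    (hne' : ¬ Inner K F y t') : Inner K F y (t * t') := by
  by_contra hcon
  obtain ⟨r1, s1, hD1, hr1⟩ := c.dihY h
  have h3 := c.three
  have hs1 := hD1.s_inv'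
  have hs1z : s1 ≠ z := hr1 ▸ hD1.s_ne_cen
  have hnz : ∀ t ∈ T, ∀ v : G, v ≠ z → t * v * t⁻¹ ≠ z := by
    intro t ht v hv e
    apply hv
    calc v = t⁻¹ * (t * v * t⁻¹) * t := by group
      _ = t⁻¹ * (z * t) := by rw [e]; group
      _ = z := by rw [← c.zc ht]; group
  have e : t * (t' * s1 * t'⁻¹) * t⁻¹ = t * t' * s1 * (t * t')⁻¹ := by group
  have hD := c.nY h ht' hD1.smem
  have hD' := c.nY h ht hD
  have h1 := c.swapY h hr ht' hne' hD1.smem hs1 hs1z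
  have h2 := c.swapY h hr ht hne hD (hs1.conj t') (hnz t' ht' s1 hs1z)
  have h4 := c.swapY h hr (mul_mem ht ht') hcon hD1.smem hs1 hs1z
  rw [← e] at h4
  rcases hD1.pre_classes (by omega) hD1.smem hs1 (by rw [hr1]; exact hs1z) hD (hs1.conj t')
    (by rw [hr1]; exact hnz t' ht' s1 hs1z) hD' ((hs1.conj t').conj t)
    (by rw [hr1]; exact hnz t ht _ (hnz t' ht' s1 hs1z)) with h5 | h5 | h5
  · exact h1 h5
  · exact h2 h5
  · exact h4 h5

theorem not_fType {D : Subgroup G} {e w : G} (hf : FType D e)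
    (hs : ∀ a ∈ D, Inv a → a ≠ w → ¬ CjD D a (e * a * e⁻¹)) : False := by
  obtain ⟨a, ha, b, hb, ia, ib, hab, -, hea, heb⟩ := hf
  by_cases haw : a = w
  · refine hs b hb ib (fun e => hab (haw.trans e.symm)) ?_
    rw [heb, mul_inv_cancel_right]; exact CjD.refl _ _
  · refine hs a ha ia haw ?_
    rw [hea, mul_inv_cancel_right]; exact CjD.refl _ _

/-- **(4)-(6)** -/
theorem exists_cfg (hr : RankFour G) : ∃ g' : G, Cfg X K F n T y z g' := by
  obtain ⟨m, hm, hp⟩ := exists_odd_pow g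
  obtain ⟨r1, s1, hD1, hr1⟩ := c.dihY h
  obtain ⟨r2, s2, hD2, hr2⟩ := c.dihZ h
  have h3 := c.three
  have hnorm : ∀ k : ℕ, ∀ t ∈ T, g ^ k * t * (g ^ k)⁻¹ ∈ T := by
    intro k
    induction k with
    | zero => intro t ht; simpa using ht
    | succ k ih =>
      intro t ht
      have := c.norm _ (ih t ht)
      have e : g * (g ^ k * t * (g ^ k)⁻¹) * g⁻¹ = g ^ (k + 1) * t * (g ^ (k + 1))⁻¹ := by
        rw [pow_succ']; group
      rwa [e] at this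
  have hg2y : (g * g) * y = y * (g * g) := by
    rw [← mul_inv_eq_iff_eq_mul]
    calc g * g * y * (g * g)⁻¹ = g * (g * y * g⁻¹) * g⁻¹ := by group
      _ = y := by rw [c.gy, c.gz]
  have hg2z : (g * g) * z = z * (g * g) := by
    rw [← mul_inv_eq_iff_eq_mul]
    calc g * g * z * (g * g)⁻¹ = g * (g * z * g⁻¹) * g⁻¹ := by group
      _ = z := by rw [c.gz, c.gy]
  obtain ⟨j, hj⟩ := hm
  have hgm : g ^ m = g * (g * g) ^ j := by rw [hj, pow_succ', pow_mul, pow_two]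
  have hgmy : g ^ m * y * (g ^ m)⁻¹ = z := by
    have h1 : (g * g) ^ j * y = y * (g * g) ^ j := ((show Commute (g * g) y from hg2y).pow_left j).eq
    calc g ^ m * y * (g ^ m)⁻¹ = g * ((g * g) ^ j * y) * ((g * g) ^ j)⁻¹ * g⁻¹ := by rw [hgm]; group
      _ = z := by rw [h1, ← c.gy]; group
  have hgmz : g ^ m * z * (g ^ m)⁻¹ = y := by
    have h1 : (g * g) ^ j * z = z * (g * g) ^ j := ((show Commute (g * g) z from hg2z).pow_left j).eq
    calc g ^ m * z * (g ^ m)⁻¹ = g * ((g * g) ^ j * z) * ((g * g) ^ j)⁻¹ * g⁻¹ := by rw [hgm]; group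
      _ = y := by rw [h1, ← c.gz]; group
  obtain ⟨g', hg'⟩ : ∃ g', g' = g ^ m := ⟨_, rfl⟩
  have hn' : ∀ t ∈ T, g' * t * g'⁻¹ ∈ T := hg' ▸ hnorm m
  rw [← hg'] at hp hgmy hgmz
  have hg'c : g' * g' * y = y * (g' * g') := by
    rw [← mul_inv_eq_iff_eq_mul]
    calc g' * g' * y * (g' * g')⁻¹ = g' * (g' * y * g'⁻¹) * g'⁻¹ := by group
      _ = y := by rw [hgmy, hgmz]
  have hgg : g' * g' ∈ T := by
    apply c.sylY.mem_of_normalizes
    · exact isPGroup_zpowers_of_mem hp (mul_mem (mem_zpowers g') (mem_zpowers g'))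
    · exact hg'c
    · intro t ht
      have := hn' _ (hn' t ht)
      have e : g' * (g' * t * g'⁻¹) * g'⁻¹ = g' * g' * t * (g' * g')⁻¹ := by group
      rwa [e] at this
  refine ⟨g', ?_⟩
  exact {
    three := h3
    yX := c.yX
    zX := c.zX
    sylY := c.sylY
    sylZ := c.sylZ
    two := hp
    norm := hn'
    gy := hgmy
    gz := hgmz
    zK := c.zK
    yK := c.yK
    yzX := c.yzX
    FyKz := fun x hx => ⟨fun hF => c.FyK h hr hx hF, fun hK => c.KzF x hx hK⟩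
    FzKy := fun x hx => ⟨fun hF => c.FzK h hr hx hF, fun hK => c.KyF x hx hK⟩
    dihY := ⟨r1, s1, hD1, hr1⟩
    dihZ := ⟨r2, s2, hD2, hr2⟩
    innerY := fun x hx => c.innerY h hr hx
    innerZ := fun x hx => c.innerZ h hr hx
    mulB := fun t ht t' ht' hne hne' => c.mulB h hr ht ht' hne hne'
    parity := c.parity
    swapZ := fun t ht hne a ha ia hane d hd e => c.swapZ h hr ht hne ha ia hane ⟨d, hd, e⟩
    swapY := fun t ht hne a ha ia hane d hd e => c.swapY h hr ht hne ha ia hane ⟨d, hd, e⟩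
    outer := by
      intro e he ie hne
      have hneZ : ¬ Inner K F z e := by rwa [c.innerZ h hr he, ← c.innerY h hr he]
      constructor
      · rcases h.outer_type y c.yX T c.sylY e he ie hne with h1 | h1
        · exact absurd (fun a ha ia hane => c.swapY h hr he hne ha ia hane) (fun hs => c.not_fType h h1.1 hs)
        · exact h1
      · rcases h.outer_type z c.zX T c.sylZ e he ie hneZ with h1 | h1
        · exact absurd (fun a ha ia hane => c.swapZ h hr he hne ha ia hane) (fun hs => c.not_fType h h1.1 hs)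
        · exact h1
    gg := hgg
    ggB := by
      intro hi
      obtain ⟨a, ha, b, hb, e⟩ := (c.innerY h hr hgg).1 hi
      refine c.parity g' hn' hgmy s2 hD2.smem hD2.s_inv' (hr2 ▸ hD2.s_ne_cen) b hb ?_
      calc g' * (g' * s2 * g'⁻¹) * g'⁻¹ = (g' * g') * s2 * (g' * g')⁻¹ := by group
        _ = a * (b * s2 * b⁻¹) * a⁻¹ := by rw [e]; group
        _ = b * s2 * b⁻¹ := by rw [c.comm_mul h ha (mul_mem (mul_mem hb hD2.smem) (inv_mem hb))]; group }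

end Pre

end Cfsg.Agent.GH.TOne
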