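import Cfsg.Agent.GH.TOne.TwoStart

/-!
# GH-L2, `m_2(Q) = 2`, Case II, `n = 2`
-/

set_option autoImplicit false

namespace Cfsg.Agent.GH.TOne

open Subgroup

variable {G : Type*} [Group G]

section

variable {X : Set G} {K F : G → Subgroup G} {n : ℕ} {T : Subgroup G} {y z g : G}

theorem Sys.sq_K_twoC (h : Sys X K F 2) (hy : y ∈ X) (hT : SylC y T) : ∀ x ∈ T ⊓ K y, x * x = 1 := by
  obtain ⟨r, s, hd⟩ := h.dih y hy T hT
  intro x hx
  have hr : r * r = 1 := by
    have := pow_orderOf_eq_one r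
    rw [hd.ord] at this
    simpa [pow_two] using this
  obtain ⟨i, rfl | rfl⟩ := hd.exh' hx
  · rw [← (Commute.refl r).mul_zpow, hr, one_zpow]
  · exact hd.refl_sq i

theorem Sys.card_K_twoC [Finite G] (h : Sys X K F 2) (hr : RankFour G) (hy : y ∈ X) (hT : SylC y T) :
    Nat.card (T ⊓ K y : Subgroup G) = 4 := by
  apply le_antisymm (h.card_K hr hy hT le_rfl (h.sq_K_twoC hy hT))
  obtain ⟨a, ha, b, hb, ia, ib, hab, hc⟩ := h.exists_four_K hy hT
  have h1 := card_four (ha := ia) (hb := ib) (hc := hc) hab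
  rw [← h1]
  exact card_le_of_le (four_le ha hb)

namespace StartC

/-- moving `four`s -/
theorem conj_four {k a b a' b' : G} {ia : Inv a} {ib : Inv b} {hc : a * b = b * a} {ia' : Inv a'} {ib' : Inv b'}
    {hc' : a' * b' = b' * a'} (h1 : k * a * k⁻¹ = a') (h2 : k * b * k⁻¹ = b') {x : G} (hx : x ∈ four a b ia ib hc) :
    k * x * k⁻¹ ∈ four a' b' ia' ib' hc' := by
  rcases hx with rfl | rfl | rfl | rfl
  · rw [mul_one, mul_inv_cancel]; exact one_mem _
  · rw [h1]; exact left_mem_four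
  · rw [h2]; exact right_mem_four
  · have : k * (a * b) * k⁻¹ = (k * a * k⁻¹) * (k * b * k⁻¹) := by group
    rw [this, h1, h2]
    exact mul_mem left_mem_four right_mem_four

/-- no element swaps `V` and `U` -/
theorem no_swap [Finite G] (h : Sys X K F n) (c : StartC X K F T y z g) (h1 : AllTOne X K F) {a u k : G}
    (ha : a ∈ T ⊓ F y) (ia : Inv a) (hay : a ≠ y) (hu : u ∈ T ⊓ K y) (iu : Inv u) (huz : u ≠ z)
    (k1 : k * y * k⁻¹ = z) (k2 : k * z * k⁻¹ = y) (k3 : k * a * k⁻¹ = u) (k4 : k * u * k⁻¹ = a) : False := by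
  have hzD : z ∈ T ⊓ K y := ⟨StartC.zT h c, c.zK⟩
  have p := StartC.pairY h c ha ia hay hzD hu (StartC.iz h c) iu huz.symm (StartC.zc h c hu.1).symm
  have h2 := h1 _ _ _ p k (by
    intro x hx
    obtain ⟨v, hv, w, hw, rfl⟩ := p.mem.1 hx
    have : k * (v * w) * k⁻¹ = (k * v * k⁻¹) * (k * w * k⁻¹) := by group
    rw [this]
    exact mul_mem (mem_sup_right (conj_four k1 k3 hv)) (mem_sup_left (conj_four k2 k4 hw)))
  have h3 := h2.1 y left_mem_four
  rw [k1] at h3
  exact StartC.zFy h c (p.VF h3)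

/-- **Case II, `n = 2`, is impossible.** -/
theorem dead_two [Finite G] (h : Sys X K F 2) (hr : RankFour G) (h1 : AllTOne X K F)
    (c : StartC X K F T y z g) : False := by
  have hDy := h.sq_K_twoC c.yX c.sylY
  have hDz := h.sq_K_twoC c.zX c.sylZ
  have cDy := h.card_K_twoC hr c.yX c.sylY
  have cDz := h.card_K_twoC hr c.zX c.sylZ
  have hyT := StartC.yT h c
  have hzT := StartC.zT h c
  have iy := StartC.iy h c
  have iz := StartC.iz h c
  -- `D_z ≤ F y`
  have key : ∀ x ∈ T ⊓ K z, x ∈ F y := by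
    obtain ⟨a, ha, ia, hay⟩ := h.exists_inv_F c.yX c.sylY
    set V := four y a iy ia (StartC.yc h c ha.1).symm with hV
    have hVF : V ≤ T ⊓ F y := four_le ⟨hyT, h.self y c.yX⟩ ha
    have p : Pair X K F V (T ⊓ K y) y :=
      ⟨c.yX, left_mem_four, fun x hx => (hVF hx).2, inf_le_right, card_four hay.symm, cDy, four_sq, hDy,
        fun v hv u hu => h.comm_FK c.yX c.sylY (hVF hv) hu⟩
    have hzU : z ∈ T ⊓ K y := ⟨hzT, c.zK⟩
    rcases lemmaR_full h hr h1 p c.zX (mem_sup_right hzU) c.sylZ (sup_le (fun x hx => (hVF hx).1) inf_le_left)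
      with h2 | ⟨-, ⟨-, hVK⟩ | ⟨hUF, v₁, hv₁, i₁, hv₁K, w, hw, hwU, hwv, hmv⟩ | ⟨h3, -⟩⟩
    · exact absurd (p.VF h2) (StartC.zFy h c)
    · have hle : V ≤ T ⊓ K z := fun x hx => ⟨(hVF hx).1, hVK hx⟩
      have heq : V = T ⊓ K z := eq_of_le_of_card_ge hle (by rw [cDz, p.cV])
      intro x hx
      rw [← heq] at hx
      exact p.VF hx
    · obtain ⟨v, hv, hv1, hvv⟩ := exists_ne_of_card_four p.cV v₁
      have hmv' := hmv v hv hv1 hvv
      have hv₁F : v₁ ∈ T ⊓ F y := hVF hv₁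
      have hvF : v ∈ T ⊓ F y := hVF hv
      have hnc : w * v ≠ v * w := by
        intro h4
        apply i₁.ne
        rw [h4, mul_inv_cancel_right] at hmv'
        exact (mul_eq_left.1 hmv'.symm)
      have iw : Inv w := ⟨hDz w hw, fun h4 => hnc (by rw [h4, one_mul, mul_one])⟩
      -- `w` is inner at `y`
      have hin : Inner K F y w := by
        by_contra hin
        rcases h.outer_type y c.yX T c.sylY w hw.1 iw hin with ⟨-, h4⟩ | ⟨r, s, hd⟩
        · omega
        · have h5 : w * s * w = s := by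
            rw [hwU s hd.dih.smem, mul_assoc, iw.sq, mul_one]
          rw [hd.es] at h5
          exact hd.dih.r_ne le_rfl (mul_eq_left.1 h5)
      obtain ⟨a', ha', u, hu, e⟩ := h.split y c.yX T c.sylY w hw.1 hin
      obtain ⟨haa, huu⟩ := h.dec_sq c.yX c.sylY ha' hu (by rw [← e]; exact iw.sq)
      have huv : u * v = v * u := (h.comm_FK c.yX c.sylY hvF hu).symm
      have huv₁ : u * v₁ = v₁ * u := (h.comm_FK c.yX c.sylY hv₁F hu).symm
      have hnc' : a' * v ≠ v * a' := by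
        intro h4
        apply hnc
        rw [e, mul_assoc, huv, ← mul_assoc, h4, mul_assoc]
      have ha'v₁ : v₁ * a' = a' * v₁ := by
        have h4 : a' * u * v₁ = v₁ * (a' * u) := by rw [← e]; exact hwv
        rw [mul_assoc, huv₁, ← mul_assoc, ← mul_assoc] at h4
        exact (mul_right_cancel h4).symm
      have ia' : Inv a' := ⟨haa, fun h4 => hnc' (by rw [h4, one_mul, mul_one])⟩
      have hne : v₁ ≠ a' := by
        intro h4
        apply hnc'
        rw [← h4]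
        exact comm_of_sq p.eV hv₁ hv
      have hy4 : y ∈ four v₁ a' i₁ ia' ha'v₁ :=
        h.rank_F hr c.yX c.sylY hv₁F ha' ⟨hyT, h.self y c.yX⟩ i₁ ia' ha'v₁ hne iy.sq
          (StartC.yc h c hv₁F.1).symm (StartC.yc h c ha'.1).symm
      have hV2 : four v₁ a' i₁ ia' ha'v₁ ≤ T ⊓ F y := four_le hv₁F ha'
      have p2 : Pair X K F (four v₁ a' i₁ ia' ha'v₁) (T ⊓ K y) y :=
        ⟨c.yX, hy4, fun x hx => (hV2 hx).2, inf_le_right, card_four hne, cDy, four_sq, hDy,
          fun v hv u hu => h.comm_FK c.yX c.sylY (hV2 hv) hu⟩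
      have hwX : w ∈ X := StartC.invKz h c hw.2 iw
      have hwF : w ∈ F y := by
        rcases lemmaR h hr h1 p2 hwX (by
          rw [e]; exact mul_mem (mem_sup_left right_mem_four) (mem_sup_right hu)) with h4 | h4
        · exact p2.VF h4
        · exact absurd (h.comm_FK c.yX c.sylY hvF h4).symm hnc
      have hv₁w : v₁ * w = w * v₁ := hwv.symm
      have hne2 : v₁ ≠ w := fun h4 => hnc (by rw [← h4]; exact comm_of_sq p.eV hv₁ hv)
      have heq := eq_four cDz i₁ iw hv₁w ⟨hv₁F.1, hv₁K⟩ hw hne2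
      intro x hx
      rw [← heq] at hx
      exact four_le (H := F y) hv₁F.2 hwF hx
    · omega
  -- the pair `(D_z, D_y)`
  have hDzF : (T ⊓ K z : Subgroup G) ≤ T ⊓ F y := fun x hx => ⟨hx.1, key x hx⟩
  have hyDz : y ∈ T ⊓ K z := by
    obtain ⟨a, ha, b, hb, ia, ib, hab, hc⟩ := h.exists_four_K c.zX c.sylZ
    have h2 := h.rank_F hr c.yX c.sylY (hDzF ha) (hDzF hb) ⟨hyT, h.self y c.yX⟩ ia ib hc hab iy.sq
      (StartC.yc h c ha.1).symm (StartC.yc h c hb.1).symm
    exact four_le ha hb h2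
  have p : Pair X K F (T ⊓ K z) (T ⊓ K y) y :=
    ⟨c.yX, hyDz, fun x hx => (hDzF hx).2, inf_le_right, cDz, cDy, hDz, hDy,
      fun v hv u hu => h.comm_FK c.yX c.sylY (hDzF hv) hu⟩
  have hz2 : g * z * g⁻¹ ∈ T ⊓ K z := StartC.memKz h c ⟨hzT, c.zK⟩
  have hle : (T ⊓ K y : Subgroup G) ≤ T ⊓ K (g * z * g⁻¹) := fun u hu =>
    ⟨hu.1, p.uK h hz2 (iz.conj g).ne hu⟩
  have hsyl : SylC (g * z * g⁻¹) T := by
    refine c.sylZ.of_conj rfl ?_
    intro x hx
    have h3 := StartC.zc h c (c.norm' x hx)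
    calc x * (g * z * g⁻¹) = g * ((g⁻¹ * x * g) * z) * g⁻¹ := by group
      _ = g * (z * (g⁻¹ * x * g)) * g⁻¹ := by rw [h3]
      _ = g * z * g⁻¹ * x := by group
  have heq : T ⊓ K y = T ⊓ K (g * z * g⁻¹) :=
    eq_of_le_of_card_ge hle (by rw [cDy, h.card_K_twoC hr (h.conj z c.zX g) hsyl])
  have h2 := h1 _ _ _ p g (by
    intro x hx
    obtain ⟨v, hv, u, hu, rfl⟩ := p.mem.1 hx
    have : g * (v * u) * g⁻¹ = (g * v * g⁻¹) * (g * u * g⁻¹) := by group
    rw [this]
    refine mul_mem (mem_sup_right ?_) (mem_sup_left (StartC.memKz h c hu))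
    rw [heq]
    exact ⟨c.norm v hv.1, h.conjK z c.zX g v hv.2⟩)
  have h3 := h2.1 y hyDz
  rw [c.gy] at h3
  exact h.disj_inv c.zX h3.2 (h.self z c.zX) iz

end StartC

end

end Cfsg.Agent.GH.TOne
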