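import Cfsg.Agent.GH.TOne.Sys

/-!
# GH-L2, `m_2(Q) = 2`, Case II, `n ≥ 3`: the state after steps (1)-(6) of `blueprints/GH-L2-T1.md`
-/

set_option autoImplicit false

namespace Cfsg.Agent.GH.TOne

open Subgroup

variable {G : Type*} [Group G]

/-- `T` is Sylow at `y` and at `z`, `g` normalises `T` and swaps `y`, `z`; `T ∩ F y = T ∩ K z`, `T ∩ F z = T ∩ K y`;
the inner elements of `T` form a subgroup of index 2, `h * h` is not inner for `h ∈ g T`, and no outer involution of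
`T` centralises a four-group of `T ∩ K y` or of `T ∩ K z`. -/
structure Two (X : Set G) (K F : G → Subgroup G) (y z : G) (T : Subgroup G) (g : G) : Prop where
  yX : y ∈ X
  zX : z ∈ X
  conjY : ∀ k ∈ K y, Inv k → ∃ h : G, h * y * h⁻¹ = k
  sylY : SylC y T
  sylZ : SylC z T
  gy : g * y * g⁻¹ = z
  gz : g * z * g⁻¹ = y
  gT : ∀ x ∈ T, g * x * g⁻¹ ∈ T
  zK : z ∈ K y
  yK : y ∈ K z
  QD : T ⊓ F y = T ⊓ K z
  DQ : T ⊓ F z = T ⊓ K y
  yz : y * z ∉ X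
  idx : ∀ t ∈ T, ∀ t' ∈ T, ¬ Inner K F y t → ¬ Inner K F y t' → Inner K F y (t * t')
  gg : g * g ∈ T
  sq : ∀ h : G, (∀ x ∈ T, h * x * h⁻¹ ∈ T) → h * y * h⁻¹ = z → h * h ∈ T → ¬ Inner K F y (h * h)
  dty : ∀ t ∈ T, Inv t → ¬ Inner K F y t → ¬ FType (T ⊓ K y) t ∧ ¬ FType (T ⊓ K z) t

end Cfsg.Agent.GH.TOne
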