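import Cfsg.Agent.GH.TOne.TwoDead

/-!
# GH-L2, `m_2(Q) = 2`, Case II, `n ≥ 3`: parts (1)-(5)
-/

set_option autoImplicit false

namespace Cfsg.Agent.GH.TOne

open Subgroup

variable {G : Type*} [Group G]

/-- `D ⟨p⟩` for `p` normalizing `D`, `p² ∈ D` -/
def adjC (D : Subgroup G) (p : G) (hpp : p * p ∈ D) (hn : ∀ x ∈ D, p * x * p⁻¹ ∈ D) : Subgroup G where
  carrier := {x | x ∈ D ∨ x * p ∈ D}
  one_mem' := Or.inl (one_mem _)
  mul_mem' := by
    have hn' : ∀ x ∈ D, p⁻¹ * x * p ∈ D := by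
      intro x hx
      have h1 := D.mul_mem (D.mul_mem (D.inv_mem hpp) (hn x hx)) hpp
      have e : (p * p)⁻¹ * (p * x * p⁻¹) * (p * p) = p⁻¹ * x * p := by group
      rwa [e] at h1
    rintro a b (ha | ha) (hb | hb)
    · exact Or.inl (mul_mem ha hb)
    · exact Or.inr (by rw [mul_assoc]; exact mul_mem ha hb)
    · right
      have h1 := D.mul_mem ha (hn' b hb)
      have e : a * p * (p⁻¹ * b * p) = a * b * p := by group
      rwa [e] at h1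
    · left
      have h1 := D.mul_mem (D.mul_mem ha (hn' _ hb)) (D.inv_mem hpp)
      have e : a * p * (p⁻¹ * (b * p) * p) * (p * p)⁻¹ = a * b := by group
      rwa [e] at h1
  inv_mem' := by
    rintro a (ha | ha)
    · exact Or.inl (inv_mem ha)
    · right
      have h1 := D.mul_mem (hn _ (D.inv_mem ha)) hpp
      have e : p * (a * p)⁻¹ * p⁻¹ * (p * p) = a⁻¹ * p := by group
      rwa [e] at h1

/-- the last power outside of a subgroup -/
theorem exists_lastC {T H : Subgroup G} (hT : IsPGroup 2 T) {x : G} (hx : x ∈ T) (hxH : x ∉ H) :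
    ∃ k : ℕ, x ^ 2 ^ k ∉ H ∧ x ^ 2 ^ k * x ^ 2 ^ k ∈ H := by
  classical
  obtain ⟨m, hm⟩ := hT ⟨x, hx⟩
  have hm' : x ^ 2 ^ m = 1 := by
    have := congrArg Subtype.val hm
    simpa using this
  have hex : ∃ j, x ^ 2 ^ j ∈ H := ⟨m, by rw [hm']; exact one_mem _⟩
  have h1 := Nat.find_spec hex
  have h0 : Nat.find hex ≠ 0 := by
    intro h2
    rw [h2] at h1
    apply hxH
    simpa using h1
  obtain ⟨k, hk⟩ := Nat.exists_eq_succ_of_ne_zero h0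
  refine ⟨k, Nat.find_min hex (by omega), ?_⟩
  rw [hk] at h1
  rw [← pow_add, ← two_mul, ← pow_succ']
  exact h1

theorem norm_invC [Finite G] {T : Subgroup G} {k : G} (hk : ∀ t ∈ T, k * t * k⁻¹ ∈ T) :
    ∀ t ∈ T, k⁻¹ * t * k ∈ T := by
  intro t ht
  have h1 : T.map (MulAut.conj k).toMonoidHom ≤ T := by
    rintro _ ⟨s, hs, rfl⟩
    exact hk s hs
  have h2 : T.map (MulAut.conj k).toMonoidHom = T := eq_of_le_of_card_ge h1 (card_conj k T).ge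
  rw [← mem_map_conj, h2]
  exact ht

namespace Dih

variable {n : ℕ} {D : Subgroup G} {r s : G}

theorem exists_noncomm (h : Dih n D r s) (hn : 3 ≤ n) {a : G} (ha : a ∈ D) (ia : Inv a)
    (na : a ≠ r ^ 2 ^ (n - 2)) : ∃ x ∈ D, x * a ≠ a * x := by
  by_contra hcon
  push Not at hcon
  exact na (h.eq_cen hn ha ia fun d hd => (hcon d hd).symm)

end Dih

section

variable {X : Set G} {K F : G → Subgroup G} {n : ℕ} {T : Subgroup G} {y z g : G}

/-- The state after part (2). -/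
structure PreC (X : Set G) (K F : G → Subgroup G) (n : ℕ) (T : Subgroup G) (y z g : G) : Prop
    extends StartC X K F T y z g where
  three : 3 ≤ n
  gz : g * z * g⁻¹ = y
  yK : y ∈ K z
  DyFz : ∀ x ∈ T ⊓ K y, x ∈ F z
  DzFy : ∀ x ∈ T ⊓ K z, x ∈ F y
  dihY : ∃ r s : G, Dih n (T ⊓ K y) r s ∧ r ^ 2 ^ (n - 2) = z
  dihZ : ∃ r s : G, Dih n (T ⊓ K z) r s ∧ r ^ 2 ^ (n - 2) = y

namespace PreC

theorem symm (p : PreC X K F n T y z g) : PreC X K F n T z y g :=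
  ⟨⟨p.zX, p.yX, p.sylZ, p.sylY, p.norm, p.norm', p.gz, p.yK⟩, p.three, p.gy, p.zK, p.DzFy, p.DyFz, p.dihZ, p.dihY⟩

variable (h : Sys X K F n) (p : PreC X K F n T y z g)
include h p

theorem comm [Finite G] {a b : G} (ha : a ∈ T ⊓ K y) (hb : b ∈ T ⊓ K z) : a * b = b * a :=
  (h.comm_FK p.yX p.sylY ⟨hb.1, p.DzFy b hb⟩ ha).symm

theorem disj [Finite G] {a : G} (ha : a ∈ T ⊓ K y) (hb : a ∈ T ⊓ K z) : a = 1 :=
  h.eq_one_FK p.yX p.sylY ⟨hb.1, p.DzFy a hb⟩ ha.2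

/-- every `k` normalizing `T` and mapping `y` to `z` swaps `y`, `z` -/
theorem kz [Finite G] {k : G} (hk : ∀ t ∈ T, k * t * k⁻¹ ∈ T) (hky : k * y * k⁻¹ = z) : k * z * k⁻¹ = y := by
  obtain ⟨r, s, hd, hrz⟩ := p.dihZ
  have hzT := StartC.zT h p.toStartC
  have hm : k * z * k⁻¹ ∈ T ⊓ K z := by
    refine ⟨hk z hzT, ?_⟩
    have := h.conjK y p.yX k z p.zK
    rwa [hky] at this
  rw [← hrz]
  refine hd.eq_cen p.three hm ((StartC.iz h p.toStartC).conj k) fun d hd' => ?_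
  have h3 := StartC.zc h p.toStartC (norm_invC hk d hd'.1)
  calc k * z * k⁻¹ * d = k * (z * (k⁻¹ * d * k)) * k⁻¹ := by group
    _ = k * ((k⁻¹ * d * k) * z) * k⁻¹ := by rw [h3]
    _ = d * (k * z * k⁻¹) := by group

/-- (3) parity -/
theorem parity [Finite G] (h1 : AllTOne X K F) {k : G} (hk : ∀ t ∈ T, k * t * k⁻¹ ∈ T) (hky : k * y * k⁻¹ = z)
    {a : G} (ha : a ∈ T ⊓ K z) (ia : Inv a) (hay : a ≠ y) :
    ¬ CjC (T ⊓ K z) a (k * (k * a * k⁻¹) * k⁻¹) := by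
  rintro ⟨d, hd, hda⟩
  have hkz := PreC.kz h p hk hky
  set u := k * a * k⁻¹ with hu
  have huT : u ∈ T ⊓ K y := by
    refine ⟨hk a ha.1, ?_⟩
    have := h.conjK z p.zX k a ha.2
    rwa [hkz] at this
  have hdu : d⁻¹ * u = u * d⁻¹ := (PreC.comm h p huT (inv_mem hd)).symm
  have hdy : d⁻¹ * y = y * d⁻¹ := StartC.yc h p.toStartC (inv_mem hd.1)
  have hdz : d⁻¹ * z = z * d⁻¹ := StartC.zc h p.toStartC (inv_mem hd.1)
  refine StartC.no_swap h p.toStartC h1 (a := a) (u := u) (k := d⁻¹ * k) ⟨ha.1, p.DzFy a ha⟩ ia hay huT (ia.conj k) ?_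
    ?_ ?_ ?_ ?_
  · intro h3
    apply hay
    calc a = k⁻¹ * (k * a * k⁻¹) * k := by group
      _ = k⁻¹ * z * k := by rw [← hu, h3]
      _ = y := by rw [← hky]; group
  · calc d⁻¹ * k * y * (d⁻¹ * k)⁻¹ = d⁻¹ * (k * y * k⁻¹) * d := by group
      _ = d⁻¹ * z * d := by rw [hky]
      _ = z := by rw [hdz]; group
  · calc d⁻¹ * k * z * (d⁻¹ * k)⁻¹ = d⁻¹ * (k * z * k⁻¹) * d := by group
      _ = d⁻¹ * y * d := by rw [hkz]
      _ = y := by rw [hdy]; group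
  · calc d⁻¹ * k * a * (d⁻¹ * k)⁻¹ = d⁻¹ * (k * a * k⁻¹) * d := by group
      _ = d⁻¹ * u * d := by rw [hu]
      _ = u := by rw [hdu]; group
  · calc d⁻¹ * k * u * (d⁻¹ * k)⁻¹ = d⁻¹ * (k * u * k⁻¹) * d := by group
      _ = d⁻¹ * (d * a * d⁻¹) * d := by rw [hda]
      _ = a := by group

theorem gg_parity [Finite G] (h1 : AllTOne X K F) {a : G} (ha : a ∈ T ⊓ K z) (ia : Inv a) (hay : a ≠ y) :
    ¬ CjC (T ⊓ K z) a (g * (g * a * g⁻¹) * g⁻¹) := PreC.parity h p h1 p.norm p.gy ha ia hay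

/-- an element of `T` centralizing `D_y` fixes the classes of `D_z` -/
theorem fix_class [Finite G] (h1 : AllTOne X K F) {q : G} (hq : q ∈ T) (hqc : ∀ x ∈ T ⊓ K y, q * x = x * q) {a : G}
    (ha : a ∈ T ⊓ K z) (ia : Inv a) (hay : a ≠ y) : CjC (T ⊓ K z) a (q * a * q⁻¹) := by
  obtain ⟨r, s, hd, hrz⟩ := p.dihZ
  have hqz : q * z = z * q := StartC.zc h p.toStartC hq
  have hqy : q * y = y * q := StartC.yc h p.toStartC hq
  have ha' : q * a * q⁻¹ ∈ T ⊓ K z := h.normK p.zX p.sylZ q hq a ha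
  have hay' : q * a * q⁻¹ ≠ y := by
    intro h2
    apply hay
    calc a = q⁻¹ * (q * a * q⁻¹) * q := by group
      _ = q⁻¹ * (y * q) := by rw [h2]; group
      _ = y := by rw [← hqy]; group
  have hKz : ∀ b ∈ T ⊓ K z, g * (g * b * g⁻¹) * g⁻¹ ∈ T ⊓ K z := by
    intro b hb
    refine ⟨p.norm _ (p.norm b hb.1), ?_⟩
    have h3 := h.conjK z p.zX g b hb.2
    rw [p.gz] at h3
    have h4 := h.conjK y p.yX g _ h3
    rwa [p.gy] at h4
  have hneg : ∀ b : G, b ≠ y → g * (g * b * g⁻¹) * g⁻¹ ≠ y := by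
    intro b hb h3
    apply hb
    calc b = g⁻¹ * (g⁻¹ * (g * (g * b * g⁻¹) * g⁻¹) * g) * g := by group
      _ = g⁻¹ * (g⁻¹ * y * g) * g := by rw [h3]
      _ = g⁻¹ * z * g := by
        have : g⁻¹ * y * g = z := by rw [← p.gz]; group
        rw [this]
      _ = y := StartC.yeq h p.toStartC
  -- the two other elements
  have h2 := PreC.gg_parity h p h1 ha' (ia.conj q) hay'
  have h3 : ¬ CjC (T ⊓ K z) a (g * (g * (q * a * q⁻¹) * g⁻¹) * g⁻¹) := by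
    have h4 := PreC.parity h p h1 (k := g * q) (by
      intro t ht
      have : g * q * t * (g * q)⁻¹ = g * (q * t * q⁻¹) * g⁻¹ := by group
      rw [this]
      exact p.norm _ (T.mul_mem (T.mul_mem hq ht) (T.inv_mem hq))) (by
      calc g * q * y * (g * q)⁻¹ = g * (q * y * q⁻¹) * g⁻¹ := by group
        _ = g * y * g⁻¹ := by rw [hqy]; group
        _ = z := p.gy) ha ia hay
    have h5 : g * (q * a * q⁻¹) * g⁻¹ ∈ T ⊓ K y := by
      refine ⟨p.norm _ ha'.1, ?_⟩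
      have := h.conjK z p.zX g _ ha'.2
      rwa [p.gz] at this
    have h6 : g * q * (g * q * a * (g * q)⁻¹) * (g * q)⁻¹ = g * (g * (q * a * q⁻¹) * g⁻¹) * g⁻¹ := by
      calc g * q * (g * q * a * (g * q)⁻¹) * (g * q)⁻¹ = g * (q * (g * (q * a * q⁻¹) * g⁻¹) * q⁻¹) * g⁻¹ := by group
        _ = g * (g * (q * a * q⁻¹) * g⁻¹) * g⁻¹ := by rw [hqc _ h5]; group
    rwa [h6] at h4
  rcases hd.two_classes (by have := p.three; omega) ha ha' (hKz _ ha') ia (ia.conj q) (((ia.conj q).conj g).conj g)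
    (by rw [hrz]; exact hay) (by rw [hrz]; exact hay') (by rw [hrz]; exact hneg _ hay') with h4 | h4 | h4
  · exact h4
  · exact absurd h4 h2
  · exact absurd h4 h3

/-- Lemma P applied: there is no `q ∈ T` centralizing `D_y`, outside of `D_y D_z`, with `q² ∈ D_z` -/
theorem kill [Finite G] (hr : RankFour G) (h1 : AllTOne X K F) {q : G} (hq : q ∈ T)
    (hqc : ∀ x ∈ T ⊓ K y, q * x = x * q) (hqq : q * q ∈ T ⊓ K z) (hdis : ∀ w ∈ T ⊓ K y, w * q ∉ T ⊓ K z) :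
    False := by
  obtain ⟨r, s, hd, hrz⟩ := p.dihZ
  have hn3 := p.three
  have hsy : s ≠ y := by rw [← hrz]; exact hd.z_ne_s.symm
  obtain ⟨d, hdD, hds⟩ := PreC.fix_class h p h1 hq hqc hd.smem hd.sInv hsy
  have hnq : ∀ x ∈ T ⊓ K z, q * x * q⁻¹ ∈ T ⊓ K z := h.normK p.zX p.sylZ q hq
  set q1 := d⁻¹ * q with hq1
  have hq1T : q1 ∈ T := T.mul_mem (T.inv_mem hdD.1) hq
  have hn : ∀ x ∈ T ⊓ K z, q1 * x * q1⁻¹ ∈ T ⊓ K z := h.normK p.zX p.sylZ q1 hq1T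
  have hqs : q1 * s = s * q1 := by
    have h2 : q1 * s * q1⁻¹ = s := by
      calc q1 * s * q1⁻¹ = d⁻¹ * (q * s * q⁻¹) * d := by rw [hq1]; group
        _ = s := by rw [← hds]; group
    exact mul_inv_eq_iff_eq_mul.1 h2
  have hqq1 : q1 * q1 ∈ T ⊓ K z := by
    have h2 := mul_mem (mul_mem (inv_mem hdD) (hnq _ (inv_mem hdD))) hqq
    have e : d⁻¹ * (q * d⁻¹ * q⁻¹) * (q * q) = q1 * q1 := by rw [hq1]; group
    rwa [e] at h2
  have hdc : ∀ x ∈ T ⊓ K y, d⁻¹ * x = x * d⁻¹ := fun x hx => (PreC.comm h p hx (inv_mem hdD)).symm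
  have hqc1 : ∀ x ∈ T ⊓ K y, q1 * x = x * q1 := by
    intro x hx
    rw [hq1, mul_assoc, hqc x hx, ← mul_assoc, hdc x hx, mul_assoc]
  have hdis1 : ∀ w ∈ T ⊓ K y, w * q1 ∉ T ⊓ K z := by
    intro w hw h2
    apply hdis w hw
    have h3 := mul_mem hdD h2
    have e : d * (w * q1) = w * q := by
      rw [hq1, ← mul_assoc w, ← hdc w hw]; group
    rwa [e] at h3
  have hqD1 : q1 ∉ T ⊓ K z := by
    have := hdis1 1 (one_mem _)
    rwa [one_mul] at this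
  obtain ⟨u, hu, v, hv, iu, iv, huv, huv'⟩ := h.exists_four_K p.yX p.sylY
  have hnot : ∀ w ∈ T ⊓ K y, w ≠ 1 → w ∉ adjC (T ⊓ K z) q1 hqq1 hn := by
    rintro w hw hw1 (h2 | h2)
    · exact hw1 (PreC.disj h p hw h2)
    · exact hdis1 w hw h2
  have hcomm : ∀ w ∈ T ⊓ K y, ∀ x ∈ adjC (T ⊓ K z) q1 hqq1 hn, w * x = x * w := by
    rintro w hw x (h2 | h2)
    · exact PreC.comm h p hw h2
    · have h3 := PreC.comm h p hw h2
      have h4 := hqc1 w hw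
      have h5 : w * q1⁻¹ = q1⁻¹ * w := by
        rw [eq_inv_mul_iff_mul_eq, ← mul_assoc, h4, mul_inv_cancel_right]
      calc w * x = w * (x * q1) * q1⁻¹ := by group
        _ = x * q1 * (w * q1⁻¹) := by rw [h3]; group
        _ = x * w := by rw [h5]; group
  exact DihP.false_of_fix hr hn3 hd (Q := adjC (T ⊓ K z) q1 hqq1 hn) (fun x hx => Or.inl hx)
    (p := q1) (Or.inr hqq1) hn hqD1 hqq1 hqs iu iv huv huv' (hcomm u hu) (hcomm v hv)
    ⟨hnot u hu iu.ne, hnot v hv iv.ne, hnot _ (mul_mem hu hv) (iu.mul iv huv' huv).ne⟩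

/-- (4) -/
theorem FyKz [Finite G] (hr : RankFour G) (h1 : AllTOne X K F) : ∀ x ∈ T, x ∈ F y → x ∈ K z := by
  intro x hx hxF
  by_contra hxK
  obtain ⟨k, hk1, hk2⟩ := exists_lastC (H := T ⊓ K z) p.sylY.two hx (fun h2 => hxK h2.2)
  have hqT : x ^ 2 ^ k ∈ T := pow_mem hx _
  have hqF : x ^ 2 ^ k ∈ F y := pow_mem hxF _
  refine PreC.kill h p hr h1 (q := x ^ 2 ^ k) hqT (fun w hw => h.comm_FK p.yX p.sylY ⟨hqT, hqF⟩ hw) hk2 ?_
  intro w hw h2
  have h3 : w ∈ F y := by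
    have h4 := mul_mem (p.DzFy _ h2) (inv_mem hqF)
    rwa [mul_inv_cancel_right] at h4
  have h4 : w = 1 := h.eq_one_FK p.yX p.sylY ⟨hw.1, h3⟩ hw.2
  rw [h4, one_mul] at h2
  exact hk1 h2

theorem inner_iff [Finite G] (hr : RankFour G) (h1 : AllTOne X K F) {x : G} (hx : x ∈ T) :
    Inner K F y x ↔ ∃ a ∈ T ⊓ K y, ∃ b ∈ T ⊓ K z, x = a * b := by
  constructor
  · intro hin
    obtain ⟨q, hq, d, hd, e⟩ := h.split y p.yX T p.sylY x hx hin
    refine ⟨d, hd, q, ⟨hq.1, PreC.FyKz h p hr h1 q hq.1 hq.2⟩, ?_⟩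
    rw [e, h.comm_FK p.yX p.sylY hq hd]
  · rintro ⟨a, ha, b, hb, rfl⟩
    refine ⟨b, p.DzFy b hb, a, ha.2, ?_⟩
    rw [PreC.comm h p ha hb]

theorem inner_iff' [Finite G] (hr : RankFour G) (h1 : AllTOne X K F) {x : G} (hx : x ∈ T) :
    Inner K F z x ↔ ∃ a ∈ T ⊓ K y, ∃ b ∈ T ⊓ K z, x = a * b := by
  rw [PreC.inner_iff h p.symm hr h1 hx]
  constructor
  · rintro ⟨a, ha, b, hb, e⟩
    exact ⟨b, hb, a, ha, by rw [e, PreC.comm h p hb ha]⟩
  · rintro ⟨a, ha, b, hb, e⟩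
    exact ⟨b, hb, a, ha, by rw [e, PreC.comm h p ha hb]⟩

theorem inner_yz [Finite G] (hr : RankFour G) (h1 : AllTOne X K F) {x : G} (hx : x ∈ T) :
    Inner K F y x ↔ Inner K F z x := by rw [PreC.inner_iff h p hr h1 hx, PreC.inner_iff' h p hr h1 hx]

/-- (5) outer elements swap the classes of `D_y` -/
theorem swapY [Finite G] (hr : RankFour G) (h1 : AllTOne X K F) {t : G} (ht : t ∈ T) (hin : ¬ Inner K F y t) {a : G}
    (ha : a ∈ T ⊓ K y) (ia : Inv a) (haz : a ≠ z) : ¬ CjC (T ⊓ K y) a (t * a * t⁻¹) := by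
  intro hc
  obtain ⟨r, s, hd, hrz⟩ := p.dihY
  obtain ⟨k, hk1, hk2⟩ := exists_lastC (H := h.inn p.yX) p.sylY.two ht hin
  have hpow : ∀ m : ℕ, CjC (T ⊓ K y) a (t ^ m * a * (t ^ m)⁻¹) := by
    intro m
    induction m with
    | zero => rw [pow_zero, one_mul, inv_one, mul_one]; exact CjC.refl _ _
    | succ m ih =>
      have h2 := ih.map (g := t) (h.normK p.yX p.sylY t ht)
      have e : t ^ (m + 1) * a * (t ^ (m + 1))⁻¹ = t * (t ^ m * a * (t ^ m)⁻¹) * t⁻¹ := by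
        rw [pow_succ']; group
      rw [e]
      exact hc.trans h2
  set t1 := t ^ 2 ^ k with ht1
  have ht1T : t1 ∈ T := pow_mem ht _
  obtain ⟨d, hdD, hde⟩ := hpow (2 ^ k)
  obtain ⟨b, hb, hbc, hbF⟩ := h.outer_field p.three y p.yX T p.sylY t1 ht1T hk1 hk2
    ⟨a, ha, ia, hd.exists_noncomm p.three ha ia (by rw [hrz]; exact haz), d, hdD, hde.symm⟩
  have hqT : t1 * b ∈ T := T.mul_mem ht1T hb.1
  refine PreC.kill h p hr h1 (q := t1 * b) hqT hbc ⟨T.mul_mem hqT hqT, PreC.FyKz h p hr h1 _ (T.mul_mem hqT hqT) hbF⟩ ?_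
  intro w hw h2
  apply hk1
  have h3 : t1 = w⁻¹ * (w * (t1 * b)) * b⁻¹ := by group
  change Inner K F y t1
  rw [h3]
  exact h.inner_mul p.yX (h.inner_mul p.yX (Sys.inner_of_K (inv_mem hw.2)) (Sys.inner_of_F (p.DzFy _ h2)))
    (Sys.inner_of_K (inv_mem hb.2))

end PreC

end

end Cfsg.Agent.GH.TOne
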