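import Cfsg.Agent.GH.TOne.LemmaR
import Cfsg.Agent.GH.TOne.DihLem
import Cfsg.Agent.GH.TOne.LemPDih
import Cfsg.Agent.GH.TOne.Struct
import Cfsg.Agent.Transfer.PGroupNormal

/-!
# GH-L2, `m_2(Q) = 2`, Case II: the start, and the case `n = 2`
-/

set_option autoImplicit false

namespace Cfsg.Agent.GH.TOne

open Subgroup

variable {G : Type*} [Group G]

/-- conjugacy under `D` -/
def CjC (D : Subgroup G) (a b : G) : Prop := ∃ d ∈ D, d * a * d⁻¹ = b

theorem CjC.refl (D : Subgroup G) (a : G) : CjC D a a := ⟨1, one_mem _, by group⟩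

theorem CjC.symm {D : Subgroup G} {a b : G} (h : CjC D a b) : CjC D b a := by
  obtain ⟨d, hd, rfl⟩ := h
  exact ⟨d⁻¹, inv_mem hd, by group⟩

theorem CjC.trans {D : Subgroup G} {a b c : G} (h : CjC D a b) (h' : CjC D b c) : CjC D a c := by
  obtain ⟨d, hd, rfl⟩ := h
  obtain ⟨e, he, rfl⟩ := h'
  exact ⟨e * d, mul_mem he hd, by group⟩

/-- transport of `D`-conjugacy -/
theorem CjC.map {D D' : Subgroup G} {a b : G} (h : CjC D a b) {g : G} (hg : ∀ d ∈ D, g * d * g⁻¹ ∈ D') :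
    CjC D' (g * a * g⁻¹) (g * b * g⁻¹) := by
  obtain ⟨d, hd, rfl⟩ := h
  exact ⟨g * d * g⁻¹, hg d hd, by group⟩

namespace Dih

variable {n : ℕ} {D : Subgroup G} {r s : G}

/-- a noncentral involution is a reflection -/
theorem exists_refl (h : Dih n D r s) (hn : 2 ≤ n) {a : G} (ha : a ∈ D) (ia : Inv a) (na : a ≠ r ^ 2 ^ (n - 2)) :
    ∃ i : ℤ, a = r ^ i * s := by
  obtain ⟨i, rfl | rfl⟩ := h.exh' ha
  · rcases h.rot_sq hn ia.sq with h1 | h1
    · exact absurd h1 ia.ne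
    · exact absurd h1 na
  · exact ⟨i, rfl⟩

theorem conj_refl (h : Dih n D r s) {i j : ℤ} (hij : Even (j - i)) : CjC D (r ^ i * s) (r ^ j * s) := by
  obtain ⟨m, hm⟩ := hij
  refine ⟨r ^ m, h.zpow_mem m, ?_⟩
  have h1 : s * r ^ (-m) = r ^ m * s := by rw [h.s_zpow, neg_neg]
  calc r ^ m * (r ^ i * s) * (r ^ m)⁻¹ = r ^ m * r ^ i * (s * r ^ (-m)) := by rw [zpow_neg]; group
    _ = r ^ m * r ^ i * r ^ m * s := by rw [h1]; group
    _ = r ^ j * s := by
      rw [← zpow_add, ← zpow_add]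
      congr 2
      omega

/-- three noncentral involutions: two of them are conjugate -/
theorem two_classes (h : Dih n D r s) (hn : 2 ≤ n) {a b c : G} (ha : a ∈ D) (hb : b ∈ D) (hc : c ∈ D)
    (ia : Inv a) (ib : Inv b) (ic : Inv c) (na : a ≠ r ^ 2 ^ (n - 2)) (nb : b ≠ r ^ 2 ^ (n - 2))
    (nc : c ≠ r ^ 2 ^ (n - 2)) : CjC D a b ∨ CjC D b c ∨ CjC D a c := by
  obtain ⟨i, rfl⟩ := h.exists_refl hn ha ia na
  obtain ⟨j, rfl⟩ := h.exists_refl hn hb ib nb
  obtain ⟨k, rfl⟩ := h.exists_refl hn hc ic nc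
  by_cases h1 : Even (j - i)
  · exact Or.inl (h.conj_refl h1)
  · by_cases h2 : Even (k - j)
    · exact Or.inr (Or.inl (h.conj_refl h2))
    · refine Or.inr (Or.inr (h.conj_refl ?_))
      rw [Int.not_even_iff_odd] at h1 h2
      have : k - i = (k - j) + (j - i) := by ring
      rw [this]
      exact h2.add_odd h1

/-- `D` is generated by its noncentral involutions -/
theorem le_of_refl (h : Dih n D r s) (hn : 3 ≤ n) {H : Subgroup G}
    (hH : ∀ u ∈ D, Inv u → u ≠ r ^ 2 ^ (n - 2) → u ∈ H) : D ≤ H := by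
  have hs : s ∈ H := hH s h.smem h.sInv h.z_ne_s.symm
  have hrs : r * s ∈ H := by
    refine hH _ (mul_mem h.rmem h.smem) ⟨?_, ?_⟩ ?_
    · have := h.refl_sq 1
      rwa [zpow_one] at this
    · intro h1
      apply h.notMem
      have : s = r⁻¹ := (inv_eq_of_mul_eq_one_right h1).symm
      rw [this]
      exact inv_mem (mem_zpowers r)
    · intro h1
      apply h.notMem
      have : s = r⁻¹ * r ^ 2 ^ (n - 2) := by rw [← h1]; group
      rw [this]
      exact mul_mem (inv_mem (mem_zpowers r)) (npow_mem_zpowers r _)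
  have hr : r ∈ H := by
    have := mul_mem hrs hs
    rwa [mul_assoc, h.sq, mul_one] at this
  intro x hx
  obtain ⟨i, rfl | rfl⟩ := h.exh x hx
  · exact pow_mem hr i
  · exact mul_mem (pow_mem hr i) hs

theorem r_sq_ne (h : Dih n D r s) (hn : 3 ≤ n) : r * r ≠ 1 := by
  intro h1
  have h2 : r ^ 2 = 1 := by rw [pow_two]; exact h1
  have h3 := orderOf_dvd_of_pow_eq_one h2
  rw [h.ord] at h3
  have h4 := (Nat.pow_dvd_pow_iff_le_right (by norm_num : 1 < 2)).1 (show 2 ^ (n - 1) ∣ 2 ^ 1 by simpa using h3)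
  omega

theorem r_ne (h : Dih n D r s) (hn : 2 ≤ n) : r ≠ 1 := by
  intro h1
  have h2 := h.ord
  rw [h1, orderOf_one] at h2
  have h3 : 1 < 2 ^ (n - 1) := Nat.one_lt_two_pow (by omega)
  omega

end Dih

/-- The state at the beginning of Case II. -/
structure StartC (X : Set G) (K F : G → Subgroup G) (T : Subgroup G) (y z g : G) : Prop where
  yX : y ∈ X
  zX : z ∈ X
  sylY : SylC y T
  sylZ : SylC z T
  norm : ∀ t ∈ T, g * t * g⁻¹ ∈ T
  norm' : ∀ t ∈ T, g⁻¹ * t * g ∈ T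
  gy : g * y * g⁻¹ = z
  zK : z ∈ K y

theorem exists_centralC [Finite G] {T D : Subgroup G} (hT : IsPGroup 2 T) (hD : D ≤ T)
    (hn : ∀ t ∈ T, ∀ d ∈ D, t * d * t⁻¹ ∈ D) (hne : ∃ d ∈ D, d ≠ 1) :
    ∃ z ∈ D, Inv z ∧ ∀ t ∈ T, t * z = z * t := by
  have : Fact (Nat.Prime 2) := ⟨Nat.prime_two⟩
  have hN : (D.subgroupOf T).Normal := ⟨fun d hd t => by
    rw [mem_subgroupOf] at hd ⊢
    exact hn t t.2 d hd⟩
  obtain ⟨d, hd, hd1⟩ := hne
  obtain ⟨z, hz, hzc, hz2⟩ := Transfer.PGroupNormal.exists_mem_inf_center_orderOf hT (D.subgroupOf T) (by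
    intro h1
    rw [subgroupOf_eq_bot, disjoint_iff_inf_le] at h1
    exact hd1 (h1 ⟨hd, hD hd⟩))
  refine ⟨z, hz, ⟨?_, ?_⟩, ?_⟩
  · have h1 : z ^ 2 = 1 := by rw [← hz2]; exact pow_orderOf_eq_one z
    have h2 := congrArg Subtype.val h1
    simpa [pow_two] using h2
  · intro h1
    have h2 : z = 1 := Subtype.ext h1
    rw [h2, orderOf_one] at hz2
    omega
  · intro t ht
    have := mem_center_iff.1 hzc ⟨t, ht⟩
    exact congrArg Subtype.val this

section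

variable {X : Set G} {K F : G → Subgroup G} {n : ℕ} {T : Subgroup G} {y z g : G}

theorem exists_startC [Finite G] (h : Sys X K F n) (hy : y ∈ X)
    (hx : ∃ x ∈ K y, Inv x ∧ ∃ g : G, g * y * g⁻¹ = x) (hT : SylC y T) :
    ∃ z g : G, StartC X K F T y z g := by
  obtain ⟨z, hzD, iz, hzc⟩ := exists_centralC (D := T ⊓ K y) hT.two inf_le_left
    (h.normK hy hT) (by
      obtain ⟨a, ha, -, -, ia, -⟩ := h.exists_four_K hy hT
      exact ⟨a, ha, ia.ne⟩)
  obtain ⟨x, hxK, ix, g0, hg0⟩ := hx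
  obtain ⟨k, hk, hkx⟩ := h.one y hy x hxK z hzD.2 ix iz
  have hg1 : (k * g0) * y * (k * g0)⁻¹ = z := by
    rw [← hkx, ← hg0]; group
  have hTz : SylC z T := hT.of_conj hg1 hzc
  have h1 := hT.conj (k * g0)
  rw [hg1] at h1
  obtain ⟨c, hc, hcT⟩ := h1.exists_conj hTz
  have key : T.map (MulAut.conj (c * (k * g0))).toMonoidHom = T := by
    ext w
    rw [mem_map_conj]
    conv_rhs => rw [← hcT, mem_map_conj, mem_map_conj]
    have e : (c * (k * g0))⁻¹ * w * (c * (k * g0)) = (k * g0)⁻¹ * (c⁻¹ * w * c) * (k * g0) := by group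
    rw [e]
  have hzX : z ∈ X := by rw [← hg1]; exact h.conj y hy _
  have hn : ∀ t, t ∈ T ↔ (c * (k * g0)) * t * (c * (k * g0))⁻¹ ∈ T := by
    intro t
    conv_rhs => rw [← key, mem_map_conj]
    have e : (c * (k * g0))⁻¹ * (c * (k * g0) * t * (c * (k * g0))⁻¹) * (c * (k * g0)) = t := by group
    rw [e]
  refine ⟨z, c * (k * g0), hy, hzX, hT, hTz, fun t ht => (hn t).1 ht, fun t ht => ?_, ?_, hzD.2⟩
  · rw [hn]
    have e : c * (k * g0) * ((c * (k * g0))⁻¹ * t * (c * (k * g0))) * (c * (k * g0))⁻¹ = t := by group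
    rw [e]; exact ht
  · calc c * (k * g0) * y * (c * (k * g0))⁻¹ = c * ((k * g0) * y * (k * g0)⁻¹) * c⁻¹ := by group
      _ = z := by rw [hg1, hc]; group

namespace StartC

variable (h : Sys X K F n) (c : StartC X K F T y z g)
include h c

theorem zc {t : G} (ht : t ∈ T) : t * z = z * t := c.sylZ.cent t ht

theorem yc {t : G} (ht : t ∈ T) : t * y = y * t := c.sylY.cent t ht

theorem yT [Finite G] : y ∈ T := h.mem_T c.yX c.sylY

theorem zT [Finite G] : z ∈ T := h.mem_T c.zX c.sylZ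

theorem iy : Inv y := h.inv y c.yX

theorem iz : Inv z := h.inv z c.zX

theorem zFy : z ∉ F y := fun h1 => h.disj_inv c.yX c.zK h1 (StartC.iz h c)

theorem yFz : y ∉ F z := fun h1 => StartC.zFy h c (h.symm c.zX c.yX h1)

theorem yne : y ≠ z := fun h1 => StartC.yFz h c (by rw [h1]; exact h.self z c.zX)

theorem memKz {x : G} (hx : x ∈ T ⊓ K y) : g * x * g⁻¹ ∈ T ⊓ K z := by
  refine ⟨c.norm x hx.1, ?_⟩
  have := h.conjK y c.yX g x hx.2
  rwa [c.gy] at this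

theorem memFz {x : G} (hx : x ∈ T ⊓ F y) : g * x * g⁻¹ ∈ T ⊓ F z := by
  refine ⟨c.norm x hx.1, ?_⟩
  have := h.conjF y c.yX g x hx.2
  rwa [c.gy] at this

theorem yeq : g⁻¹ * z * g = y := by rw [← c.gy]; group

theorem memKy {x : G} (hx : x ∈ T ⊓ K z) : g⁻¹ * x * g ∈ T ⊓ K y := by
  refine ⟨c.norm' x hx.1, ?_⟩
  have := h.conjK z c.zX g⁻¹ x hx.2
  rwa [inv_inv, StartC.yeq h c] at this

theorem memFy {x : G} (hx : x ∈ T ⊓ F z) : g⁻¹ * x * g ∈ T ⊓ F y := by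
  refine ⟨c.norm' x hx.1, ?_⟩
  have := h.conjF z c.zX g⁻¹ x hx.2
  rwa [inv_inv, StartC.yeq h c] at this

/-- all involutions of `K y`, and of `K z`, lie in `X` -/
theorem invKy {x : G} (hx : x ∈ K y) (ix : Inv x) : x ∈ X := by
  obtain ⟨k, _, hk⟩ := h.one y c.yX z c.zK x hx (StartC.iz h c) ix
  rw [← hk]
  exact h.conj z c.zX k

theorem invKz {x : G} (hx : x ∈ K z) (ix : Inv x) : x ∈ X := by
  have h1 : g⁻¹ * x * g ∈ K y := by
    have := h.conjK z c.zX g⁻¹ x hx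
    rwa [inv_inv, StartC.yeq h c] at this
  have h2 : Inv (g⁻¹ * x * g) := by
    have := ix.conj g⁻¹
    rwa [inv_inv] at this
  have h3 := h.conj _ (StartC.invKy h c h1 h2) g
  have e : g * (g⁻¹ * x * g) * g⁻¹ = x := by group
  rwa [e] at h3

/-- a four-group of `T ∩ F y` containing `y` and a four-group of `T ∩ K y` form a pair -/
theorem pairY [Finite G] {a b₁ b₂ : G} (ha : a ∈ T ⊓ F y) (ia : Inv a) (hay : a ≠ y) (h₁ : b₁ ∈ T ⊓ K y)
    (h₂ : b₂ ∈ T ⊓ K y) (i₁ : Inv b₁) (i₂ : Inv b₂) (h12 : b₁ ≠ b₂) (hc : b₁ * b₂ = b₂ * b₁) :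
    Pair X K F (four y a (StartC.iy h c) ia (StartC.yc h c ha.1).symm) (four b₁ b₂ i₁ i₂ hc) y := by
  have hVF : four y a (StartC.iy h c) ia (StartC.yc h c ha.1).symm ≤ T ⊓ F y :=
    four_le ⟨StartC.yT h c, h.self y c.yX⟩ ha
  have hUK : four b₁ b₂ i₁ i₂ hc ≤ T ⊓ K y := four_le h₁ h₂
  exact ⟨c.yX, left_mem_four, fun x hx => (hVF hx).2, fun x hx => (hUK hx).2, card_four hay.symm, card_four h12,
    four_sq, four_sq, fun v hv u hu => h.comm_FK c.yX c.sylY (hVF hv) (hUK hu)⟩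

theorem pairZ [Finite G] {a b₁ b₂ : G} (ha : a ∈ T ⊓ F z) (ia : Inv a) (haz : a ≠ z) (h₁ : b₁ ∈ T ⊓ K z)
    (h₂ : b₂ ∈ T ⊓ K z) (i₁ : Inv b₁) (i₂ : Inv b₂) (h12 : b₁ ≠ b₂) (hc : b₁ * b₂ = b₂ * b₁) :
    Pair X K F (four z a (StartC.iz h c) ia (StartC.zc h c ha.1).symm) (four b₁ b₂ i₁ i₂ hc) z := by
  have hVF : four z a (StartC.iz h c) ia (StartC.zc h c ha.1).symm ≤ T ⊓ F z :=
    four_le ⟨StartC.zT h c, h.self z c.zX⟩ ha
  have hUK : four b₁ b₂ i₁ i₂ hc ≤ T ⊓ K z := four_le h₁ h₂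
  exact ⟨c.zX, left_mem_four, fun x hx => (hVF hx).2, fun x hx => (hUK hx).2, card_four haz.symm, card_four h12,
    four_sq, four_sq, fun v hv u hu => h.comm_FK c.zX c.sylZ (hVF hv) (hUK hu)⟩

/-- `y` is inner at `z` -/
theorem innerY [Finite G] (hr : RankFour G) : Inner K F z y := by
  by_contra hin
  rcases h.outer_type z c.zX T c.sylZ y (StartC.yT h c) (StartC.iy h c) hin with ⟨hf, -⟩ | ⟨r, s, hd⟩
  · obtain ⟨a, ha, ia, hne⟩ := h.exists_inv_F c.zX c.sylZ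
    have := h.ftype_unique hr c.zX c.sylZ (StartC.iy h c) hin hf ⟨StartC.zT h c, h.self z c.zX⟩ ha (StartC.iz h c) ia
      (StartC.zc h c ha.1).symm (StartC.yc h c (StartC.zT h c)) (StartC.yc h c ha.1)
    exact hne this.symm
  · have hs : s ∈ T := hd.dih.smem.1
    have h1 : y * s * y = s := by
      rw [← StartC.yc h c hs, mul_assoc, (StartC.iy h c).sq, mul_one]
    rw [hd.es] at h1
    exact hd.dih.r_ne h.two_le (mul_eq_left.1 h1)

/-- `y ∈ K z` -/
theorem yK [Finite G] (hr : RankFour G) (h1 : AllTOne X K F) : y ∈ K z := by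
  obtain ⟨a, ha, b, hb, e⟩ := h.split z c.zX T c.sylZ y (StartC.yT h c) (StartC.innerY h c hr)
  have hyy : a * b * (a * b) = 1 := by rw [← e]; exact (StartC.iy h c).sq
  obtain ⟨haa, hbb⟩ := h.dec_sq c.zX c.sylZ ha hb hyy
  have hcm : ∀ x ∈ T, x * a = a * x ∧ x * b = b * x := fun x hx =>
    h.dec_comm c.zX c.sylZ hx ha hb (by rw [← e]; exact StartC.yc h c hx)
  by_cases ha1 : a = 1
  · rw [e, ha1, one_mul]; exact hb.2
  exfalso
  have hb1 : b ≠ 1 := by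
    intro hb1
    apply StartC.yFz h c
    rw [e, hb1, mul_one]; exact ha.2
  have ia : Inv a := ⟨haa, ha1⟩
  have ib : Inv b := ⟨hbb, hb1⟩
  -- second involution of `T ∩ K z`
  obtain ⟨u, hu, iu, hub⟩ : ∃ u ∈ T ⊓ K z, Inv u ∧ u ≠ b := by
    obtain ⟨u, hu, v, hv, iu, iv, huv, -⟩ := h.exists_four_K c.zX c.sylZ
    by_cases hub : u = b
    · exact ⟨v, hv, iv, fun e' => huv (by rw [hub, e'])⟩
    · exact ⟨u, hu, iu, hub⟩
  have hbu : b * u = u * b := ((hcm u hu.1).2).symm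
  -- an involution `a' ≠ z` of `T ∩ F z` with `a ∈ ⟨z, a'⟩`
  obtain ⟨a', ha', ia', hne, haa'⟩ : ∃ a' ∈ T ⊓ F z, ∃ ia' : Inv a', ∃ hne : a' ≠ z, (a = z ∨ a = a') := by
    by_cases haz : a = z
    · obtain ⟨a', ha', ia', hne⟩ := h.exists_inv_F c.zX c.sylZ
      exact ⟨a', ha', ia', hne, Or.inl haz⟩
    · exact ⟨a, ha, ia, haz, Or.inr rfl⟩
  have p := StartC.pairZ h c ha' ia' hne hb hu ib iu hub.symm hbu
  have haV : a ∈ four z a' (StartC.iz h c) ia' (StartC.zc h c ha'.1).symm := by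
    rcases haa' with h2 | h2
    · rw [h2]; exact left_mem_four
    · rw [h2]; exact right_mem_four
  have hyE : y ∈ four z a' (StartC.iz h c) ia' (StartC.zc h c ha'.1).symm ⊔ four b u ib iu hbu :=
    (congrArg (fun w => w ∈ four z a' (StartC.iz h c) ia' (StartC.zc h c ha'.1).symm ⊔ four b u ib iu hbu) e).mpr
      (mul_mem (mem_sup_left haV) (mem_sup_right left_mem_four))
  rcases lemmaR h hr h1 p c.yX hyE with h2 | h2
  · exact StartC.yFz h c (p.VF h2)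
  · have h3 : y ∈ K z := p.UK h2
    have h4 : a ∈ K z := by
      have h5 := mul_mem h3 (inv_mem hb.2)
      rw [e, mul_inv_cancel_right] at h5
      exact h5
    exact ha1 (h.eq_one_FK c.zX c.sylZ ha h4)

/-- `y z ∉ X` -/
theorem yzX [Finite G] (hr : RankFour G) (h1 : AllTOne X K F) : y * z ∉ X := by
  intro hX
  obtain ⟨a, ha, ia, hne⟩ := h.exists_inv_F c.yX c.sylY
  have hzD : z ∈ T ⊓ K y := ⟨StartC.zT h c, c.zK⟩
  obtain ⟨u, hu, iu, huz⟩ : ∃ u ∈ T ⊓ K y, Inv u ∧ u ≠ z := by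
    obtain ⟨u, hu, v, hv, iu, iv, huv, -⟩ := h.exists_four_K c.yX c.sylY
    by_cases huz : u = z
    · exact ⟨v, hv, iv, fun e' => huv (by rw [huz, e'])⟩
    · exact ⟨u, hu, iu, huz⟩
  have p := StartC.pairY h c ha ia hne hzD hu (StartC.iz h c) iu huz.symm (StartC.zc h c hu.1).symm
  rcases lemmaR h hr h1 p hX (mul_mem (mem_sup_left left_mem_four) (mem_sup_right left_mem_four)) with h2 | h2
  · apply StartC.zFy h c
    have h3 := mul_mem (inv_mem (h.self y c.yX)) (p.VF h2)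
    rwa [inv_mul_cancel_left] at h3
  · have h3 : y ∈ K y := by
      have h4 := mul_mem (p.UK h2) (inv_mem c.zK)
      rwa [mul_inv_cancel_right] at h4
    exact h.disj_inv c.yX h3 (h.self y c.yX) (StartC.iy h c)

end StartC

end

end Cfsg.Agent.GH.TOne
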